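import Cfsg.Agent.H65.BSW.Common
import Cfsg.Agent.H28.ZassKernel
import Mathlib.GroupTheory.GroupAction.Quotient
import Mathlib.GroupTheory.GroupAction.MultipleTransitivity

/-!
# A simple group in the conclusion of the abstract Brauer-Suzuki-Wall theorem is a Zassenhaus group
-/

set_option autoImplicit false
set_option linter.unusedSectionVars false
set_option linter.style.haveILetI false

open MulAction
open scoped Pointwise

namespace Cfsg.Agent.H65.BSW

universe u

variable {G : Type u} [Group G] [Finite G]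

/-- The action on the conjugates of `Q` is that of a Zassenhaus group with abelian kernel `Q` and
two-point stabiliser of order `(|Q| - 1) / 2`. -/
theorem exists_zassenhaus [IsSimpleGroup G] (h : Concl G) :
    ∃ (N F : Subgroup G) (b : G ⧸ N), Cfsg.IsZassenhausGroup G (G ⧸ N) ∧
      H28.Zass.IsKer ((1 : G) : G ⧸ N) F ∧ ((1 : G) : G ⧸ N) ≠ b ∧
      (∀ u ∈ F, ∀ v ∈ F, u * v = v * u) ∧
      2 * Nat.card ↥(stabilizer G ((1 : G) : G ⧸ N) ⊓ stabilizer G b) + 1 = Nat.card ↥F := by
  classical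
  obtain ⟨Q, D, hcard, hcent, -, hd, hQD, hN, hX⟩ := h
  set q := Nat.card ↥Q with hq
  set d := Nat.card ↥D with hddef
  have hdpos : 0 < d := Nat.card_pos
  have hQab : IsMulCommutative ↥Q := by
    refine ⟨⟨fun x y => Subtype.ext ?_⟩⟩
    by_cases hx : (x : G) = 1
    · rw [Subgroup.coe_mul, Subgroup.coe_mul, hx, one_mul, mul_one]
    · have := (hcent x x.2 hx).ge y.2
      rw [Subgroup.mem_centralizer_singleton_iff] at this
      exact this.symm
  set N := Subgroup.normalizer (Q : Set G) with hNdef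
  have hQN : Q ≤ N := Subgroup.le_normalizer
  have hDN : D ≤ N := hN ▸ le_sup_right
  have hprod : ∀ n ∈ N, ∃ y ∈ Q, ∃ c ∈ D, n = y * c := by
    intro n hn
    have h1 : n ∈ (↑(Q ⊔ D) : Set G) := hN ▸ hn
    rw [Subgroup.coe_mul_of_right_le_normalizer_left Q D hDN] at h1
    obtain ⟨y, hy, c, hc, rfl⟩ := Set.mem_mul.1 h1
    exact ⟨y, hy, c, hc, rfl⟩
  have hdisj : Disjoint Q D := disjoint_iff.2 hQD
  have hbot : ∀ x, x ∈ Q → x ∈ D → x = 1 := fun x hx hx' =>
    Subgroup.disjoint_def.1 hdisj hx hx'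
  have hcardN : Nat.card ↥N = q * d := by
    have hb : Function.Bijective fun p : ↥Q × ↥D =>
        (⟨(p.1 : G) * p.2, N.mul_mem (hQN p.1.2) (hDN p.2.2)⟩ : ↥N) := by
      refine ⟨fun p p' e => Subgroup.mul_injective_of_disjoint hdisj (congrArg Subtype.val e),
        fun n => ?_⟩
      obtain ⟨y, hy, c, hc, e⟩ := hprod n n.2
      exact ⟨(⟨y, hy⟩, ⟨c, hc⟩), Subtype.ext e.symm⟩
    rw [← Nat.card_congr (Equiv.ofBijective _ hb), Nat.card_prod]
  have hG : Nat.card G = q * d * (q + 1) := by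
    have h1 : (q : ℕ) - 1 = 2 * d := by omega
    rw [h1] at hcard
    apply Nat.eq_of_mul_eq_mul_left (show 0 < 2 by norm_num)
    rw [hcard]; ring
  have hidx : N.index = q + 1 := by
    have h1 := Subgroup.card_mul_index N
    rw [hcardN, hG] at h1
    exact Nat.eq_of_mul_eq_mul_left (Nat.mul_pos Nat.card_pos hdpos) h1
  have hQnt : 1 < q := by omega
  -- the case of order twelve
  have hd2 : 2 ≤ d := by
    by_contra hlt
    have hd1 : d = 1 := by omega
    have hq3 : q = 3 := by omega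
    have hD : D = ⊥ := Subgroup.eq_bot_of_card_eq D hd1
    haveI : Fact (Nat.Prime 3) := ⟨Nat.prime_three⟩
    have hNQ : N = Q := by rw [hN, hD, sup_bot_eq]
    have h3 : ¬ 3 ∣ Nat.card ↥(commutator G) := by
      refine commutator_dvd 3 fun R => ?_
      obtain ⟨R₀, hR₀⟩ := (IsPGroup.of_card (p := 3) (n := 1) (G := ↥Q)
        (by rw [pow_one]; exact hq3)).exists_le_sylow
      have hR₀Q : (R₀ : Subgroup G) = Q := by
        have hmul := R₀.card_eq_multiplicity
        have hf : (Nat.card G).factorization 3 = 1 := by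
          rw [hG, hq3, hd1, show 3 * 1 * (3 + 1) = 3 * 4 by norm_num,
            Nat.factorization_mul (by norm_num) (by norm_num), Finsupp.add_apply,
            Nat.prime_three.factorization_self,
            Nat.factorization_eq_zero_of_not_dvd (by norm_num)]
        rw [hf, pow_one] at hmul
        refine (Subgroup.eq_of_le_of_card_ge hR₀ ?_).symm
        omega
      have hRN : Subgroup.normalizer (R : Set G) = (R : Subgroup G) := by
        refine (Subgroup.eq_of_le_of_card_ge Subgroup.le_normalizer ?_).symm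
        have e1 := R.card_eq_index_normalizer
        have e2 := R₀.card_eq_index_normalizer
        have e3 : (Subgroup.normalizer (R₀ : Set G)) = N := by
          show Subgroup.normalizer ((R₀ : Subgroup G) : Set G) = N
          rw [hR₀Q]
        rw [e3] at e2
        have e4 := Subgroup.card_mul_index (Subgroup.normalizer (R : Set G))
        have e5 := Subgroup.card_mul_index N
        rw [← e1, e2, ← e5] at e4
        have e6 := Nat.eq_of_mul_eq_mul_right (by rw [hidx]; omega) e4
        have e7 : Nat.card ↥(R : Subgroup G) = Nat.card ↥(R₀ : Subgroup G) := by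
          rw [R.card_eq_multiplicity, R₀.card_eq_multiplicity]
        refine le_of_eq (e6.trans ?_)
        rw [e7, hR₀Q, hNQ]
      haveI : IsCyclic ↥(R : Subgroup G) := isCyclic_of_prime_card (p := 3) (by
        rw [R.card_eq_multiplicity, ← R₀.card_eq_multiplicity, hR₀Q, ← hq, hq3])
      intro x hx
      rw [hRN] at hx
      exact Subgroup.mem_centralizer_iff.2 fun z hz => congrArg Subtype.val
        ((IsCyclic.isMulCommutative (α := ↥(R : Subgroup G))).is_comm.comm ⟨z, hz⟩ ⟨x, hx⟩)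
    rcases Subgroup.Normal.eq_bot_or_eq_top (inferInstance : (commutator G).Normal) with hc | hc
    · obtain ⟨x, hx, hx1⟩ : ∃ x ∈ Q, x ≠ 1 := by
        by_contra hcon
        push Not at hcon
        rw [(Subgroup.eq_bot_iff_forall Q).2 hcon, Subgroup.card_bot] at hq
        omega
      have : Subgroup.centralizer ({x} : Set G) = ⊤ := by
        refine eq_top_iff.2 fun g _ => Subgroup.mem_centralizer_singleton_iff.2 ?_
        exact commutatorElement_eq_one_iff_mul_comm.1 (Subgroup.mem_bot.1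
          (hc ▸ Subgroup.commutator_mem_commutator (Subgroup.mem_top g) (Subgroup.mem_top x)))
      rw [hcent x hx hx1] at this
      rw [this, Subgroup.card_top, hG, hd1] at hq
      nlinarith
    · rw [hc, Subgroup.card_top, hG, hq3, hd1] at h3
      norm_num at h3
  obtain ⟨-, u, hu, huD, huinv, hND⟩ := hX D le_rfl (fun e => by
    rw [e, Subgroup.card_bot] at hddef; omega)
  set a : G ⧸ N := ((1 : G) : G ⧸ N) with ha
  have hstab : stabilizer G a = N := MulAction.stabilizer_quotient N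
  have hsmul : ∀ g : G, g • a = a ↔ g ∈ N := fun g => by
    rw [← mem_stabilizer_iff, hstab]
  -- `Q` is a TI subgroup
  have hTI : ∀ g x : G, x ∈ Q → x ≠ 1 → g * x * g⁻¹ ∈ Q → g ∈ N := by
    intro g x hx hx1 hgx
    have hx1' : g * x * g⁻¹ ≠ 1 := fun e => hx1 (conj_eq_one_iff.1 e)
    refine Subgroup.mem_normalizer_iff.2 fun y => ?_
    constructor
    · intro hy
      have := Subgroup.mem_centralizer_singleton_iff.1 ((hcent x hx hx1).ge hy)
      refine (hcent _ hgx hx1').le (Subgroup.mem_centralizer_singleton_iff.2 ?_)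
      calc g * y * g⁻¹ * (g * x * g⁻¹) = g * (y * x) * g⁻¹ := by group
        _ = g * (x * y) * g⁻¹ := by rw [this]
        _ = _ := by group
    · intro hy
      have := Subgroup.mem_centralizer_singleton_iff.1 ((hcent _ hgx hx1').ge hy)
      refine (hcent x hx hx1).le (Subgroup.mem_centralizer_singleton_iff.2 ?_)
      calc y * x = g⁻¹ * (g * y * g⁻¹ * (g * x * g⁻¹)) * g := by group
        _ = g⁻¹ * (g * x * g⁻¹ * (g * y * g⁻¹)) * g := by rw [this]
        _ = _ := by group
  -- elements of `N` of order dividing `q` lie in `Q`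
  have hQmem : ∀ y ∈ N, y ^ q = 1 → y ∈ Q := by
    intro y hy hyq
    haveI : (Q.subgroupOf N).Normal := Subgroup.normal_in_normalizer
    have hi : (Q.subgroupOf N).index = d := by
      have h1 := Subgroup.card_mul_index (Q.subgroupOf N)
      rw [Nat.card_congr (Subgroup.subgroupOfEquivOfLe hQN).toEquiv, hcardN] at h1
      exact Nat.eq_of_mul_eq_mul_left Nat.card_pos h1
    have h1 : y ^ d ∈ Q := by
      have := Subgroup.pow_index_mem (Q.subgroupOf N) ⟨y, hy⟩
      rw [hi, Subgroup.mem_subgroupOf] at this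
      exact this
    have h2 : y = (y ^ d * y ^ d)⁻¹ := by
      rw [eq_inv_iff_mul_eq_one, ← pow_add, ← pow_succ', ← hyq]
      congr 1; omega
    rw [h2]
    exact Q.inv_mem (Q.mul_mem h1 h1)
  -- `Q` acts semiregularly on the other points
  have hfree : ∀ y ∈ Q, y ≠ 1 → ∀ b : G ⧸ N, y • b = b → b = a := by
    intro y hy hy1 b hb
    obtain ⟨g, rfl⟩ := MulAction.exists_smul_eq G a b
    have h1 : g⁻¹ * y * g ∈ N := by
      rw [← hsmul, mul_smul, mul_smul, hb, inv_smul_smul]
    have h2 : g⁻¹ * y * g ∈ Q := hQmem _ h1 (by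
      rw [show g⁻¹ * y * g = g⁻¹ * y * g⁻¹⁻¹ by group, conj_pow,
        show y ^ q = 1 from orderOf_dvd_iff_pow_eq_one.1 (Subgroup.orderOf_dvd_natCard Q hy)]
      group)
    have := hTI g⁻¹ y hy hy1 (by simpa using h2)
    exact (hsmul g).2 (inv_inv g ▸ N.inv_mem this)
  have hΩ : Nat.card (G ⧸ N) = q + 1 := by rw [← Subgroup.index, hidx]
  have hreg : ∀ y z : G ⧸ N, y ≠ a → z ≠ a → ∃! u : Q, (u : G) • y = z := by
    intro y z hy hz
    have hinj : Function.Injective fun v : ↥Q =>
        (⟨(v : G) • y, fun e => hy (by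
          rw [← (hsmul _).2 (hQN (Q.inv_mem v.2)), ← e, inv_smul_smul])⟩ :
          {b : G ⧸ N // b ≠ a}) := by
      intro v w e
      by_contra hne
      refine hy (hfree (w⁻¹ * v : ↥Q).1 (w⁻¹ * v : ↥Q).2 (fun e1 => hne ?_) y ?_)
      · exact (inv_mul_eq_one.1 (Subtype.ext e1 : (w⁻¹ * v : ↥Q) = 1)).symm
      · have e' : (v : G) • y = (w : G) • y := congrArg Subtype.val e
        rw [Subgroup.coe_mul, Subgroup.coe_inv, mul_smul, e', inv_smul_smul]
    haveI := Fintype.ofFinite (G ⧸ N)
    haveI := Fintype.ofFinite ↥Q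
    have hc : Fintype.card ↥Q = Fintype.card {b : G ⧸ N // b ≠ a} := by
      rw [Fintype.card_subtype_compl, Fintype.card_subtype_eq, ← Nat.card_eq_fintype_card,
        ← Nat.card_eq_fintype_card, hΩ]
      omega
    obtain ⟨v, hv⟩ := ((Fintype.bijective_iff_injective_and_card _).2 ⟨hinj, hc⟩).2 ⟨z, hz⟩
    refine ⟨v, congrArg Subtype.val hv, fun w hw => hinj ?_⟩
    exact Subtype.ext (hw.trans (congrArg Subtype.val hv).symm)
  -- the second point and its stabiliser
  have hNND : ∀ n ∈ N, n ∈ Subgroup.normalizer (D : Set G) → n ∈ D := by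
    intro n hn hnD
    obtain ⟨y, hy, c, hc, rfl⟩ := hprod n hn
    suffices y = 1 by rw [this, one_mul]; exact hc
    by_contra hy1
    have hyD : y ∈ Subgroup.normalizer (D : Set G) := by
      have := Subgroup.mul_mem _ hnD (Subgroup.inv_mem _ (Subgroup.le_normalizer hc))
      rwa [mul_inv_cancel_right] at this
    obtain ⟨e, he, he1⟩ : ∃ e ∈ D, e ≠ 1 := by
      by_contra hcon
      push Not at hcon
      rw [(Subgroup.eq_bot_iff_forall D).2 hcon, Subgroup.card_bot] at hddef
      omega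
    have h1 : y * e * y⁻¹ * e⁻¹ ∈ D :=
      D.mul_mem ((Subgroup.mem_normalizer_iff.1 hyD e).1 he) (D.inv_mem he)
    have h2 : y * e * y⁻¹ * e⁻¹ ∈ Q := by
      rw [show y * e * y⁻¹ * e⁻¹ = y * (e * y⁻¹ * e⁻¹) by group]
      exact Q.mul_mem hy ((Subgroup.mem_normalizer_iff.1 (hDN he) _).1 (Q.inv_mem hy))
    have h3 := hbot _ h2 h1
    have heQ : e ∈ Q := (hcent y hy hy1).le (Subgroup.mem_centralizer_singleton_iff.2 (by
      calc e * y = (y * e * y⁻¹ * e⁻¹)⁻¹ * (y * e) := by group
        _ = y * e := by rw [h3, inv_one, one_mul]))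
    exact he1 (hbot e heQ he)
  have huN : u ∉ N := fun h => huD (hNND u h (hND ▸ Subgroup.mem_sup_right
    (Subgroup.mem_zpowers u)))
  set b := u • a with hb
  have hba : b ≠ a := fun e => huN ((hsmul u).1 e)
  have hDb : ∀ c ∈ D, c • b = b := by
    intro c hc
    rw [hb, ← inv_smul_eq_iff, ← mul_smul, ← mul_smul, hsmul]
    have hui : u⁻¹ = u := H65.inv_eq_self hu
    have := huinv c hc
    rw [hui] at this
    rw [hui, this]
    exact hDN (D.inv_mem hc)
  have htwo : ∀ g : G, g • a = a → g • b = b → g ∈ D := by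
    intro g hga hgb
    obtain ⟨y, hy, c, hc, rfl⟩ := hprod g ((hsmul g).1 hga)
    rw [mul_smul, hDb c hc] at hgb
    by_cases hy1 : y = 1
    · rw [hy1, one_mul]; exact hc
    · exact absurd (hfree y hy hy1 b hgb) hba
  have hpair : ∀ x y : G ⧸ N, x ≠ y → ∃ g : G, g • x = a ∧ g • y = b := by
    intro x y hxy
    obtain ⟨g, hg⟩ := MulAction.exists_smul_eq G x a
    obtain ⟨v, hv, -⟩ := hreg (g • y) b
      (fun e => hxy (smul_left_cancel g (hg.trans e.symm))) hba
    exact ⟨(v : G) * g, by rw [mul_smul, hg, (hsmul _).2 (hQN v.2)], by rw [mul_smul, hv]⟩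
  have h2t : IsMultiplyPretransitive G (G ⧸ N) 2 := by
    rw [MulAction.is_two_pretransitive_iff]
    intro x y x' y' hxy hxy'
    obtain ⟨g, hg1, hg2⟩ := hpair x y hxy
    obtain ⟨g', hg1', hg2'⟩ := hpair x' y' hxy'
    exact ⟨g'⁻¹ * g, by rw [mul_smul, hg1, ← hg1', inv_smul_smul],
      by rw [mul_smul, hg2, ← hg2', inv_smul_smul]⟩
  have hthree : ∀ g : G, ∀ x y z : G ⧸ N, x ≠ y → y ≠ z → x ≠ z →
      g • x = x → g • y = y → g • z = z → g = 1 := by
    intro g x y z hxy hyz hxz hgx hgy hgz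
    obtain ⟨f, hfx, hfy⟩ := hpair x y hxy
    have hfix : ∀ w : G ⧸ N, g • w = w → (f * g * f⁻¹) • f • w = f • w := fun w hw => by
      rw [← mul_smul, inv_mul_cancel_right, mul_smul, hw]
    have h1 := htwo _ (hfx ▸ hfix x hgx) (hfy ▸ hfix y hgy)
    set g' := f * g * f⁻¹ with hg'
    obtain ⟨v, hv, -⟩ := hreg b (f • z) hba
      (fun e => hxz (smul_left_cancel f (hfx.trans e.symm)))
    have hv1 : (v : G) ≠ 1 := fun e => by
      rw [e, one_smul, ← hfy] at hv
      exact hyz (smul_left_cancel f hv)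
    have hva := (hsmul _).2 (hQN v.2)
    have h2 : (v : G)⁻¹ * g' * v ∈ D := by
      refine htwo _ ?_ ?_
      · rw [mul_smul, mul_smul, hva, (hsmul g').2 (hDN h1), inv_smul_eq_iff, hva]
      · rw [mul_smul, mul_smul, hv, hfix z hgz, ← hv, inv_smul_smul]
    have h3 : (v : G)⁻¹ * g' * v * g'⁻¹ = 1 := by
      refine hbot _ ?_ (D.mul_mem h2 (D.inv_mem h1))
      rw [show (v : G)⁻¹ * g' * v * g'⁻¹ = (v : G)⁻¹ * (g' * v * g'⁻¹) by group]
      exact Q.mul_mem (Q.inv_mem v.2) ((Subgroup.mem_normalizer_iff.1 (hDN h1) _).1 v.2)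
    have h4 : g' ∈ Q := (hcent _ v.2 hv1).le (Subgroup.mem_centralizer_singleton_iff.2 (by
      calc g' * v = v * ((v : G)⁻¹ * g' * v * g'⁻¹) * g' := by group
        _ = v * g' := by rw [h3, mul_one]))
    exact conj_eq_one_iff.1 (hbot _ h4 h1)
  refine ⟨N, Q, b, ⟨?_, h2t, hthree, ?_, ?_⟩, ⟨hstab.symm ▸ hQN, by rw [hΩ], fun y hy hy1 => hfree y hy hy1⟩,
    hba.symm, fun x hx y hy => congrArg Subtype.val (hQab.is_comm.comm ⟨x, hx⟩ ⟨y, hy⟩), ?_⟩
  · refine ⟨fun {g g'} hgg => ?_⟩
    by_contra hne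
    set K := (MulAction.toPermHom G (G ⧸ N)).ker with hK
    have hmem : g⁻¹ * g' ∈ K := by
      rw [hK, MonoidHom.mem_ker]
      ext w
      simp [← mul_smul, mul_smul, ← hgg]
    rcases Subgroup.Normal.eq_bot_or_eq_top (show K.Normal by rw [hK]; infer_instance) with e | e
    · rw [e, Subgroup.mem_bot, inv_mul_eq_one] at hmem
      exact hne hmem
    · refine huN ((hsmul u).1 ?_)
      have : u ∈ K := e ▸ Subgroup.mem_top u
      rw [hK, MonoidHom.mem_ker] at this
      exact congrArg (fun σ : Equiv.Perm (G ⧸ N) => σ a) this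
  · obtain ⟨e, he, he1⟩ : ∃ e ∈ D, e ≠ 1 := by
      by_contra hcon
      push Not at hcon
      rw [(Subgroup.eq_bot_iff_forall D).2 hcon, Subgroup.card_bot] at hddef
      omega
    exact ⟨e, he1, a, b, hba.symm, (hsmul e).2 (hDN he), hDb e he⟩
  · intro M hM hMt
    refine ⟨a, fun e => ?_⟩
    rcases Subgroup.Normal.eq_bot_or_eq_top hM with rfl | rfl
    · obtain ⟨m, hm⟩ := hMt.exists_smul_eq a b
      have : (m : G) = 1 := Subgroup.mem_bot.1 m.2
      exact hba (by rw [← hm, Subgroup.smul_def, this, one_smul])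
    · obtain ⟨e', he', he1⟩ : ∃ e' ∈ D, e' ≠ 1 := by
        by_contra hcon
        push Not at hcon
        rw [(Subgroup.eq_bot_iff_forall D).2 hcon, Subgroup.card_bot] at hddef
        omega
      have hmem : (⟨e', Subgroup.mem_top _⟩ : (⊤ : Subgroup G)) ∈
          stabilizer (⊤ : Subgroup G) a := (hsmul e').2 (hDN he')
      replace hmem := e.le hmem
      rw [Subgroup.mem_bot] at hmem
      exact he1 (congrArg Subtype.val hmem)
  · rw [show stabilizer G a ⊓ stabilizer G b = D from le_antisymm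
      (fun g hg => htwo g (Subgroup.mem_inf.1 hg).1 (Subgroup.mem_inf.1 hg).2)
      fun c hc => Subgroup.mem_inf.2 ⟨(hsmul c).2 (hDN hc), hDb c hc⟩]
    exact hd

end Cfsg.Agent.H65.BSW
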