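import Cfsg.Agent.H65.BSW.Dihedral
import Cfsg.Agent.H65.BSW.Zassenhaus
import Cfsg.Agent.H28.ZassPSL
import Mathlib.FieldTheory.Finite.Basic

/-!
# Identification of the simple groups in the Brauer-Suzuki-Wall situation
-/

set_option autoImplicit false

namespace Cfsg.Agent.H65.BSW

universe u

/-- A simple group in the conclusion of the abstract theorem is `PSL(2, q)`. -/
theorem concl_psl {G : Type u} [Group G] [Finite G] [IsSimpleGroup G]
    (h : Concl G) : ∃ (F : Type) (_ : Field F) (_ : Fintype F), Odd (Fintype.card F) ∧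
      Nonempty (G ≃* Matrix.ProjectiveSpecialLinearGroup (Fin 2) F) := by
  obtain ⟨N, Q, b, hz, hker, hab, hcomm, hhalf⟩ := exists_zassenhaus h
  obtain ⟨K, hK, hK', hc, -, he⟩ := H28.Zass.half_equiv hker hz hab hcomm hhalf
  exact ⟨K, hK, hK', Nat.odd_iff.2 (FiniteField.odd_card_of_char_ne_two hc), he⟩

end Cfsg.Agent.H65.BSW
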