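import Mathlib.GroupTheory.FiniteAbelian.Duality
import Mathlib.Analysis.Complex.Polynomial.Basic
import Mathlib.RingTheory.RootsOfUnity.AlgebraicallyClosed

/-!
# Linear characters of a finite abelian group
-/

set_option autoImplicit false
set_option linter.unusedSectionVars false
set_option linter.style.haveILetI false

open scoped ComplexConjugate

namespace Cfsg.Agent.H65.BSW.Dual

universe u

variable {K : Type u} [CommGroup K] [Finite K]

local instance neZeroExponent : NeZero ((Monoid.exponent K : ℕ) : ℂ) :=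
  ⟨Nat.cast_ne_zero.2 Monoid.exponent_ne_zero_of_finite⟩

theorem card_dual : Nat.card (K →* ℂˣ) = Nat.card K :=
  CommGroup.card_monoidHom_of_hasEnoughRootsOfUnity K ℂ

theorem sum_dual [Fintype (K →* ℂˣ)] {x : K} (hx : x ≠ 1) :
    ∑ θ : K →* ℂˣ, (θ x : ℂ) = 0 := by
  obtain ⟨φ, hφ⟩ := CommGroup.exists_apply_ne_one_of_hasEnoughRootsOfUnity K ℂ hx
  have h : (φ x : ℂ) * ∑ θ : K →* ℂˣ, (θ x : ℂ) = ∑ θ : K →* ℂˣ, (θ x : ℂ) := by
    rw [Finset.mul_sum]
    exact Fintype.sum_equiv (Equiv.mulLeft φ) _ _ fun θ => by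
      simp [MonoidHom.mul_apply, Units.val_mul]
  by_contra h0
  exact hφ (Units.ext ((mul_eq_right₀ h0).1 h))

theorem sum_apply [Fintype K] (θ : K →* ℂˣ) [Decidable (θ = 1)] :
    ∑ x : K, (θ x : ℂ) = if θ = 1 then (Nat.card K : ℂ) else 0 := by
  split_ifs with h
  · subst h; simp [Nat.card_eq_fintype_card]
  · obtain ⟨y, hy⟩ : ∃ y, θ y ≠ 1 := by
      by_contra hc
      push Not at hc
      exact h (MonoidHom.ext hc)
    have e : (θ y : ℂ) * ∑ x : K, (θ x : ℂ) = ∑ x : K, (θ x : ℂ) := by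
      rw [Finset.mul_sum]
      exact Fintype.sum_equiv (Equiv.mulLeft y) _ _ fun x => by simp [map_mul]
    by_contra h0
    exact hy (Units.ext ((mul_eq_right₀ h0).1 e))

theorem conj_apply (θ : K →* ℂˣ) (x : K) : conj (θ x : ℂ) = (θ x⁻¹ : ℂ) := by
  have h : (θ x : ℂ) ^ Nat.card K = 1 := by
    rw [← Units.val_pow_eq_pow_val, ← map_pow, pow_card_eq_one', map_one, Units.val_one]
  rw [map_inv, Units.val_inv_eq_inv_val]
  exact (Complex.inv_eq_conj (Complex.norm_eq_one_of_pow_eq_one h Nat.card_pos.ne')).symm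

theorem card_sq_one :
    Nat.card {θ : K →* ℂˣ // θ * θ = 1} = Nat.card {x : K // x * x = 1} := by
  obtain ⟨e⟩ := CommGroup.monoidHom_mulEquiv_of_hasEnoughRootsOfUnity K ℂ
  refine Nat.card_congr (Equiv.subtypeEquiv e.toEquiv fun θ => ?_)
  rw [show e.toEquiv θ = e θ from rfl, ← map_mul, MulEquiv.map_eq_one_iff]

theorem exists_apply_ne_one {x : K} (hx : x ≠ 1) : ∃ θ : K →* ℂˣ, θ x ≠ 1 :=
  CommGroup.exists_apply_ne_one_of_hasEnoughRootsOfUnity K ℂ hx

end Cfsg.Agent.H65.BSW.Dual
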