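import Cfsg.Agent.H65.BSW.Common

/-!
# The case of one class of tori
-/

set_option autoImplicit false
set_option linter.unusedSectionVars false
set_option linter.style.haveILetI false

open Finset

namespace Cfsg.Agent.H65.BSW

universe u

variable {G : Type u} [Group G] [Finite G] (D : Data G)

/-- An element of odd order normalising an `r`-subgroup meeting the conjugates of `K` or of the
torus `A` centralises it. -/
theorem odd_normalizer_commutes {z₀ : G} (T : Torus D D.t z₀)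
    (hN : Nat.card ↥(Subgroup.normalizer
      ((Subgroup.centralizer ({z₀} : Set G)) : Set G)) =
        Nat.card ↥(Subgroup.centralizer ({z₀} : Set G)) * 2)
    (hTI : ∀ g a : G, Commute a z₀ → a ≠ 1 → Commute (g * a * g⁻¹) z₀ →
      g ∈ Subgroup.normalizer ((Subgroup.centralizer ({z₀} : Set G)) : Set G))
    {r : ℕ} [Fact r.Prime] (hr : r ≠ 2) (R : Subgroup G) (hR : IsPGroup r ↥R)
    (hmem : ∀ x ∈ R, x ≠ 1 → InK D x ∨ ∃ a, Commute a z₀ ∧ a ≠ 1 ∧ IsConj a x)
    (g : G) (hg : Odd (orderOf g)) (hgR : g ∈ Subgroup.normalizer (R : Set G)) :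
    ∀ x ∈ R, Commute g x := by
  intro w hw
  rcases eq_or_ne R ⊥ with hb | hb
  · rw [hb, Subgroup.mem_bot] at hw; subst hw; exact Commute.one_right g
  haveI : Nontrivial ↥R := (Subgroup.nontrivial_iff_ne_bot R).2 hb
  haveI := hR.center_nontrivial
  obtain ⟨c, hc⟩ := exists_ne (1 : ↥(Subgroup.center ↥R))
  set x : G := ((c : ↥R) : G) with hxdef
  have hxR : x ∈ R := (c : ↥R).2
  have hx1 : x ≠ 1 := fun h => hc (Subtype.ext (Subtype.ext h))
  have hxc : ∀ y ∈ R, Commute y x := fun y hy =>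
    congrArg Subtype.val (Subgroup.mem_center_iff.1 c.2 ⟨y, hy⟩)
  have hx2 : x * x ≠ 1 := by
    intro h
    have ho := H26.orderOf_two_of_mul_self h hx1
    obtain ⟨j, hj⟩ := hR (c : ↥R)
    have h2 : (2 : ℕ) ∣ r ^ j := by
      rw [← ho, hxdef]
      refine orderOf_dvd_of_pow_eq_one ?_
      exact_mod_cast congrArg Subtype.val hj
    exact hr ((Nat.prime_dvd_prime_iff_eq Nat.prime_two Fact.out).1
      (Nat.prime_two.dvd_of_dvd_pow h2)).symm
  have hgx : g * x * g⁻¹ ∈ R := (Subgroup.mem_normalizer_iff.1 hgR x).1 hxR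
  rcases hmem x hxR hx1 with hK | ⟨a, ha, ha1, hax⟩
  · obtain ⟨x', hx', hx'1, hc'⟩ := hK
    obtain ⟨y, hy⟩ := isConj_iff.1 hc'
    have e1 : y⁻¹ * x * y = x' := by rw [← hy]; group
    have hin : ∀ v ∈ R, y⁻¹ * v * y ∈ D.K := fun v hv => by
      refine cent_mem D hx' (fun h => hx2 ?_) ?_
      · rw [← hy, show y * x' * y⁻¹ * (y * x' * y⁻¹) = y * (x' * x') * y⁻¹ by group, h]; group
      · rw [← e1, show y⁻¹ * v * y = (MulAut.conj y⁻¹).toMonoidHom v by simp,
          show y⁻¹ * x * y = (MulAut.conj y⁻¹).toMonoidHom x by simp]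
        exact (hxc v hv).map _
    have hg't : Commute (y⁻¹ * g * y) D.t := by
      refine commute_t_of_conj_mem D hx' hx'1 ?_
      rw [show y⁻¹ * g * y * x' * (y⁻¹ * g * y)⁻¹ = y⁻¹ * (g * (y * x' * y⁻¹) * g⁻¹) * y by group,
        hy]
      exact hin _ hgx
    have hgK : y⁻¹ * g * y ∈ D.K := by
      by_contra h
      have h2 := (outside D hg't h).1
      have e : orderOf (y⁻¹ * g * y) = orderOf g := by
        simpa using H26.orderOf_conj_eq y⁻¹ g
      rw [e] at h2
      rw [h2] at hg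
      exact absurd hg (by decide)
    have h := (D.comm _ hgK _ (hin w hw)).map (MulAut.conj y).toMonoidHom
    simp only [MulEquiv.coe_toMonoidHom, MulAut.conj_apply] at h
    rwa [show y * (y⁻¹ * g * y) * y⁻¹ = g by group,
      show y * (y⁻¹ * w * y) * y⁻¹ = w by group] at h
  · obtain ⟨y, hy⟩ := isConj_iff.1 hax
    have e1 : y⁻¹ * x * y = a := by rw [← hy]; group
    have hin : ∀ v ∈ R, Commute (y⁻¹ * v * y) z₀ := fun v hv => by
      have h1 : Commute (y⁻¹ * v * y) a := by
        rw [← e1, show y⁻¹ * v * y = (MulAut.conj y⁻¹).toMonoidHom v by simp,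
          show y⁻¹ * x * y = (MulAut.conj y⁻¹).toMonoidHom x by simp]
        exact (hxc v hv).map _
      have h2 : y⁻¹ * v * y ∈ Subgroup.centralizer ({a} : Set G) :=
        Subgroup.mem_centralizer_singleton_iff.2 h1
      rw [T.cent_eq ha1 ha] at h2
      exact Subgroup.mem_centralizer_singleton_iff.1 h2
    have hgN := hTI (y⁻¹ * g * y) a ha ha1 (by
      rw [show y⁻¹ * g * y * a * (y⁻¹ * g * y)⁻¹ = y⁻¹ * (g * (y * a * y⁻¹) * g⁻¹) * y by group,
        hy]
      exact hin _ hgx)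
    set A := Subgroup.centralizer ({z₀} : Set G) with hA
    set N := Subgroup.normalizer (A : Set G) with hNdef
    have hgA : y⁻¹ * g * y ∈ A := by
      have hi : (A.subgroupOf N).index = 2 := by
        have h1 := Subgroup.card_mul_index (A.subgroupOf N)
        rw [Nat.card_congr (Subgroup.subgroupOfEquivOfLe
          (Subgroup.le_normalizer : A ≤ N)).toEquiv, hN] at h1
        exact Nat.eq_of_mul_eq_mul_left Nat.card_pos h1
      have h2 := Subgroup.mul_self_mem_of_index_two hi ⟨_, hgN⟩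
      have e : orderOf (y⁻¹ * g * y) = orderOf g := by simpa using H26.orderOf_conj_eq y⁻¹ g
      obtain ⟨j, hj⟩ := hg
      have h3 : (y⁻¹ * g * y * (y⁻¹ * g * y)) ^ (j + 1) = y⁻¹ * g * y := by
        rw [← pow_two, ← pow_mul, show 2 * (j + 1) = orderOf (y⁻¹ * g * y) + 1 by omega,
          pow_succ, pow_orderOf_eq_one, one_mul]
      rw [← h3]
      exact A.pow_mem h2 _
    have hc' : Commute (y⁻¹ * g * y) (y⁻¹ * w * y) :=
      T.inverts_cent.2 _ _ (Subgroup.mem_centralizer_singleton_iff.1 hgA) (hin w hw)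
    have h := hc'.map (MulAut.conj y).toMonoidHom
    simp only [MulEquiv.coe_toMonoidHom, MulAut.conj_apply] at h
    rwa [show y * (y⁻¹ * g * y) * y⁻¹ = g by group,
      show y * (y⁻¹ * w * y) * y⁻¹ = w by group] at h

/-- `X ≤ A` nontrivial has the normaliser of `A`. -/
theorem torus_normalizer {z₀ : G} (T : Torus D D.t z₀) (L : Subgroup G)
    (hL : L = Subgroup.zpowers D.t)
    (hsup : Subgroup.normalizer ((Subgroup.centralizer ({z₀} : Set G)) : Set G) =
      Subgroup.centralizer ({z₀} : Set G) ⊔ L)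
    (hTI : ∀ g a : G, Commute a z₀ → a ≠ 1 → Commute (g * a * g⁻¹) z₀ →
      g ∈ Subgroup.normalizer ((Subgroup.centralizer ({z₀} : Set G)) : Set G))
    {X : Subgroup G} (hX : X ≤ Subgroup.centralizer ({z₀} : Set G)) (hne : X ≠ ⊥) :
    Subgroup.normalizer (X : Set G) =
      Subgroup.normalizer ((Subgroup.centralizer ({z₀} : Set G)) : Set G) := by
  obtain ⟨hi, hcomm⟩ := T.inverts_cent
  refine le_antisymm (fun n hn => ?_) ?_
  · obtain ⟨⟨x, hx⟩, hx1⟩ := X.ne_bot_iff_exists_ne_one.1 hne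
    exact hTI n x (Subgroup.mem_centralizer_singleton_iff.1 (hX hx))
      (fun h => hx1 (Subtype.ext h))
      (Subgroup.mem_centralizer_singleton_iff.1 (hX ((Subgroup.mem_normalizer_iff.1 hn x).1 hx)))
  · rw [hsup, hL, sup_le_iff, Subgroup.zpowers_le]
    constructor
    · intro a ha
      have key : ∀ b : G, Commute b z₀ → ∀ x ∈ X, b * x * b⁻¹ = x := fun b hb x hx => by
        rw [(hcomm b x hb (Subgroup.mem_centralizer_singleton_iff.1 (hX hx))).eq,
          mul_inv_cancel_right]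
      have hac : Commute a z₀ := Subgroup.mem_centralizer_singleton_iff.1 ha
      refine Subgroup.mem_normalizer_iff.2 fun x => ⟨fun hx => (key a hac x hx).symm ▸ hx,
        fun h => ?_⟩
      have h2 := key a⁻¹ hac.inv_left _ h
      rw [show a⁻¹ * (a * x * a⁻¹) * a⁻¹⁻¹ = x by group] at h2
      rw [h2]; exact h
    · refine Subgroup.mem_normalizer_iff.2 fun x => ⟨fun hx => ?_, fun h => ?_⟩
      · rw [hi x (Subgroup.mem_centralizer_singleton_iff.1 (hX hx))]; exact X.inv_mem hx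
      · have h2 := hi _ (Subgroup.mem_centralizer_singleton_iff.1 (hX h))
        rw [H65.inv_eq_self D.ht, show D.t * (D.t * x * D.t) * D.t =
          (D.t * D.t) * x * (D.t * D.t) by group, mul_self_t, one_mul, mul_one] at h2
        rw [h2]; rw [H65.inv_eq_self D.ht] at h; exact X.inv_mem h

theorem minus (hk : 2 < k D) (hg : Nat.card G = k D * (2 * k D - 1) * (2 * k D - 2))
    (hN : ∀ z : G, z ≠ 1 → ¬ InK D z → ∃ j : ℤ, (npair z : ℤ) = ((k D : ℤ) - 1) * j) :
    Concl G := by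
  classical
  haveI := Fintype.ofFinite G
  set k₀ := k D with hk0
  obtain ⟨h, hh⟩ := even_k D
  rw [← hk0] at hh
  obtain ⟨m, hm⟩ : ∃ m, k₀ = m + 1 := ⟨k₀ - 1, by omega⟩
  have hm2 : 2 ≤ m := by omega
  have hmodd : Odd m := ⟨h - 1, by omega⟩
  have hg' : Nat.card G = (m + 1) * (2 * m + 1) * (2 * m) := by
    rw [hg, hm, show 2 * (m + 1) - 1 = 2 * m + 1 by omega, show 2 * (m + 1) - 2 = 2 * m by omega]
  have hindK : D.K.index = (2 * m + 1) * (2 * m) := by
    have e := Subgroup.card_mul_index D.K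
    rw [hg', show Nat.card ↥D.K = m + 1 from hm, mul_assoc] at e
    exact Nat.eq_of_mul_eq_mul_left (by omega) e
  have copQ : Nat.Coprime (2 * m + 1) (2 * (m + 1) * m) := by
    refine Nat.coprime_of_dvd fun r hr h1 h2 => ?_
    have key : ∀ c, r ∣ c → r ∣ c * 2 := fun c hc => dvd_mul_of_dvd_left hc 2
    rcases hr.dvd_mul.1 h2 with h3 | h3
    · have : r ∣ 2 * m + 1 + 1 := by rw [show 2 * m + 1 + 1 = 2 * (m + 1) by ring]; exact h3
      exact hr.one_lt.ne' (Nat.dvd_one.1 ((Nat.dvd_add_right h1).1 this))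
    · exact hr.one_lt.ne' (Nat.dvd_one.1
        ((Nat.dvd_add_right (dvd_mul_of_dvd_right h3 2)).1 h1))
  have hKr : ∀ r : ℕ, r.Prime → r ∣ k D → r ≠ 2 → ¬ r ∣ D.K.index := by
    intro r hr h1 h2 h3
    rw [← hk0, hm] at h1
    rw [hindK] at h3
    rcases hr.dvd_mul.1 h3 with e | e
    · exact hr.one_lt.ne' (Nat.eq_one_of_dvd_coprimes copQ e
        ((dvd_mul_of_dvd_right h1 2).mul_right m))
    · rcases hr.dvd_mul.1 e with e | e
      · exact h2 ((Nat.prime_dvd_prime_iff_eq hr Nat.prime_two).1 e)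
      · exact hr.one_lt.ne' (Nat.dvd_one.1 ((Nat.dvd_add_right e).1 h1))
  set n := (2 * m + 1) * m with hn0
  have hn : Nat.card {v : G // orderOf v = 2} = n := by
    refine Nat.eq_of_mul_eq_mul_right (show 0 < 2 * k₀ by omega) ?_
    rw [hk0, card_invol_subtype D, hg', ← hk0, hm]; ring
  set SK : Finset G := univ.filter fun z => InK D z with hSK
  have hSKc : SK.card = n * m := by
    have e := card_inK_mul D
    rw [Nat.card_eq_fintype_card, Fintype.card_subtype, ← hSK, hg', ← hk0, hm,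
      Nat.add_sub_cancel] at e
    exact Nat.eq_of_mul_eq_mul_right (show 0 < 2 * (m + 1) by omega) (e.trans (by ring))
  have h1SK : (1 : G) ∉ SK := fun h => inK_ne_one D (Finset.mem_filter.1 h).2 rfl
  set W : Finset G := (univ.erase 1) \ SK with hW
  have hWmem : ∀ z : G, z ∈ W ↔ z ≠ 1 ∧ ¬ InK D z := fun z => by simp [hW, hSK]
  have hsumW : n * n = n + (n * m * (m + 1) + ∑ z ∈ W, npair z) := by
    have e := sum_npair (G := G)
    rw [hn, ← Finset.add_sum_erase _ _ (mem_univ (1 : G)),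
      ← Finset.sum_sdiff (s₁ := SK) (s₂ := univ.erase 1)
        (fun z hz => Finset.mem_erase.2 ⟨fun e => h1SK (e ▸ hz), mem_univ _⟩), ← hW] at e
    rw [← e]
    have e1 : npair (1 : G) = n := by
      rw [← hn, npair]
      exact Nat.card_congr (Equiv.subtypeEquivRight fun v => by simp)
    have e2 : ∑ z ∈ SK, npair z = n * m * (m + 1) := by
      rw [Finset.sum_const_nat (fun z hz => npair_inK D (Finset.mem_filter.1 hz).2), hSKc, ← hk0,
        hm]
    rw [e1, e2]; ring
  -- a torus exists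
  obtain ⟨z₁, hz₁W, hz₁n⟩ : ∃ z ∈ W, npair z ≠ 0 := by
    by_contra hc
    push Not at hc
    rw [Finset.sum_eq_zero hc, add_zero] at hsumW
    have e1 : n * n = n * (1 + m * (m + 1)) := by rw [hsumW]; ring
    have hn1 := Nat.eq_of_mul_eq_mul_left (show 0 < n from Nat.mul_pos (by omega) (by omega)) e1
    rw [hn0] at hn1
    nlinarith
  obtain ⟨hz₁1, hz₁K⟩ := (hWmem z₁).1 hz₁W
  obtain ⟨u₁, T₁⟩ := torus_of_npair (D := D) hz₁1 hz₁K hz₁n
  obtain ⟨y₁, T⟩ := T₁.exists_t
  set z₀ := y₁ * z₁ * y₁⁻¹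
  set A := Subgroup.centralizer ({z₀} : Set G) with hA
  have hmdvd : ∀ {u z : G}, Torus D u z → m ∣ Nat.card ↥(Subgroup.centralizer ({z} : Set G)) := by
    intro u z T
    obtain ⟨j, hj⟩ := hN z T.hz1 T.hzK
    rw [T.npair_eq, hm] at hj
    exact Int.natCast_dvd_natCast.1 ⟨j, by push_cast at hj ⊢; linarith⟩
  obtain ⟨j, hj⟩ := hmdvd T
  rw [← hA] at hj
  have hjpos : 1 ≤ j := by
    rcases Nat.eq_zero_or_pos j with h0 | h0
    · exfalso; rw [h0, mul_zero] at hj; exact Nat.card_pos.ne' hj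
    · exact h0
  have hodd : Odd (Nat.card ↥A) := odd_cent D T.hz1 T.hzK
  have hcopk : (Nat.card ↥A).Coprime k₀ := coprime_cent (D := D) T.hz1 T.hzK hKr
  have hAdvd : Nat.card ↥A ∣ (2 * m + 1) * m := by
    have h1 : Nat.card ↥A ∣ 2 * (m + 1) * ((2 * m + 1) * m) := by
      rw [show 2 * (m + 1) * ((2 * m + 1) * m) = Nat.card G by rw [hg']; ring]
      exact Subgroup.card_subgroup_dvd_card A
    exact (Nat.Coprime.mul_right (Nat.coprime_two_right.2 hodd) (hm ▸ hcopk)).dvd_of_dvd_mul_left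
      h1
  obtain ⟨r₀, hr₀, hr₀m⟩ := Nat.exists_prime_and_dvd (show m ≠ 1 by omega)
  have hidx : ∀ r : ℕ, r.Prime → r ∣ m → ¬ r ∣ A.index := by
    intro r hr hrm hd
    obtain ⟨i, hi⟩ : j ∣ 2 * m + 1 := by
      rw [hj, mul_comm (2 * m + 1) m] at hAdvd
      exact Nat.dvd_of_mul_dvd_mul_left (by omega) hAdvd
    have e := Subgroup.card_mul_index A
    rw [hj, hg', hi] at e
    have e2 : A.index = 2 * (m + 1) * i := by
      apply Nat.eq_of_mul_eq_mul_left (show 0 < m * j from Nat.mul_pos (by omega) hjpos)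
      rw [e]; ring
    rw [e2] at hd
    have hr2 : r ≠ 2 := by
      rintro rfl
      exact absurd (even_iff_two_dvd.2 hrm) (Nat.not_even_iff_odd.2 hmodd)
    rcases hr.dvd_mul.1 hd with e3 | e3
    · rcases hr.dvd_mul.1 e3 with e4 | e4
      · exact hr2 ((Nat.prime_dvd_prime_iff_eq hr Nat.prime_two).1 e4)
      · exact hr.one_lt.ne' (Nat.dvd_one.1 ((Nat.dvd_add_right hrm).1 e4))
    · exact hr.one_lt.ne' (Nat.eq_one_of_dvd_coprimes copQ (hi ▸ dvd_mul_of_dvd_right e3 j)
        (dvd_mul_of_dvd_right hrm _))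
  have hconjA : ∀ {r : ℕ}, r.Prime → r ∣ m → ∀ z : G, z ≠ 1 →
      r ∣ Nat.card ↥(Subgroup.centralizer ({z} : Set G)) → ∃ a ∈ A, a ≠ 1 ∧ IsConj a z := by
    intro r hr hrm z hz1 hrz
    haveI : Fact r.Prime := ⟨hr⟩
    obtain ⟨w, hw⟩ := exists_prime_orderOf_dvd_card' r hrz
    rw [← Subgroup.orderOf_coe] at hw
    obtain ⟨y, hy, Ty⟩ := T.conj_mem_of_prime (hidx r hr hrm) hz1 hw
      (Subgroup.mem_centralizer_singleton_iff.1 w.2)
    exact ⟨y * z * y⁻¹, Subgroup.mem_centralizer_singleton_iff.2 hy, Ty.hz1,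
      isConj_iff.2 ⟨y⁻¹, by group⟩⟩
  set SA : Finset G := univ.filter fun z => ∃ a ∈ A, a ≠ 1 ∧ IsConj a z with hSA
  have hSAmem : ∀ z ∈ SA, z ≠ 1 ∧ ¬ InK D z ∧ npair z = Nat.card ↥A := by
    intro z hz
    obtain ⟨a, ha, ha1, hc⟩ := (Finset.mem_filter.1 hz).2
    have hac : Commute a z₀ := Subgroup.mem_centralizer_singleton_iff.1 ha
    have Ta := T.of_cent ha1 hac
    obtain ⟨y, rfl⟩ := isConj_iff.1 hc
    exact ⟨fun h => ha1 (conj_eq_one_iff.1 h), fun h => Ta.hzK ((inK_conj_iff D y).1 h),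
      by rw [npair_conj, Ta.npair_eq, T.cent_eq ha1 hac]⟩
  have hSAW : SA ⊆ W := fun z hz => (hWmem z).2 ⟨(hSAmem z hz).1, (hSAmem z hz).2.1⟩
  have hrest : ∀ z ∈ W, z ∉ SA → npair z = 0 := by
    intro z hz hzA
    by_contra hne
    obtain ⟨hz1, hzK⟩ := (hWmem z).1 hz
    obtain ⟨u, T'⟩ := torus_of_npair (D := D) hz1 hzK hne
    exact hzA (Finset.mem_filter.2 ⟨mem_univ _,
      hconjA hr₀ hr₀m z hz1 (hr₀m.trans (hmdvd T'))⟩)
  have hsumA : ∑ z ∈ W, npair z = SA.card * Nat.card ↥A := by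
    rw [← Finset.sum_subset hSAW hrest, Finset.sum_const_nat (fun z hz => (hSAmem z hz).2.2)]
  obtain ⟨L, hLK, htL, hdisjL, hsupL, hcardL, hTI⟩ := T.normalizer_t
  rw [← hA] at hdisjL hsupL hcardL hTI
  have hsat := card_saturation A (Subgroup.normalizer (A : Set G))
    (fun x hx a ha => (Subgroup.mem_normalizer_iff.1 hx a).1 ha)
    (fun g a ha ha1 h => hTI g a (Subgroup.mem_centralizer_singleton_iff.1 ha) ha1
      (Subgroup.mem_centralizer_singleton_iff.1 h))
  rw [hcardL, Nat.card_eq_fintype_card, Fintype.card_subtype, ← hSA, hg'] at hsat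
  obtain ⟨e₂, he₂⟩ : 2 ∣ Nat.card ↥L := by
    rw [← D.ht]; exact Subgroup.orderOf_dvd_natCard L htL
  have he₂pos : 1 ≤ e₂ := by
    have : 0 < Nat.card ↥L := Nat.card_pos
    omega
  have hLk : 2 * e₂ ≤ m + 1 := by
    rw [← hm, ← he₂]
    exact Nat.le_of_dvd (by omega) (Subgroup.card_dvd_of_le hLK)
  have hje : j = 1 ∧ e₂ = 1 := by
    set a := Nat.card ↥A with ha
    have ha1 : 1 ≤ a := Nat.card_pos
    rw [hsumA] at hsumW
    have h1 : (n : ℤ) * n = n + (n * m * (m + 1) + SA.card * a) := by exact_mod_cast hsumW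
    have h2 : (SA.card : ℤ) * (a * (2 * e₂)) = (m + 1) * (2 * m + 1) * (2 * m) * (a - 1) := by
      rw [he₂] at hsat
      have := congrArg (Nat.cast (R := ℤ)) hsat
      push_cast [Nat.cast_sub ha1] at this
      exact this
    have hn' : (n : ℤ) = (2 * m + 1) * m := by rw [hn0]; push_cast; ring
    have hapos : (a : ℤ) = m * j := by exact_mod_cast hj
    have h3 : (e₂ : ℤ) * (m - 1) = a - 1 := by
      apply mul_left_cancel₀
        (show (2 * (m + 1) * ((2 * m + 1) * m) : ℤ) ≠ 0 by positivity)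
      rw [hn'] at h1
      linear_combination (2 * (e₂ : ℤ)) * h1 + h2
    have h4 : ((j : ℤ) - e₂) * m = 1 - e₂ := by rw [hapos] at h3; linarith
    have h5 : (j : ℤ) = e₂ := by
      rcases lt_trichotomy (j : ℤ) e₂ with hlt | heq | hgt
      · exfalso; nlinarith
      · exact heq
      · exfalso; nlinarith
    rw [h5, sub_self, zero_mul] at h4
    omega
  obtain ⟨rfl, rfl⟩ := hje
  rw [mul_one] at hj he₂
  have hLt : L = Subgroup.zpowers D.t := by
    refine (Subgroup.eq_of_le_of_card_ge (Subgroup.zpowers_le.2 htL) ?_).symm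
    rw [Nat.card_zpowers, D.ht, he₂]
  have hSAc : SA.card = (m + 1) * (2 * m + 1) * (m - 1) := by
    rw [hj, he₂] at hsat
    exact Nat.eq_of_mul_eq_mul_right (show 0 < m * 2 by omega) (hsat.trans (by ring))
  -- the remaining elements
  set R : Finset G := W \ SA with hR
  set q := 2 * m + 1 with hqdef
  have hRc : R.card + 1 = q * q := by
    have h1 : W.card + SK.card + 1 = Nat.card G := by
      rw [hW, Finset.card_sdiff_add_card_eq_card
        (fun (z : G) hz => Finset.mem_erase.2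
          ⟨fun (e : z = 1) => h1SK (by rw [← e]; exact hz), mem_univ _⟩),
        Finset.card_erase_add_one (mem_univ _), Finset.card_univ, Nat.card_eq_fintype_card]
    have h2 : R.card + SA.card = W.card := Finset.card_sdiff_add_card_eq_card hSAW
    rw [hSKc, hg'] at h1
    rw [hSAc] at h2
    obtain ⟨i, hi⟩ : ∃ i, m = i + 1 := ⟨m - 1, by omega⟩
    rw [hn0, hi] at h1
    rw [hi, Nat.add_sub_cancel] at h2
    simp only [hqdef, hi] at h1 h2 ⊢
    nlinarith [h1, h2]
  have hRmem : ∀ z ∈ R, z ≠ 1 ∧ ¬ InK D z ∧ ¬ (∃ a ∈ A, a ≠ 1 ∧ IsConj a z) := fun z hz => by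
    obtain ⟨h1, h2⟩ := Finset.mem_sdiff.1 hz
    obtain ⟨h3, h4⟩ := (hWmem z).1 h1
    exact ⟨h3, h4, fun h => h2 (Finset.mem_filter.2 ⟨mem_univ _, h⟩)⟩
  have hRof : ∀ z : G, z ≠ 1 → ¬ InK D z → ¬ (∃ a ∈ A, a ≠ 1 ∧ IsConj a z) → z ∈ R :=
    fun z h1 h2 h3 => Finset.mem_sdiff.2 ⟨(hWmem z).2 ⟨h1, h2⟩,
      fun h => h3 (Finset.mem_filter.1 h).2⟩
  have hRconj : ∀ z ∈ R, ∀ x, IsConj z x → x ∈ R := by
    intro z hz x hx
    obtain ⟨h1, h2, h3⟩ := hRmem z hz
    obtain ⟨y, rfl⟩ := isConj_iff.1 hx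
    exact hRof _ (fun h => h1 (conj_eq_one_iff.1 h)) (fun h => h2 ((inK_conj_iff D y).1 h))
      (fun ⟨a, ha, ha1, hc⟩ => h3 ⟨a, ha, ha1, hc.trans (isConj_iff.2 ⟨y⁻¹, by group⟩)⟩)
  have hno : ∀ {u z : G}, Torus D u z → z ∉ R := fun {u z} T' hz => by
    obtain ⟨h1, h2, h3⟩ := hRmem z hz
    exact h3 (hconjA hr₀ hr₀m z h1 (hr₀m.trans (hmdvd T')))
  have hRcent : ∀ z ∈ R, Nat.card ↥(Subgroup.centralizer ({z} : Set G)) ∣ q := by
    intro z hz
    obtain ⟨h1, h2, h3⟩ := hRmem z hz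
    have c1 : (Nat.card ↥(Subgroup.centralizer ({z} : Set G))).Coprime k₀ :=
      coprime_cent (D := D) h1 h2 hKr
    have c2 : (Nat.card ↥(Subgroup.centralizer ({z} : Set G))).Coprime m :=
      Nat.coprime_of_dvd fun r hr e1 e2 => h3 (hconjA hr e2 z h1 e1)
    have c3 : (Nat.card ↥(Subgroup.centralizer ({z} : Set G))).Coprime 2 :=
      Nat.coprime_two_right.2 (odd_cent D h1 h2)
    refine ((c3.mul_right (hm ▸ c1)).mul_right c2).dvd_of_dvd_mul_left ?_
    rw [show 2 * (m + 1) * m * q = Nat.card G by rw [hg']; ring]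
    exact Subgroup.card_subgroup_dvd_card _
  have hnreal : ∀ z ∈ R, ¬ IsConj z z⁻¹ := by
    intro z hz hc
    obtain ⟨g, hgz⟩ := isConj_iff.1 hc
    obtain ⟨h1, h2, -⟩ := hRmem z hz
    have hodd' := odd_cent D h1 h2
    set c := Nat.card ↥(Subgroup.centralizer ({z} : Set G)) with hc0
    set v := g ^ c with hv
    have hsq : g * g ∈ Subgroup.centralizer ({z} : Set G) := by
      rw [Subgroup.mem_centralizer_singleton_iff]
      refine mul_inv_eq_iff_eq_mul.1 ?_
      rw [show g * g * z * (g * g)⁻¹ = g * (g * z * g⁻¹) * g⁻¹ by group, hgz,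
        show g * z⁻¹ * g⁻¹ = (g * z * g⁻¹)⁻¹ by group, hgz, inv_inv]
    have hv2 : v * v = 1 := by
      rw [hv, ← (Commute.refl g).mul_pow]
      exact orderOf_dvd_iff_pow_eq_one.1 (Subgroup.orderOf_dvd_natCard _ hsq)
    obtain ⟨i, hi⟩ := hodd'
    have hvz : v * z * v⁻¹ = z⁻¹ := by
      have hg2 : Commute ((g * g) ^ i) z :=
        (show Commute (g * g) z from Subgroup.mem_centralizer_singleton_iff.1 hsq).pow_left i
      rw [hv, hi, pow_succ', pow_mul, pow_two,
        show g * (g * g) ^ i * z * (g * (g * g) ^ i)⁻¹ =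
          g * ((g * g) ^ i * z * ((g * g) ^ i)⁻¹) * g⁻¹ by group, hg2.eq, mul_inv_cancel_right,
        hgz]
    have hv1 : v ≠ 1 := fun h => by
      rw [h, one_mul, inv_one, mul_one] at hvz
      exact no_invol_cent D h1 h2 (Commute.refl z)
        (H26.orderOf_two_of_mul_self (eq_inv_iff_mul_eq_one.1 hvz) h1)
    exact hno (u := v) ⟨H26.orderOf_two_of_mul_self hv2 hv1, h1, h2, hvz⟩ hz
  have hRinv : ∀ z ∈ R, z⁻¹ ∈ R := by
    intro z hz
    obtain ⟨h1, h2, h3⟩ := hRmem z hz
    refine hRof _ (inv_ne_one.2 h1) (fun h => ?_) (fun ⟨a, ha, ha1, hc⟩ => ?_)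
    · obtain ⟨x, hx, hx1, hc⟩ := h
      obtain ⟨y, hy⟩ := isConj_iff.1 hc
      exact h2 ⟨x⁻¹, D.K.inv_mem hx, inv_ne_one.2 hx1, isConj_iff.2 ⟨y, by
        rw [show y * x⁻¹ * y⁻¹ = (y * x * y⁻¹)⁻¹ by group, hy, inv_inv]⟩⟩
    · obtain ⟨y, hy⟩ := isConj_iff.1 hc
      exact h3 ⟨a⁻¹, A.inv_mem ha, inv_ne_one.2 ha1, isConj_iff.2 ⟨y, by
        rw [show y * a⁻¹ * y⁻¹ = (y * a * y⁻¹)⁻¹ by group, hy, inv_inv]⟩⟩
  have hclass : ∀ z ∈ R, Nat.card ↥(Subgroup.centralizer ({z} : Set G)) = q ∧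
      ∀ x ∈ R, IsConj z x ∨ IsConj z⁻¹ x := by
    intro z hz
    set S : G → Finset G := fun z => univ.filter fun x => IsConj z x with hS
    have hSc : ∀ z : G, (S z).card * Nat.card ↥(Subgroup.centralizer ({z} : Set G)) =
        Nat.card G := fun z => by
      rw [hS, ← Fintype.card_subtype, ← Nat.card_eq_fintype_card]
      exact card_class_mul z
    have hbig : ∀ z ∈ R, 2 * m * (m + 1) ≤ (S z).card := by
      intro z hz
      have hle := Nat.le_of_dvd (by omega) (hRcent z hz)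
      by_contra hlt
      push Not at hlt
      have e := hSc z
      rw [hg'] at e
      nlinarith [Nat.mul_lt_mul_of_lt_of_le hlt hle (show 0 < q by omega)]
    have hdisj : Disjoint (S z) (S z⁻¹) := Finset.disjoint_left.2 fun x h1 h2 =>
      hnreal z hz ((Finset.mem_filter.1 h1).2.trans (Finset.mem_filter.1 h2).2.symm)
    have hsub : S z ∪ S z⁻¹ ⊆ R := fun x hx => by
      rcases Finset.mem_union.1 hx with h | h
      · exact hRconj z hz x (Finset.mem_filter.1 h).2
      · exact hRconj _ (hRinv z hz) x (Finset.mem_filter.1 h).2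
    have hle := Finset.card_le_card hsub
    rw [Finset.card_union_of_disjoint hdisj] at hle
    have h1 := hbig z hz
    have h2 := hbig _ (hRinv z hz)
    have hqq : q * q = 4 * (m * (m + 1)) + 1 := by rw [hqdef]; ring
    have hm' : 2 * m * (m + 1) = 2 * (m * (m + 1)) := by ring
    have hS1 : (S z).card = 2 * m * (m + 1) := by omega
    refine ⟨?_, fun x hx => ?_⟩
    · have e := hSc z
      rw [hS1, hg'] at e
      exact Nat.eq_of_mul_eq_mul_left (show 0 < 2 * m * (m + 1) by positivity) (e.trans (by ring))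
    · have heq : S z ∪ S z⁻¹ = R := Finset.eq_of_subset_of_card_le hsub (by
        rw [Finset.card_union_of_disjoint hdisj]; omega)
      rw [← heq] at hx
      rcases Finset.mem_union.1 hx with h | h
      · exact Or.inl (Finset.mem_filter.1 h).2
      · exact Or.inr (Finset.mem_filter.1 h).2
  obtain ⟨p, hp, hpq⟩ := Nat.exists_prime_and_dvd (show q ≠ 1 by omega)
  haveI : Fact p.Prime := ⟨hp⟩
  have hqG : q ∣ Nat.card G := by rw [hg']; exact ⟨(m + 1) * (2 * m), by ring⟩
  have hordR : ∀ z : G, ∀ d : ℕ, d ∣ q → 1 < d → d ∣ orderOf z → z ∈ R := by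
    intro z d hd hd1 hdz
    refine hRof z (fun h => ?_) (fun h => ?_) (fun ⟨a, ha, ha1, hc⟩ => ?_)
    · rw [h, orderOf_one] at hdz; exact hd1.ne' (Nat.dvd_one.1 hdz)
    · have h' := hdz.trans (inK_orderOf D h)
      rw [← hk0, hm] at h'
      exact hd1.ne' (Nat.eq_one_of_dvd_coprimes copQ hd ((dvd_mul_of_dvd_right h' 2).mul_right m))
    · have h' : d ∣ Nat.card ↥A := by
        rw [← orderOf_of_isConj hc] at hdz
        exact hdz.trans (Subgroup.orderOf_dvd_natCard A ha)
      rw [hj] at h'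
      exact hd1.ne' (Nat.eq_one_of_dvd_coprimes copQ hd (dvd_mul_of_dvd_right h' _))
  obtain ⟨x₀, hx₀⟩ := exists_prime_orderOf_dvd_card' p (hpq.trans hqG)
  have hx₀R : x₀ ∈ R := hordR x₀ p hpq hp.one_lt (hx₀.symm ▸ dvd_rfl)
  have hord : ∀ x ∈ R, orderOf x = p := fun x hx => by
    rcases (hclass x₀ hx₀R).2 x hx with h | h
    · rw [← orderOf_of_isConj h, hx₀]
    · rw [← orderOf_of_isConj h, orderOf_inv, hx₀]
  have hqp : q = p ^ q.primeFactorsList.length := by
    refine Nat.eq_prime_pow_of_unique_prime_dvd (by omega) fun {d} hd hdq => ?_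
    haveI : Fact d.Prime := ⟨hd⟩
    obtain ⟨x, hx⟩ := exists_prime_orderOf_dvd_card' d (hdq.trans hqG)
    rw [← hx, hord x (hordR x d hdq hd.one_lt (hx.symm ▸ dvd_rfl))]
  have hpsyl : ∀ x ∈ R, IsPGroup p ↥(Subgroup.centralizer ({x} : Set G)) := fun x hx =>
    IsPGroup.of_card (n := q.primeFactorsList.length) ((hclass x hx).1.trans hqp)
  have hpind : ∀ x ∈ R, ¬ p ∣ (Subgroup.centralizer ({x} : Set G)).index := by
    intro x hx hd
    have e := Subgroup.card_mul_index (Subgroup.centralizer ({x} : Set G))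
    rw [(hclass x hx).1, hg'] at e
    have e2 : (Subgroup.centralizer ({x} : Set G)).index = 2 * (m + 1) * m :=
      Nat.eq_of_mul_eq_mul_left (show 0 < q by omega) (e.trans (by ring))
    rw [e2] at hd
    exact hp.one_lt.ne' (Nat.eq_one_of_dvd_coprimes copQ hpq hd)
  obtain ⟨P₀, hP₀⟩ : ∃ P₀ : Sylow p G, (P₀ : Subgroup G) = Subgroup.centralizer ({x₀} : Set G) :=
    ⟨(hpsyl x₀ hx₀R).toSylow (hpind x₀ hx₀R), rfl⟩
  have hSylq : ∀ P : Sylow p G, Nat.card ↥(P : Subgroup G) = q := fun P => by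
    rw [P.card_eq_multiplicity, ← P₀.card_eq_multiplicity]
    exact (congrArg (fun H : Subgroup G => Nat.card ↥H) hP₀).trans (hclass x₀ hx₀R).1
  have hPR : ∀ (P : Sylow p G) (x : G), x ∈ (P : Subgroup G) → x ≠ 1 → x ∈ R := by
    intro P x hx hx1
    refine hordR x (orderOf x) ?_ ?_ dvd_rfl
    · rw [← hSylq P]; exact Subgroup.orderOf_dvd_natCard _ hx
    · rcases Nat.lt_trichotomy (orderOf x) 1 with h | h | h
      · exact absurd h (by have := orderOf_pos x; omega)
      · exact absurd (orderOf_eq_one_iff.1 h) hx1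
      · exact h
  have hnormN : Nat.card ↥(Subgroup.normalizer (A : Set G)) = Nat.card ↥A * 2 := by
    rw [hcardL, he₂]
  have hlemR : ∀ {r : ℕ} [Fact r.Prime], r ≠ 2 → r ≠ p → ∀ (Y : Subgroup G), IsPGroup r ↥Y →
      ∀ g : G, Odd (orderOf g) → g ∈ Subgroup.normalizer (Y : Set G) → ∀ x ∈ Y, Commute g x := by
    intro r _ hr2 hrp Y hY g hgo hgY
    refine odd_normalizer_commutes D T hnormN hTI hr2 Y hY (fun x hx hx1 => ?_) g hgo hgY
    by_contra hc
    push Not at hc
    have hxR := hRof x hx1 hc.1 fun ⟨a, ha, ha1, hax⟩ =>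
      hc.2 a (Subgroup.mem_centralizer_singleton_iff.1 ha) ha1 hax
    obtain ⟨i, hi⟩ := hY ⟨x, hx⟩
    have hd : orderOf x ∣ r ^ i := orderOf_dvd_of_pow_eq_one (congrArg Subtype.val hi)
    rw [hord x hxR] at hd
    exact hrp ((Nat.prime_dvd_prime_iff_eq hp Fact.out).1 (hp.dvd_of_dvd_pow hd)).symm
  -- a subgroup normalising a nontrivial intersection has odd order and one Sylow `p`-subgroup
  have hTIP : ∀ P₁ P₂ : Sylow p G, ((P₁ : Subgroup G) ⊓ (P₂ : Subgroup G)) ≠ ⊥ → P₁ = P₂ := by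
    by_contra hc
    push Not at hc
    obtain ⟨Q₁, Q₂, hQ12, hQne⟩ := hc
    set Φ : Finset (Sylow p G × Sylow p G) := by
      haveI := Fintype.ofFinite (Sylow p G)
      exact univ.filter fun pr => pr.1 ≠ pr.2 ∧
        ((pr.1 : Subgroup G) ⊓ (pr.2 : Subgroup G)) ≠ ⊥ with hΦ
    have hΦne : Φ.Nonempty := ⟨(Q₁, Q₂), by simp [hΦ, hQne, hQ12]⟩
    obtain ⟨⟨P₁, P₂⟩, hP, hmax⟩ := Finset.exists_max_image Φ
      (fun pr => Nat.card ↥((pr.1 : Subgroup G) ⊓ (pr.2 : Subgroup G))) hΦne
    simp only [hΦ, Finset.mem_filter, Finset.mem_univ, true_and] at hP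
    obtain ⟨hne, hbot⟩ := hP
    set E := (P₁ : Subgroup G) ⊓ (P₂ : Subgroup G) with hE
    set N := Subgroup.normalizer (E : Set G) with hNE
    have hNodd : Odd (Nat.card ↥N) := by
      rw [← Nat.not_even_iff_odd, even_iff_two_dvd]
      intro h2
      haveI : Fact (Nat.Prime 2) := ⟨Nat.prime_two⟩
      obtain ⟨v, hv⟩ := exists_prime_orderOf_dvd_card' 2 h2
      rw [← Subgroup.orderOf_coe] at hv
      obtain ⟨hinvE, -⟩ := inverts D hv E (fun a ha => (Subgroup.mem_normalizer_iff.1 v.2 a).1 ha)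
        (fun a ha ha1 => (hRmem a (hPR P₁ a (Subgroup.mem_inf.1 ha).1 ha1)).2.1)
      obtain ⟨⟨a, ha⟩, ha1⟩ := E.ne_bot_iff_exists_ne_one.1 hbot
      have ha1' : a ≠ 1 := fun h => ha1 (Subtype.ext h)
      have haR := hPR P₁ a (Subgroup.mem_inf.1 ha).1 ha1'
      exact hno (u := (v : G)) ⟨hv, ha1', (hRmem a haR).2.1, hinvE a ha⟩ haR
    have hburn : ∀ r : ℕ, r.Prime → r ≠ p → ¬ r ∣ Nat.card ↥(commutator ↥N) := by
      intro r hr hrp
      haveI : Fact r.Prime := ⟨hr⟩
      by_cases hr2 : r = 2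
      · subst hr2
        intro hd
        exact (Nat.not_even_iff_odd.2 hNodd)
          (even_iff_two_dvd.2 (hd.trans (Subgroup.card_subgroup_dvd_card _)))
      refine commutator_dvd r fun Y g hgY => Subgroup.mem_centralizer_iff.2 fun x hx => ?_
      have hY : IsPGroup r ↥((Y : Subgroup ↥N).map N.subtype) := Y.2.map _
      have hc := hlemR hr2 hrp _ hY (g : G) ?_ ?_ (x : G) (Subgroup.mem_map_of_mem N.subtype hx)
      · exact Subtype.ext hc.eq.symm
      · rw [Subgroup.orderOf_coe]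
        exact hNodd.of_dvd_nat (orderOf_dvd_natCard g)
      · refine Subgroup.mem_normalizer_iff.2 fun w => ?_
        constructor
        · rintro ⟨w', hw', rfl⟩
          exact ⟨g * w' * g⁻¹, (Subgroup.mem_normalizer_iff.1 hgY w').1 hw', by simp⟩
        · rintro ⟨w', hw', he⟩
          refine ⟨g⁻¹ * w' * g, (Subgroup.mem_normalizer_iff.1 hgY _).2 ?_, ?_⟩
          · rw [show g * (g⁻¹ * w' * g) * g⁻¹ = w' by group]; exact hw'
          · simp only [Subgroup.coe_subtype] at he ⊢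
            rw [Subgroup.coe_mul, Subgroup.coe_mul, Subgroup.coe_inv, he]; group
    have hcommp : IsPGroup p ↥(commutator ↥N) := by
      exact IsPGroup.of_card (Nat.eq_prime_pow_of_unique_prime_dvd Nat.card_pos.ne'
        fun {d} hd hdd => by_contra fun hne => hburn d hd hne hdd)
    obtain ⟨S⟩ := (inferInstance : Nonempty (Sylow p ↥N))
    have hcS : commutator ↥N ≤ (S : Subgroup ↥N) := by
      obtain ⟨S', hS'⟩ := hcommp.exists_le_sylow
      obtain ⟨g, rfl⟩ := MulAction.exists_smul_eq ↥N S' S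
      intro a ha
      rw [Sylow.coe_subgroup_smul]
      have h1 : g⁻¹ * a * g ∈ commutator ↥N := by
        have := (Subgroup.Normal.conj_mem inferInstance a ha g⁻¹ : _ ∈ commutator ↥N)
        rwa [inv_inv] at this
      have h2 := Subgroup.smul_mem_pointwise_smul _ (MulAut.conj g) _ (hS' h1)
      rwa [MulAut.smul_def, MulAut.conj_apply,
        show g * (g⁻¹ * a * g) * g⁻¹ = a by group] at h2
    haveI hSn : (S : Subgroup ↥N).Normal := by
      refine ⟨fun x hx g => ?_⟩
      have h1 : g * x * g⁻¹ * x⁻¹ ∈ (S : Subgroup ↥N) := hcS (by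
        rw [commutator_def, ← commutatorElement_def]
        exact Subgroup.commutator_mem_commutator (Subgroup.mem_top g) (Subgroup.mem_top x))
      have h2 := (S : Subgroup ↥N).mul_mem h1 hx
      rwa [inv_mul_cancel_right] at h2
    haveI : Subsingleton (Sylow p ↥N) := (Sylow.unique_of_normal S hSn).instSubsingleton
    have hSp : IsPGroup p ↥((S : Subgroup ↥N).map N.subtype) := S.2.map _
    obtain ⟨P₃, hP₃⟩ := hSp.exists_le_sylow
    have hside : ∀ P : Sylow p G, E < (P : Subgroup G) → P₃ = P := by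
      intro P hEP
      by_contra hne3
      haveI := P.2.isNilpotent
      have hlt : E.subgroupOf (P : Subgroup G) < ⊤ := lt_top_iff_ne_top.2 fun h =>
        (not_le_of_gt hEP) (Subgroup.subgroupOf_eq_top.1 h)
      have hgrow := Group.normalizerCondition_of_isNilpotent _ hlt
      obtain ⟨x, hxN, hxE⟩ := SetLike.exists_of_lt hgrow
      have hxN' : (x : G) ∈ N := by
        refine Subgroup.mem_normalizer_iff.2 fun w => ?_
        constructor
        · intro hw
          exact (Subgroup.mem_normalizer_iff.1 hxN ⟨w, hEP.le hw⟩).1 hw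
        · intro hw
          have hwP : w ∈ (P : Subgroup G) := by
            have := (P : Subgroup G).mul_mem ((P : Subgroup G).mul_mem
              ((P : Subgroup G).inv_mem x.2) (hEP.le hw)) x.2
            rwa [show (x : G)⁻¹ * ((x : G) * w * (x : G)⁻¹) * x = w by group] at this
          exact (Subgroup.mem_normalizer_iff.1 hxN ⟨w, hwP⟩).2 hw
      -- `N ∩ P` lies in the normal Sylow subgroup of `N`
      have hNP : N ⊓ (P : Subgroup G) ≤ (P₃ : Subgroup G) := by
        have hp' : IsPGroup p ↥((P : Subgroup G).subgroupOf N) :=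
          P.2.comap_of_injective N.subtype N.subtype_injective
        obtain ⟨S', hS'⟩ := hp'.exists_le_sylow
        rw [Subsingleton.elim S' S] at hS'
        intro w hw
        obtain ⟨hw1, hw2⟩ := Subgroup.mem_inf.1 hw
        exact hP₃ ⟨⟨w, hw1⟩, hS' hw2, rfl⟩
      have hEle : E < (P₃ : Subgroup G) ⊓ (P : Subgroup G) := by
        refine lt_of_le_of_ne (fun w hw => Subgroup.mem_inf.2
          ⟨hNP (Subgroup.mem_inf.2 ⟨Subgroup.le_normalizer hw, hEP.le hw⟩), hEP.le hw⟩) ?_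
        intro h
        refine hxE ?_
        show (x : G) ∈ E
        rw [h]
        exact Subgroup.mem_inf.2 ⟨hNP (Subgroup.mem_inf.2 ⟨hxN', x.2⟩), x.2⟩
      have hcards := hmax (P₃, P) (by
        simp only [hΦ, Finset.mem_filter, Finset.mem_univ, true_and]
        exact ⟨hne3, fun h => not_lt_bot (h ▸ hEle)⟩)
      exact hEle.ne (Subgroup.eq_of_le_of_card_ge hEle.le hcards)
    have hlt1 : E < (P₁ : Subgroup G) := by
      refine lt_of_le_of_ne inf_le_left fun h => hne ?_
      exact Sylow.ext (Subgroup.eq_of_le_of_card_ge (h ▸ inf_le_right)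
        (by rw [hSylq, hSylq]))
    have hlt2 : E < (P₂ : Subgroup G) := by
      refine lt_of_le_of_ne inf_le_right fun h => hne ?_
      exact (Sylow.ext (Subgroup.eq_of_le_of_card_ge (h ▸ inf_le_left)
        (by rw [hSylq, hSylq]))).symm
    exact hne ((hside P₁ hlt1).symm.trans (hside P₂ hlt2))
  have hcentP : ∀ (P : Sylow p G) (x : G), x ∈ (P : Subgroup G) → x ≠ 1 →
      Subgroup.centralizer ({x} : Set G) = (P : Subgroup G) := by
    intro P x hx hx1
    have hxR := hPR P x hx hx1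
    set S := (hpsyl x hxR).toSylow (hpind x hxR) with hS
    have hSe : (S : Subgroup G) = Subgroup.centralizer ({x} : Set G) := rfl
    have : S = P := by
      refine hTIP S P fun h => hx1 ?_
      rw [← Subgroup.mem_bot, ← h]
      exact Subgroup.mem_inf.2 ⟨hSe ▸ Subgroup.mem_centralizer_singleton_iff.2 rfl, hx⟩
    rw [← hSe, this]
  have hNP : ∀ P : Sylow p G,
      Nat.card ↥(Subgroup.normalizer ((P : Subgroup G) : Set G)) = q * m := by
    intro P
    have hsatP := card_saturation (P : Subgroup G) (Subgroup.normalizer ((P : Subgroup G) : Set G))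
      (fun x hx a ha => (Subgroup.mem_normalizer_iff.1 hx a).1 ha)
      (fun g a ha ha1 h => by
        refine Subgroup.mem_normalizer_iff.2 fun w => ?_
        have e1 := hcentP P a ha ha1
        have e2 := hcentP P _ h (fun e => ha1 (conj_eq_one_iff.1 e))
        constructor
        · intro hw
          rw [← e2, Subgroup.mem_centralizer_singleton_iff]
          rw [← e1, Subgroup.mem_centralizer_singleton_iff] at hw
          exact (Commute.map (show Commute w a from hw) (MulAut.conj g).toMonoidHom).eq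
        · intro hw
          rw [← e1, Subgroup.mem_centralizer_singleton_iff]
          rw [← e2, Subgroup.mem_centralizer_singleton_iff] at hw
          have h' := Commute.map (show Commute (g * w * g⁻¹) (g * a * g⁻¹) from hw)
            (MulAut.conj g⁻¹).toMonoidHom
          simp only [MulEquiv.coe_toMonoidHom, MulAut.conj_apply] at h'
          rw [show g⁻¹ * (g * w * g⁻¹) * g⁻¹⁻¹ = w by group,
            show g⁻¹ * (g * a * g⁻¹) * g⁻¹⁻¹ = a by group] at h'
          exact h'.eq)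
    have hset : (univ.filter fun z => ∃ a ∈ (P : Subgroup G), a ≠ 1 ∧ IsConj a z) = R := by
      ext z
      simp only [Finset.mem_filter, Finset.mem_univ, true_and]
      constructor
      · rintro ⟨a, ha, ha1, hc⟩; exact hRconj a (hPR P a ha ha1) z hc
      · intro hz
        haveI : Nontrivial ↥(P : Subgroup G) :=
          Finite.one_lt_card_iff_nontrivial.1 (by rw [hSylq]; omega)
        obtain ⟨a, ha⟩ := exists_ne (1 : ↥(P : Subgroup G))
        have ha' : (a : G) ≠ 1 := fun h => ha (Subtype.ext h)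
        rcases (hclass _ (hPR P _ a.2 ha')).2 z hz with h | h
        · exact ⟨a, a.2, ha', h⟩
        · exact ⟨(a : G)⁻¹, (P : Subgroup G).inv_mem a.2, inv_ne_one.2 ha', h⟩
    rw [Nat.card_eq_fintype_card, Fintype.card_subtype, hset, hg', hSylq,
      show q - 1 = 2 * m by omega] at hsatP
    have hqq : q * q = 4 * (m * (m + 1)) + 1 := by rw [hqdef]; ring
    have hR2 : R.card = 4 * (m * (m + 1)) := by omega
    rw [hR2] at hsatP
    exact Nat.eq_of_mul_eq_mul_left (show 0 < 4 * (m * (m + 1)) by positivity)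
      (hsatP.trans (by rw [hqdef]; ring))
  -- a complement in the normaliser
  have hP₀ : ∃ P : Sylow p G, A ≤ Subgroup.normalizer ((P : Subgroup G) : Set G) := by
    set N₀ := Subgroup.normalizer ((P₀ : Subgroup G) : Set G) with hN₀
    have hle : (P₀ : Subgroup G) ≤ N₀ := Subgroup.le_normalizer
    haveI : ((P₀ : Subgroup G).subgroupOf N₀).Normal := Subgroup.normal_in_normalizer
    have hcardP : Nat.card ↥((P₀ : Subgroup G).subgroupOf N₀) = q := by
      rw [Nat.card_congr (Subgroup.subgroupOfEquivOfLe hle).toEquiv, hSylq]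
    have hcop : Nat.Coprime q m :=
      Nat.Coprime.coprime_dvd_right (dvd_mul_left m (2 * (m + 1))) copQ
    have hidxP : ((P₀ : Subgroup G).subgroupOf N₀).index = m := by
      have e := Subgroup.card_mul_index ((P₀ : Subgroup G).subgroupOf N₀)
      rw [hcardP, hN₀, hNP P₀] at e
      exact Nat.eq_of_mul_eq_mul_left (by omega) e
    obtain ⟨L₀, hL₀⟩ := Subgroup.exists_right_complement'_of_coprime
      (N := (P₀ : Subgroup G).subgroupOf N₀) (by rw [hcardP, hidxP]; exact hcop)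
    have hL₀c : Nat.card ↥L₀ = m := by
      rw [← hL₀.symm.index_eq_card, hidxP]
    set ι : ↥L₀ →* G := N₀.subtype.comp L₀.subtype with hι
    have hιinj : Function.Injective ι := fun a b h => Subtype.ext (Subtype.ext h)
    have hLnontriv : Nontrivial ↥L₀ := Finite.one_lt_card_iff_nontrivial.1 (by omega)
    have hLab : ∀ a b : ↥L₀, a * b = b * a := by
      have hbot : commutator ↥L₀ = ⊥ := by
        by_contra hne
        obtain ⟨r, hr, hrd⟩ := Nat.exists_prime_and_dvd
          (show Nat.card ↥(commutator ↥L₀) ≠ 1 from fun h => hne (Subgroup.card_eq_one.1 h))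
        haveI : Fact r.Prime := ⟨hr⟩
        have hrm : r ∣ m := hL₀c ▸ hrd.trans (Subgroup.card_subgroup_dvd_card _)
        have hr2 : r ≠ 2 := by
          rintro rfl
          exact absurd (even_iff_two_dvd.2 hrm) (Nat.not_even_iff_odd.2 hmodd)
        have hrp : r ≠ p := by
          rintro rfl
          exact hr.one_lt.ne' (Nat.eq_one_of_dvd_coprimes hcop hpq hrm)
        refine commutator_dvd r (fun Y g hgY => Subgroup.mem_centralizer_iff.2 fun x hx => ?_) hrd
        have hY : IsPGroup r ↥((Y : Subgroup ↥L₀).map ι) := Y.2.map _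
        have hc := hlemR hr2 hrp _ hY (ι g) ?_ ?_ (ι x) (Subgroup.mem_map_of_mem ι hx)
        · exact hιinj (by rw [map_mul, map_mul]; exact hc.eq.symm)
        · rw [orderOf_injective ι hιinj]
          exact (hL₀c.symm ▸ hmodd : Odd (Nat.card ↥L₀)).of_dvd_nat (orderOf_dvd_natCard g)
        · refine Subgroup.mem_normalizer_iff.2 fun w => ⟨?_, ?_⟩
          · rintro ⟨w', hw', rfl⟩
            exact ⟨g * w' * g⁻¹, (Subgroup.mem_normalizer_iff.1 hgY w').1 hw', by simp⟩
          · rintro ⟨w', hw', he⟩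
            refine ⟨g⁻¹ * w' * g, (Subgroup.mem_normalizer_iff.1 hgY _).2 ?_, ?_⟩
            · rw [show g * (g⁻¹ * w' * g) * g⁻¹ = w' by group]; exact hw'
            · rw [map_mul, map_mul, map_inv, he]; group
      intro a b
      have h1 := Subgroup.commutator_mem_commutator (Subgroup.mem_top a) (Subgroup.mem_top b)
      rw [← commutator_def, hbot, Subgroup.mem_bot, commutatorElement_eq_one_iff_mul_comm] at h1
      exact h1
    obtain ⟨l, hl⟩ := exists_ne (1 : ↥L₀)
    have hl1 : ι l ≠ 1 := fun h => hl (hιinj (by rw [h, map_one]))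
    have hlord : orderOf (ι l) ∣ m := by
      rw [orderOf_injective ι hιinj, ← hL₀c]; exact orderOf_dvd_natCard l
    obtain ⟨r, hr, hrl⟩ := Nat.exists_prime_and_dvd
      (show orderOf (ι l) ≠ 1 from fun h => hl1 (orderOf_eq_one_iff.1 h))
    obtain ⟨a, ha, ha1, hc⟩ := hconjA hr (hrl.trans hlord) (ι l) hl1 (hrl.trans
      (Subgroup.orderOf_dvd_natCard _ (Subgroup.mem_centralizer_singleton_iff.2 rfl)))
    obtain ⟨y, hy⟩ := isConj_iff.1 hc
    have hca := T.cent_eq ha1 (Subgroup.mem_centralizer_singleton_iff.1 ha)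
    have hsub : (ι.range).map (MulAut.conj y⁻¹).toMonoidHom ≤ A := by
      rintro _ ⟨_, ⟨b, rfl⟩, rfl⟩
      rw [hA, ← hca, Subgroup.mem_centralizer_singleton_iff]
      have h := Commute.map (show Commute (ι b) (ι l) from (show Commute b l from hLab b l).map ι)
        (MulAut.conj y⁻¹).toMonoidHom
      have e : (MulAut.conj y⁻¹).toMonoidHom (ι l) = a := by
        rw [MulEquiv.coe_toMonoidHom, MulAut.conj_apply, ← hy]; group
      rw [e] at h
      exact h
    have heq := Subgroup.eq_of_le_of_card_ge hsub (by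
      rw [Nat.card_congr (Subgroup.equivMapOfInjective _ _ (MulEquiv.injective _)).symm.toEquiv,
        Nat.card_congr (MonoidHom.ofInjective hιinj).symm.toEquiv, hL₀c, hj])
    refine ⟨y⁻¹ • P₀, ?_⟩
    rw [← heq]
    rintro _ ⟨_, ⟨b, rfl⟩, rfl⟩
    refine Subgroup.mem_normalizer_iff.2 fun w => ?_
    rw [Sylow.coe_subgroup_smul, Subgroup.mem_pointwise_smul_iff_inv_smul_mem,
      Subgroup.mem_pointwise_smul_iff_inv_smul_mem, MulAut.smul_def, MulAut.smul_def,
      ← map_inv, inv_inv, MulAut.conj_apply, MulAut.conj_apply, MulEquiv.coe_toMonoidHom,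
      MulAut.conj_apply,
      show y * (y⁻¹ * ι b * y⁻¹⁻¹ * w * (y⁻¹ * ι b * y⁻¹⁻¹)⁻¹) * y⁻¹ =
        ι b * (y * w * y⁻¹) * (ι b)⁻¹ by group]
    exact Subgroup.mem_normalizer_iff.1 (b : ↥N₀).2 _
  obtain ⟨P, hAP⟩ := hP₀
  have hdisj : (P : Subgroup G) ⊓ A = ⊥ := by
    rw [eq_bot_iff]
    intro x hx
    obtain ⟨h1, h2⟩ := Subgroup.mem_inf.1 hx
    rw [Subgroup.mem_bot]
    by_contra hne
    exact (hRmem x (hPR P x h1 hne)).2.2 ⟨x, h2, hne, IsConj.refl x⟩
  refine ⟨(P : Subgroup G), A, ?_, fun x hx hx1 => hcentP P x hx hx1,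
    ⟨⟨fun a b => Subtype.ext (T.inverts_cent.2 a b
      (Subgroup.mem_centralizer_singleton_iff.1 a.2)
      (Subgroup.mem_centralizer_singleton_iff.1 b.2)).eq⟩⟩, by rw [hj, hSylq], hdisj, ?_,
    fun X hX hXne => ⟨?_, D.t, D.ht, ?_, fun d hd =>
      T.inverts_cent.1 d (Subgroup.mem_centralizer_singleton_iff.1 hd), hLt ▸ hsupL⟩⟩
  · rw [hSylq, hg', hqdef, show 2 * m + 1 - 1 = 2 * m by omega]; ring
  · refine (Subgroup.eq_of_le_of_card_ge (sup_le Subgroup.le_normalizer hAP) ?_).symm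
    rw [hNP P]
    refine Nat.le_of_dvd Nat.card_pos ?_
    refine Nat.Coprime.mul_dvd_of_dvd_of_dvd
      (Nat.Coprime.coprime_dvd_right (dvd_mul_left m (2 * (m + 1))) copQ) ?_ ?_
    · rw [← hSylq P]; exact Subgroup.card_dvd_of_le le_sup_left
    · rw [← hj]; exact Subgroup.card_dvd_of_le le_sup_right
  · exact torus_normalizer D T L hLt hsupL hTI hX hXne
  · intro h
    exact no_invol_cent D T.hz1 T.hzK (Subgroup.mem_centralizer_singleton_iff.1 h) D.ht

end Cfsg.Agent.H65.BSW
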