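import Cfsg.Agent.H65.BSW.Common

/-!
# The case of two classes of tori: the torus `K` has order `(q - 1) / 2`
-/

set_option autoImplicit false
set_option linter.unusedSectionVars false
set_option linter.style.haveILetI false

open Finset

namespace Cfsg.Agent.H65.BSW

universe u

/-- The two possible orders of a torus centraliser. -/
theorem plus_arith {k a j : ℕ} (hk : 2 < k) (ha : a ∣ (2 * k + 1) * (k + 1)) (ha1 : 1 < a)
    (hj : a = 1 + k * j) : a = k + 1 ∨ a = 2 * k + 1 ∨ a = (2 * k + 1) * (k + 1) := by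
  obtain ⟨b, hb⟩ := ha
  have hbk : b % k = 1 := by
    have h1 : ((2 * k + 1) * (k + 1)) % k = 1 := by
      rw [show (2 * k + 1) * (k + 1) = 1 + k * (2 * k + 3) by ring, Nat.add_mul_mod_self_left,
        Nat.one_mod_eq_one.2 (by omega)]
    rw [hb, hj, Nat.mul_mod, Nat.add_mul_mod_self_left, Nat.one_mod_eq_one.2 (by omega),
      one_mul, Nat.mod_mod] at h1
    exact h1
  obtain ⟨i, hi⟩ : ∃ i, b = 1 + k * i := ⟨b / k, by have := Nat.mod_add_div b k; omega⟩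
  have hj1 : 1 ≤ j := by
    rcases Nat.eq_zero_or_pos j with h | h
    · rw [h, mul_zero, add_zero] at hj; omega
    · exact h
  have e : i + j + k * (i * j) = 2 * k + 3 := by
    apply Nat.eq_of_mul_eq_mul_left (show 0 < k by omega)
    rw [hj, hi] at hb
    linarith
  rcases Nat.eq_zero_or_pos i with rfl | hi0
  · right; right; rw [hb, hi, mul_zero, add_zero, mul_one]
  have hij : i * j ≤ 2 := by
    by_contra h
    push Not at h
    have : 3 * k ≤ k * (i * j) := by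
      calc 3 * k = k * 3 := mul_comm _ _
        _ ≤ _ := Nat.mul_le_mul_left k h
    omega
  have hj2 : j ≤ 2 := le_trans (Nat.le_mul_of_pos_left j hi0) hij
  have hi2 : i ≤ 2 := le_trans (Nat.le_mul_of_pos_right i (by omega)) hij
  interval_cases j <;> interval_cases i <;> omega

variable {G : Type u} [Group G] [Finite G] (D : Data G)

theorem plus (hk : 2 < k D) (hg : Nat.card G = k D * (2 * k D + 1) * (2 * k D + 2))
    (hN : ∀ z : G, z ≠ 1 → ¬ InK D z → ∃ j : ℤ, (npair z : ℤ) = 2 * k D + 1 + k D * j) :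
    Concl G := by
  classical
  haveI := Fintype.ofFinite G
  set k₀ := k D with hk0
  have hkev := even_k D
  have hindK : D.K.index = (2 * k₀ + 1) * (2 * k₀ + 2) := by
    have h := Subgroup.card_mul_index D.K
    rw [hg] at h
    exact Nat.eq_of_mul_eq_mul_left Nat.card_pos (h.trans (by rw [hk0, k]; ring))
  have hKr : ∀ r : ℕ, r.Prime → r ∣ k D → r ≠ 2 → ¬ r ∣ D.K.index := by
    intro r hr h1 h2 h3
    rw [hindK] at h3
    rcases hr.dvd_mul.1 h3 with h | h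
    · have : r ∣ 1 := (Nat.dvd_add_right (dvd_mul_of_dvd_right h1 2)).1 h
      exact hr.one_lt.ne' (Nat.dvd_one.1 this)
    · have : r ∣ 2 := (Nat.dvd_add_right (dvd_mul_of_dvd_right h1 2)).1 h
      exact h2 ((Nat.prime_dvd_prime_iff_eq hr Nat.prime_two).1 this)
  have hn : Nat.card {v : G // orderOf v = 2} = (2 * k₀ + 1) * (k₀ + 1) := by
    refine Nat.eq_of_mul_eq_mul_right (show 0 < 2 * k₀ by omega) ?_
    rw [hk0, card_invol_subtype D, hg]; ring
  -- every element outside the conjugates of `K` is a torus element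
  have htor : ∀ z : G, z ≠ 1 → ¬ InK D z → (∃ u, Torus D u z) ∧
      (Nat.card ↥(Subgroup.centralizer ({z} : Set G)) = k₀ + 1 ∨
        Nat.card ↥(Subgroup.centralizer ({z} : Set G)) = 2 * k₀ + 1) := by
    intro z hz1 hzK
    obtain ⟨j, hj⟩ := hN z hz1 hzK
    have hne : npair z ≠ 0 := by
      intro h0
      rw [h0, Nat.cast_zero] at hj
      have hd : (k D : ℤ) ∣ 1 := ⟨-2 - j, by linarith⟩
      have := Int.le_of_dvd one_pos hd
      omega
    obtain ⟨u, T⟩ := torus_of_npair (D := D) hz1 hzK hne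
    refine ⟨⟨u, T⟩, ?_⟩
    rw [T.npair_eq] at hj
    set A := Subgroup.centralizer ({z} : Set G) with hA
    set a := Nat.card ↥A with ha
    have hcop : a.Coprime k₀ := coprime_cent (D := D) hz1 hzK hKr
    have hodd : Odd a := odd_cent D hz1 hzK
    have hdvd : a ∣ (2 * k₀ + 1) * (k₀ + 1) := by
      have h1 : a ∣ (2 * k₀ * ((2 * k₀ + 1) * (k₀ + 1))) := by
        rw [show 2 * k₀ * ((2 * k₀ + 1) * (k₀ + 1)) = Nat.card G by rw [hg]; ring]
        exact Subgroup.card_subgroup_dvd_card A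
      have h2 : a.Coprime (2 * k₀) :=
        Nat.Coprime.mul_right (Nat.coprime_two_right.2 hodd) hcop
      exact h2.dvd_of_dvd_mul_left h1
    have ha1 : 1 < a := by
      rw [ha]
      haveI : Nontrivial ↥A :=
        ⟨⟨⟨z, Subgroup.mem_centralizer_singleton_iff.2 rfl⟩, 1,
          fun h => hz1 (congrArg Subtype.val h)⟩⟩
      exact Finite.one_lt_card
    obtain ⟨j', hj'⟩ : ∃ j' : ℕ, a = 1 + k₀ * j' := by
      have h0 : 0 ≤ 2 + j := by
        by_contra hneg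
        have : (k D : ℤ) * (2 + j) ≤ (k D : ℤ) * (-1) :=
          mul_le_mul_of_nonneg_left (by omega) (Int.natCast_nonneg _)
        linarith [show (1 : ℤ) < a by exact_mod_cast ha1]
      obtain ⟨j', hj'⟩ := Int.eq_ofNat_of_zero_le h0
      refine ⟨j', ?_⟩
      have : (a : ℤ) = 1 + (k₀ : ℤ) * j' := by rw [← hj', hk0]; linarith
      exact_mod_cast this
    rcases plus_arith hk hdvd ha1 hj' with h | h | h
    · exact Or.inl h
    · exact Or.inr h
    exfalso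
    -- all involutions invert `z`
    have hsub : (univ.filter fun v : G => orderOf v = 2 ∧ orderOf (v * z) = 2) =
        univ.filter fun v : G => orderOf v = 2 := by
      refine Finset.eq_of_subset_of_card_le (fun v hv => ?_) ?_
      · simp only [Finset.mem_filter] at hv ⊢; exact ⟨hv.1, hv.2.1⟩
      · rw [← Fintype.card_subtype, ← Fintype.card_subtype, ← Nat.card_eq_fintype_card,
          ← Nat.card_eq_fintype_card, hn, ← h]
        exact T.npair_eq.ge
    have hinvz : ∀ v : G, orderOf v = 2 → v * z * v⁻¹ = z⁻¹ := by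
      intro v hv
      have hm : v ∈ univ.filter fun v : G => orderOf v = 2 ∧ orderOf (v * z) = 2 := by
        rw [hsub]; exact Finset.mem_filter.2 ⟨mem_univ _, hv⟩
      have hvz := (Finset.mem_filter.1 hm).2.2
      rw [H65.inv_eq_self hv]
      exact eq_inv_of_mul_eq_one_left (by rw [mul_assoc]; exact mul_self_eq_one hvz)
    have hne2 : D.t * D.s ≠ 1 := fun e => D.hsK (by
      rw [← inv_eq_of_mul_eq_one_right e]; exact D.K.inv_mem D.htK)
    refine no_invol_cent D hz1 hzK (v := D.t * D.s) ?_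
      (outside D ((Commute.refl D.t).mul_left D.hst) (fun h => D.hsK
        ((D.K.mul_mem_cancel_left D.htK).1 h))).1
    refine mul_inv_eq_iff_eq_mul.1 ?_
    rw [show D.t * D.s * z * (D.t * D.s)⁻¹ = D.t * (D.s * z * D.s⁻¹) * D.t⁻¹ by group,
      hinvz D.s D.hs, show D.t * z⁻¹ * D.t⁻¹ = (D.t * z * D.t⁻¹)⁻¹ by group, hinvz D.t D.ht,
      inv_inv]
  -- the two kinds exist
  have hex : ∀ m : ℕ, m.Coprime k₀ → m ∣ Nat.card G → 1 < m →
      ∃ r : ℕ, r.Prime ∧ r ∣ m ∧ ∃ z : G, z ≠ 1 ∧ ¬ InK D z ∧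
        r ∣ Nat.card ↥(Subgroup.centralizer ({z} : Set G)) := by
    intro m hm hmd hm1
    obtain ⟨r, hr, hrm⟩ := Nat.exists_prime_and_dvd (show m ≠ 1 by omega)
    haveI : Fact r.Prime := ⟨hr⟩
    obtain ⟨z, hz⟩ := exists_prime_orderOf_dvd_card' r (hrm.trans hmd)
    refine ⟨r, hr, hrm, z, fun h => ?_, fun h => ?_, ?_⟩
    · rw [h, orderOf_one] at hz; exact hr.one_lt.ne hz
    · have := inK_orderOf D h
      rw [hz] at this
      exact hr.one_lt.ne' (Nat.eq_one_of_dvd_coprimes hm hrm this)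
    · rw [← hz]
      exact Subgroup.orderOf_dvd_natCard _ (Subgroup.mem_centralizer_singleton_iff.2 rfl)
  have cop1 : Nat.Coprime (2 * k₀ + 1) (k₀ + 1) := by
    refine Nat.coprime_of_dvd fun r hr h1 h2 => ?_
    have h3 : r ∣ 2 * k₀ + 1 + 1 := by
      rw [show 2 * k₀ + 1 + 1 = 2 * (k₀ + 1) by ring]; exact dvd_mul_of_dvd_right h2 2
    exact hr.one_lt.ne' (Nat.dvd_one.1 ((Nat.dvd_add_right h1).1 h3))
  have copA : Nat.Coprime (2 * k₀ + 1) k₀ := by
    refine Nat.coprime_of_dvd fun r hr h1 h2 => ?_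
    exact hr.one_lt.ne' (Nat.dvd_one.1 ((Nat.dvd_add_right (dvd_mul_of_dvd_right h2 2)).1 h1))
  have copB : Nat.Coprime (k₀ + 1) k₀ := by
    refine Nat.coprime_of_dvd fun r hr h1 h2 => ?_
    exact hr.one_lt.ne' (Nat.dvd_one.1 ((Nat.dvd_add_right h2).1 h1))
  have exT : ∀ m m' : ℕ, (m = k₀ + 1 ∧ m' = 2 * k₀ + 1) ∨ (m = 2 * k₀ + 1 ∧ m' = k₀ + 1) →
      ∃ z : G, Torus D D.t z ∧ Nat.card ↥(Subgroup.centralizer ({z} : Set G)) = m := by
    intro m m' hm
    have hcop : m.Coprime m' ∧ m.Coprime k₀ := by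
      rcases hm with ⟨rfl, rfl⟩ | ⟨rfl, rfl⟩
      · exact ⟨cop1.symm, copB⟩
      · exact ⟨cop1, copA⟩
    have hmd : m ∣ Nat.card G := by
      rw [hg]
      rcases hm with ⟨rfl, rfl⟩ | ⟨rfl, rfl⟩
      · exact ⟨k₀ * (2 * k₀ + 1) * 2, by ring⟩
      · exact ⟨k₀ * (2 * k₀ + 2), by ring⟩
    obtain ⟨r, hr, hrm, z, hz1, hzK, hrz⟩ := hex m hcop.2 hmd (by omega)
    obtain ⟨⟨u, T⟩, hcard⟩ := htor z hz1 hzK
    obtain ⟨y, T'⟩ := T.exists_t
    refine ⟨_, T', ?_⟩
    rw [card_cent_conj]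
    rcases hm with ⟨rfl, rfl⟩ | ⟨rfl, rfl⟩ <;> rcases hcard with h | h <;> first
      | exact h
      | (exfalso; rw [h] at hrz; exact hr.one_lt.ne' (Nat.eq_one_of_dvd_coprimes hcop.1 hrm hrz))
  obtain ⟨z₁, T₁, hc₁⟩ := exT (2 * k₀ + 1) (k₀ + 1) (Or.inr ⟨rfl, rfl⟩)
  obtain ⟨z₂, T₂, hc₂⟩ := exT (k₀ + 1) (2 * k₀ + 1) (Or.inl ⟨rfl, rfl⟩)
  set Q := Subgroup.centralizer ({z₁} : Set G) with hQ
  set B := Subgroup.centralizer ({z₂} : Set G) with hB
  obtain ⟨L₁, hL₁K, htL₁, hdisj₁, hsup₁, hcard₁, hTI₁⟩ := T₁.normalizer_t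
  obtain ⟨L₂, hL₂K, htL₂, hdisj₂, hsup₂, hcard₂, hTI₂⟩ := T₂.normalizer_t
  rw [← hQ] at hdisj₁ hsup₁ hcard₁ hTI₁
  rw [← hB] at hdisj₂ hsup₂ hcard₂ hTI₂
  have hsatQ := card_saturation Q (Subgroup.normalizer (Q : Set G))
    (fun n hn a ha => (Subgroup.mem_normalizer_iff.1 hn a).1 ha)
    (fun g a ha ha1 h => hTI₁ g a (Subgroup.mem_centralizer_singleton_iff.1 ha) ha1
      (Subgroup.mem_centralizer_singleton_iff.1 h))
  have hsatB := card_saturation B (Subgroup.normalizer (B : Set G))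
    (fun n hn a ha => (Subgroup.mem_normalizer_iff.1 hn a).1 ha)
    (fun g a ha ha1 h => hTI₂ g a (Subgroup.mem_centralizer_singleton_iff.1 ha) ha1
      (Subgroup.mem_centralizer_singleton_iff.1 h))
  rw [hcard₁, hc₁, hg] at hsatQ
  rw [hcard₂, hc₂, hg] at hsatB
  set S₁ : Finset G := univ.filter fun z => ∃ a ∈ Q, a ≠ 1 ∧ IsConj a z with hS₁
  set S₂ : Finset G := univ.filter fun z => ∃ a ∈ B, a ≠ 1 ∧ IsConj a z with hS₂
  set SK : Finset G := univ.filter fun z => InK D z with hSK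
  rw [Nat.card_eq_fintype_card, Fintype.card_subtype, ← hS₁] at hsatQ
  rw [Nat.card_eq_fintype_card, Fintype.card_subtype, ← hS₂] at hsatB
  have hSKc := card_inK_mul D
  rw [Nat.card_eq_fintype_card, Fintype.card_subtype, ← hSK, hg] at hSKc
  have hmem : ∀ {z₀ : G}, Torus D D.t z₀ → ∀ z : G,
      (∃ a ∈ Subgroup.centralizer ({z₀} : Set G), a ≠ 1 ∧ IsConj a z) →
      z ≠ 1 ∧ ¬ InK D z ∧ Nat.card ↥(Subgroup.centralizer ({z} : Set G)) =
        Nat.card ↥(Subgroup.centralizer ({z₀} : Set G)) := by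
    rintro z₀ T z ⟨a, ha, ha1, hc⟩
    have hac : Commute a z₀ := Subgroup.mem_centralizer_singleton_iff.1 ha
    refine ⟨fun h => ha1 (isConj_one_left.1 (h ▸ hc)), fun h => ?_, ?_⟩
    · obtain ⟨x, hx, hx1, hxz⟩ := h
      exact not_inK_cent D T.hz1 T.hzK hac ⟨x, hx, hx1, hxz.trans hc.symm⟩
    · rw [card_cent_of_isConj hc, T.cent_eq ha1 hac]
  have hcover : ∀ {z₀ : G}, Torus D D.t z₀ → ∀ z : G, z ≠ 1 →
      Nat.card ↥(Subgroup.centralizer ({z} : Set G)) =
        Nat.card ↥(Subgroup.centralizer ({z₀} : Set G)) →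
      (∀ r : ℕ, r.Prime → r ∣ Nat.card ↥(Subgroup.centralizer ({z₀} : Set G)) →
        ¬ r ∣ (Subgroup.centralizer ({z₀} : Set G)).index) →
      ∃ a ∈ Subgroup.centralizer ({z₀} : Set G), a ≠ 1 ∧ IsConj a z := by
    intro z₀ T z hz1 hc hidx
    obtain ⟨r, hr, hrd⟩ := Nat.exists_prime_and_dvd
      (show Nat.card ↥(Subgroup.centralizer ({z} : Set G)) ≠ 1 by
        haveI : Nontrivial ↥(Subgroup.centralizer ({z} : Set G)) :=
          ⟨⟨⟨z, Subgroup.mem_centralizer_singleton_iff.2 rfl⟩, 1,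
            fun h => hz1 (congrArg Subtype.val h)⟩⟩
        exact Finite.one_lt_card.ne')
    haveI : Fact r.Prime := ⟨hr⟩
    obtain ⟨w, hw⟩ := exists_prime_orderOf_dvd_card' r hrd
    rw [← Subgroup.orderOf_coe] at hw
    obtain ⟨y, hy, Ty⟩ := T.conj_mem_of_prime (hidx r hr (hc ▸ hrd)) hz1 hw
      (Subgroup.mem_centralizer_singleton_iff.1 w.2)
    exact ⟨y * z * y⁻¹, Subgroup.mem_centralizer_singleton_iff.2 hy, Ty.hz1,
      isConj_iff.2 ⟨y⁻¹, by group⟩⟩
  have hidxQ : Q.index = k₀ * (2 * k₀ + 2) := by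
    have h := Subgroup.card_mul_index Q
    rw [hg, hc₁] at h
    exact Nat.eq_of_mul_eq_mul_left (show 0 < 2 * k₀ + 1 by omega) (h.trans (by ring))
  have hidxB : B.index = 2 * k₀ * (2 * k₀ + 1) := by
    have h := Subgroup.card_mul_index B
    rw [hg, hc₂] at h
    exact Nat.eq_of_mul_eq_mul_left (show 0 < k₀ + 1 by omega) (h.trans (by ring))
  have hcopQ : Nat.Coprime (2 * k₀ + 1) Q.index := by
    rw [hidxQ, show 2 * k₀ + 2 = 2 * (k₀ + 1) by ring]
    exact copA.mul_right ((Nat.coprime_two_right.2 ⟨k₀, rfl⟩).mul_right cop1)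
  have hcopB : Nat.Coprime (k₀ + 1) B.index := by
    rw [hidxB]
    refine (Nat.Coprime.mul_right (Nat.coprime_two_right.2 ?_) copB).mul_right cop1.symm
    exact hkev.add_one
  have hpart : (univ : Finset G) = insert 1 (SK ∪ (S₁ ∪ S₂)) := by
    ext z
    simp only [Finset.mem_univ, Finset.mem_insert, Finset.mem_union, hSK, hS₁, hS₂,
      Finset.mem_filter, true_and, true_iff]
    by_cases h1 : z = 1
    · exact Or.inl h1
    by_cases hK : InK D z
    · exact Or.inr (Or.inl hK)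
    obtain ⟨-, hcard⟩ := htor z h1 hK
    rcases hcard with h | h
    · refine Or.inr (Or.inr (Or.inr (hcover T₂ z h1 (h.trans hc₂.symm) fun r hr h' h'' => ?_)))
      rw [← hB] at h' h''
      exact hr.one_lt.ne' (Nat.eq_one_of_dvd_coprimes hcopB (hc₂ ▸ h') h'')
    · refine Or.inr (Or.inr (Or.inl (hcover T₁ z h1 (h.trans hc₁.symm) fun r hr h' h'' => ?_)))
      rw [← hQ] at h' h''
      exact hr.one_lt.ne' (Nat.eq_one_of_dvd_coprimes hcopQ (hc₁ ▸ h') h'')
  have hdis12 : Disjoint S₁ S₂ := Finset.disjoint_left.2 fun z h1 h2 => by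
    have e1 := (hmem T₁ z (Finset.mem_filter.1 h1).2).2.2
    have e2 := (hmem T₂ z (Finset.mem_filter.1 h2).2).2.2
    rw [← hQ, hc₁] at e1
    rw [← hB, hc₂] at e2
    omega
  have hdisK : Disjoint SK (S₁ ∪ S₂) := Finset.disjoint_left.2 fun z h1 h2 => by
    have hK := (Finset.mem_filter.1 h1).2
    rcases Finset.mem_union.1 h2 with h | h
    · exact (hmem T₁ z (Finset.mem_filter.1 h).2).2.1 hK
    · exact (hmem T₂ z (Finset.mem_filter.1 h).2).2.1 hK
  have h1not : (1 : G) ∉ SK ∪ (S₁ ∪ S₂) := fun h => by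
    rcases Finset.mem_union.1 h with h | h
    · exact inK_ne_one D (Finset.mem_filter.1 h).2 rfl
    rcases Finset.mem_union.1 h with h | h
    · exact (hmem T₁ 1 (Finset.mem_filter.1 h).2).1 rfl
    · exact (hmem T₂ 1 (Finset.mem_filter.1 h).2).1 rfl
  have hcount : Nat.card G = SK.card + (S₁.card + S₂.card) + 1 := by
    rw [Nat.card_eq_fintype_card, ← Finset.card_univ, hpart, Finset.card_insert_of_notMem h1not,
      Finset.card_union_of_disjoint hdisK, Finset.card_union_of_disjoint hdis12]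
  obtain ⟨u₁, hu₁⟩ : Nat.card ↥L₁ ∣ k₀ := Subgroup.card_dvd_of_le hL₁K
  obtain ⟨u₂, hu₂⟩ : Nat.card ↥L₂ ∣ k₀ := Subgroup.card_dvd_of_le hL₂K
  obtain ⟨l₂, hl₂⟩ : 2 ∣ Nat.card ↥L₂ := by
    rw [← D.ht]; exact Subgroup.orderOf_dvd_natCard L₂ htL₂
  have hkpos : 0 < k₀ := by omega
  have hKc : SK.card = (2 * k₀ + 1) * (k₀ + 1) * (k₀ - 1) :=
    Nat.eq_of_mul_eq_mul_right (show 0 < 2 * k₀ by omega) (hSKc.trans (by ring))
  have h1c : S₁.card = 4 * k₀ * (k₀ + 1) * u₁ := by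
    refine Nat.eq_of_mul_eq_mul_right
      (show 0 < (2 * k₀ + 1) * Nat.card ↥L₁ from Nat.mul_pos (by omega) Nat.card_pos)
      (hsatQ.trans ?_)
    rw [Nat.add_sub_cancel,
      show 4 * k₀ * (k₀ + 1) * u₁ * ((2 * k₀ + 1) * Nat.card ↥L₁) =
        4 * k₀ * (k₀ + 1) * (2 * k₀ + 1) * (Nat.card ↥L₁ * u₁) by ring, ← hu₁]
    ring
  have h2c : S₂.card = 2 * k₀ * (2 * k₀ + 1) * u₂ := by
    refine Nat.eq_of_mul_eq_mul_right
      (show 0 < (k₀ + 1) * Nat.card ↥L₂ from Nat.mul_pos (by omega) Nat.card_pos)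
      (hsatB.trans ?_)
    rw [Nat.add_sub_cancel,
      show 2 * k₀ * (2 * k₀ + 1) * u₂ * ((k₀ + 1) * Nat.card ↥L₂) =
        2 * k₀ * (2 * k₀ + 1) * (k₀ + 1) * (Nat.card ↥L₂ * u₂) by ring, ← hu₂]
    ring
  rw [hg, hKc, h1c, h2c] at hcount
  have hu2le : 2 * u₂ ≤ k₀ := by
    rw [hu₂]
    refine Nat.mul_le_mul_right u₂ ?_
    have : 0 < Nat.card ↥L₂ := Nat.card_pos
    omega
  have hu1 : u₁ = 1 := by
    obtain ⟨h, hh⟩ := hkev
    obtain ⟨i, hi⟩ : ∃ i, h = u₂ + i := ⟨h - u₂, by omega⟩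
    have e1 : ((k₀ : ℤ)) * (2 * k₀ + 1) * (2 * k₀ + 2) = (2 * k₀ + 1) * (k₀ + 1) * (k₀ - 1) +
        (4 * k₀ * (k₀ + 1) * u₁ + 2 * k₀ * (2 * k₀ + 1) * u₂) + 1 := by
      have h' := congrArg (Nat.cast (R := ℤ)) hcount
      push_cast [Nat.cast_sub (show 1 ≤ k₀ by omega)] at h'
      exact h'
    have e2 : (2 * (k₀ : ℤ) + 1) * i = 2 * (k₀ + 1) * (u₁ - 1) := by
      apply mul_left_cancel₀ (show (2 * (k₀ : ℤ)) ≠ 0 by omega)
      have hk2 : (k₀ : ℤ) = 2 * (u₂ + i) := by omega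
      linear_combination (k₀ : ℤ) * (2 * k₀ + 1) * (-hk2) + e1
    have e3 : (i : ℤ) = (k₀ + 1) * (2 * i - 2 * u₁ + 2) := by linarith
    have hile : (i : ℤ) ≤ k₀ := by omega
    have hb : 2 * (i : ℤ) - 2 * u₁ + 2 = 0 := by
      rcases lt_trichotomy (2 * (i : ℤ) - 2 * u₁ + 2) 0 with hlt | heq | hgt
      · exfalso; nlinarith
      · exact heq
      · exfalso; nlinarith
    rw [hb, mul_zero] at e3
    omega
  rw [hu1, mul_one] at hu₁
  have hLK : L₁ = D.K :=
    Subgroup.eq_of_le_of_card_ge hL₁K (le_of_eq (by rw [← hu₁]))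
  refine ⟨Q, D.K, ?_, fun x hx hx1 => T₁.cent_eq hx1 (Subgroup.mem_centralizer_singleton_iff.1 hx),
    ⟨⟨fun a b => Subtype.ext (D.comm a a.2 b b.2)⟩⟩, by rw [hc₁], by rw [← hLK]; exact hdisj₁,
    by rw [← hLK]; exact hsup₁, fun X hX hXne => ⟨?_, D.s, D.hs, D.hsK, D.hinv, ?_⟩⟩
  · rw [hc₁, hg, Nat.add_sub_cancel]; ring
  · rw [normalizer_le_cent D hX hXne,
      normalizer_le_cent D le_rfl (fun h => hXne (le_bot_iff.1 (h ▸ hX)))]
  · rw [normalizer_le_cent D le_rfl (fun h => hXne (le_bot_iff.1 (h ▸ hX))), cent_t_eq_sup]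

end Cfsg.Agent.H65.BSW
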