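import Cfsg.Agent.H65.BSW.Common
import Cfsg.Agent.H65.FourCount

/-!
# The case of a four-group centraliser
-/

set_option autoImplicit false
set_option linter.unusedSectionVars false
set_option linter.style.haveILetI false

namespace Cfsg.Agent.H65.BSW

universe u

variable {G : Type u} [Group G] [Finite G] (D : Data G)

theorem small (hk : k D = 2) : Concl G := by
  classical
  haveI := Fintype.ofFinite G
  -- the four-group centralisers
  have hKsq : ∀ x ∈ D.K, x ^ 2 = 1 := fun x hx => by
    rw [← hk]; exact orderOf_dvd_iff_pow_eq_one.1 (Subgroup.orderOf_dvd_natCard D.K hx)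
  have h4 : ∀ v : G, orderOf v = 2 → Nat.card ↥(Subgroup.centralizer ({v} : Set G)) = 4 ∧
      ∀ c ∈ Subgroup.centralizer ({v} : Set G), c ^ 2 = 1 := by
    intro v hv
    obtain ⟨y, hy⟩ := isConj_iff.1 (D.hone D.t v D.ht hv)
    refine ⟨?_, fun c hc => ?_⟩
    · rw [← hy, card_cent_conj, card_cent_t, hk]
    · have h1 : Commute (y⁻¹ * c * y) D.t := by
        have := Commute.map (show Commute c v from Subgroup.mem_centralizer_singleton_iff.1 hc)
          (MulAut.conj y⁻¹).toMonoidHom
        simp only [MulEquiv.coe_toMonoidHom, MulAut.conj_apply] at this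
        rw [← hy, show y⁻¹ * (y * D.t * y⁻¹) * y⁻¹⁻¹ = D.t by group,
          show y⁻¹ * c * y⁻¹⁻¹ = y⁻¹ * c * y by group] at this
        exact this
      have h2 : (y⁻¹ * c * y) ^ 2 = 1 := by
        by_cases h : y⁻¹ * c * y ∈ D.K
        · exact hKsq _ h
        · rw [pow_two]; exact mul_self_eq_one (outside D h1 h).1
      rw [show c = y * (y⁻¹ * c * y) * y⁻¹ by group, conj_pow, h2, mul_one, mul_inv_cancel]
  have hinv := FourCount.card_invs h4 (fun a b ha hb => D.hone a b ha hb) D.ht
  rw [show (FourCount.invs (G := G)) = Finset.univ.filter fun v : G => orderOf v = 2 from rfl]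
    at hinv
  have hI := card_invols_mul D
  rw [hk] at hI
  have hg : Nat.card G = 12 ∨ Nat.card G = 60 := by
    rcases hinv with h | h <;> rw [h] at hI <;> omega
  -- an element of order three or five
  obtain ⟨p, hp, hp2, hpg, hcase⟩ : ∃ p, p.Prime ∧ p ≠ 2 ∧ p ∣ Nat.card G ∧
      ((p = 3 ∧ Nat.card G = 12) ∨ (p = 5 ∧ Nat.card G = 60)) := by
    rcases hg with h | h
    · exact ⟨3, by norm_num, by norm_num, by rw [h]; norm_num, Or.inl ⟨rfl, h⟩⟩
    · exact ⟨5, by norm_num, by norm_num, by rw [h]; norm_num, Or.inr ⟨rfl, h⟩⟩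
  haveI : Fact p.Prime := ⟨hp⟩
  obtain ⟨x, hx⟩ := exists_prime_orderOf_dvd_card' p hpg
  set Q := Subgroup.zpowers x with hQ
  have hQc : Nat.card ↥Q = p := by rw [hQ, Nat.card_zpowers, hx]
  have hKp : ∀ w : G, InK D w → orderOf w ≠ p := fun w h e => by
    have := inK_orderOf D h
    rw [e, hk] at this
    exact hp2 ((Nat.prime_dvd_prime_iff_eq hp Nat.prime_two).1 this)
  have hx1 : x ≠ 1 := fun h => hp.one_lt.ne (by rw [← hx, h, orderOf_one])
  have hxK : ¬ InK D x := fun h => hKp x h hx
  have hoddC : ∀ w : G, w ≠ 1 → ¬ InK D w →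
      Nat.card ↥(Subgroup.centralizer ({w} : Set G)) ∣ 15 := fun w h1 h2 => by
    have c := odd_cent D h1 h2
    have hd := Subgroup.card_subgroup_dvd_card (Subgroup.centralizer ({w} : Set G))
    have h60 : Nat.card G ∣ 4 * 15 := by rcases hg with h | h <;> rw [h] <;> norm_num
    exact ((Nat.coprime_two_right.2 c).pow_right 2).dvd_of_dvd_mul_left (hd.trans h60)
  -- no element of order fifteen
  have hcx : Subgroup.centralizer ({x} : Set G) = Q := by
    have hle : Q ≤ Subgroup.centralizer ({x} : Set G) :=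
      Subgroup.zpowers_le.2 (Subgroup.mem_centralizer_singleton_iff.2 rfl)
    refine (Subgroup.eq_of_le_of_card_ge hle ?_).symm
    rw [hQc]
    set C := Subgroup.centralizer ({x} : Set G) with hC
    have h15 := hoddC x hx1 hxK
    rw [← hC] at h15
    rcases hcase with ⟨rfl, h12⟩ | ⟨rfl, h60⟩
    · have hd := Subgroup.card_subgroup_dvd_card C
      rw [h12] at hd
      exact Nat.le_of_dvd (by norm_num) ((Nat.dvd_gcd hd h15).trans (by decide))
    · by_contra hlt
      push Not at hlt
      have hC15 : Nat.card ↥C = 15 := by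
        have h3 := Nat.le_of_dvd (by norm_num) h15
        interval_cases hh : Nat.card ↥C <;> omega
      -- the normaliser of `⟨x⟩` is then everything, and a four-group acts on `⟨x⟩`
      haveI : Fact (Nat.Prime 5) := ⟨hp⟩
      obtain ⟨S⟩ := (inferInstance : Nonempty (Sylow 5 G))
      have hSc : Nat.card ↥(S : Subgroup G) = 5 := by
        rw [S.card_eq_multiplicity, h60, Nat.factorization_def _ hp]
        have : (60 : ℕ) = 5 * 12 := by norm_num
        rw [this, padicValNat.mul (by norm_num) (by norm_num), padicValNat.self (by norm_num),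
          padicValNat.eq_zero_of_not_dvd (show ¬ 5 ∣ 12 by norm_num)]
        rfl
      obtain ⟨S', hS'⟩ := (IsPGroup.of_card (p := 5) (n := 1)
        (by rw [hQc, pow_one] : Nat.card ↥Q = 5 ^ 1)).exists_le_sylow
      have hS'Q : (S' : Subgroup G) = Q := (Subgroup.eq_of_le_of_card_ge hS' (by
        rw [hQc, S'.card_eq_multiplicity, ← S.card_eq_multiplicity]
        exact hSc.le)).symm
      have hCN : C ≤ Subgroup.normalizer (Q : Set G) := fun c hc => by
        have hcx : Commute c x := Subgroup.mem_centralizer_singleton_iff.1 hc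
        refine Subgroup.mem_normalizer_iff.2 fun w => ?_
        have key : ∀ d : G, Commute d x → ∀ v ∈ Q, d * v * d⁻¹ = v := fun d hd v hv => by
          obtain ⟨i, rfl⟩ := Subgroup.mem_zpowers_iff.1 hv
          rw [(hd.zpow_right i).eq, mul_inv_cancel_right]
        refine ⟨fun hw => (key c hcx w hw).symm ▸ hw, fun hw => ?_⟩
        have := key c⁻¹ hcx.inv_left _ hw
        rw [show c⁻¹ * (c * w * c⁻¹) * c⁻¹⁻¹ = w by group] at this
        rw [this]; exact hw
      have hn5 := card_sylow_modEq_one 5 G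
      rw [Sylow.card_eq_index_normalizer S', show (S' : Set G) = (Q : Set G) by rw [← hS'Q]; rfl] at hn5
      set N := Subgroup.normalizer (Q : Set G) with hN
      have hNi := Subgroup.card_mul_index N
      rw [h60] at hNi
      have h15N : 15 ∣ Nat.card ↥N := hC15 ▸ Subgroup.card_dvd_of_le hCN
      obtain ⟨c, hc⟩ := h15N
      have hi4 : N.index ∣ 4 := ⟨c, by rw [hc] at hNi; linarith⟩
      have hi1 : N.index = 1 := by
        have := Nat.le_of_dvd (by norm_num) hi4
        rw [Nat.ModEq] at hn5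
        omega
      rw [Subgroup.index_eq_one] at hi1
      have hK' : ∀ a ∈ Q, a ≠ 1 → ¬ InK D a := fun a ha ha1 h => hKp a h (by
        have h' : orderOf a ∣ 5 := hQc ▸ Subgroup.orderOf_dvd_natCard Q ha
        exact ((Nat.prime_five.eq_one_or_self_of_dvd _ h').resolve_left
          fun e => ha1 (orderOf_eq_one_iff.1 e)))
      have hinvx : ∀ v : G, orderOf v = 2 → v * x * v⁻¹ = x⁻¹ := fun v hv =>
        (inverts D hv Q (fun a ha => (Subgroup.mem_normalizer_iff.1
          (show v ∈ N by rw [hi1]; exact Subgroup.mem_top v) a).1 ha) hK').1 x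
          (Subgroup.mem_zpowers x)
      have hts : orderOf (D.t * D.s) = 2 :=
        (outside D ((Commute.refl D.t).mul_left D.hst)
          (fun h => D.hsK ((D.K.mul_mem_cancel_left D.htK).1 h))).1
      have h1 := hinvx _ hts
      rw [show D.t * D.s * x * (D.t * D.s)⁻¹ = D.t * (D.s * x * D.s⁻¹) * D.t⁻¹ by group,
        hinvx D.s D.hs, show D.t * x⁻¹ * D.t⁻¹ = (D.t * x * D.t⁻¹)⁻¹ by group, hinvx D.t D.ht,
        inv_inv] at h1
      have h2 : x * x = 1 := by rw [← eq_inv_iff_mul_eq_one]; exact h1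
      exact hp2 (hx.symm.trans (H26.orderOf_two_of_mul_self h2 hx1))
  have hcent : ∀ a ∈ Q, a ≠ 1 → Subgroup.centralizer ({a} : Set G) = Q := by
    intro a ha ha1
    have hgen : Subgroup.zpowers a = Q := by
      refine Subgroup.eq_of_le_of_card_ge (Subgroup.zpowers_le.2 ha) ?_
      have h' : orderOf a ∣ p := hQc ▸ Subgroup.orderOf_dvd_natCard Q ha
      rw [hQc, Nat.card_zpowers,
        (hp.eq_one_or_self_of_dvd _ h').resolve_left fun e => ha1 (orderOf_eq_one_iff.1 e)]
    rw [← hcx]
    ext c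
    rw [Subgroup.mem_centralizer_singleton_iff, Subgroup.mem_centralizer_singleton_iff]
    constructor
    · intro h
      obtain ⟨i, hi⟩ := Subgroup.mem_zpowers_iff.1
        (show x ∈ Subgroup.zpowers a by rw [hgen]; exact Subgroup.mem_zpowers x)
      rw [← hi]; exact ((show Commute c a from h).zpow_right i).eq
    · intro h
      obtain ⟨i, hi⟩ := Subgroup.mem_zpowers_iff.1 ha
      rw [← hi]; exact ((show Commute c x from h).zpow_right i).eq
  set N := Subgroup.normalizer (Q : Set G) with hN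
  -- the order of the normaliser
  have hn := card_sylow_modEq_one p G
  have hpG : ¬ p * p ∣ Nat.card G := by
    rcases hcase with ⟨rfl, h⟩ | ⟨rfl, h⟩ <;> rw [h] <;> norm_num
  obtain ⟨S, hS⟩ : ∃ S : Sylow p G, (S : Subgroup G) = Q := by
    refine ⟨(IsPGroup.of_card (p := p) (n := 1)
      (by rw [hQc, pow_one] : Nat.card ↥Q = p ^ 1)).toSylow ?_, rfl⟩
    intro hd
    refine hpG ?_
    rw [← Subgroup.card_mul_index Q, hQc]
    exact mul_dvd_mul_left p hd
  rw [Sylow.card_eq_index_normalizer S, show (S : Set G) = (Q : Set G) by rw [← hS]; rfl, ← hN] at hn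
  have hNi := Subgroup.card_mul_index N
  have hi1 : N.index ≠ 1 := by
    intro h1
    rw [Subgroup.index_eq_one] at h1
    have hK' : ∀ a ∈ Q, a ≠ 1 → ¬ InK D a := fun a ha ha1 h => hKp a h (by
      have h' : orderOf a ∣ p := hQc ▸ Subgroup.orderOf_dvd_natCard Q ha
      exact ((hp.eq_one_or_self_of_dvd _ h').resolve_left
        fun e => ha1 (orderOf_eq_one_iff.1 e)))
    have hinvx : ∀ v : G, orderOf v = 2 → v * x * v⁻¹ = x⁻¹ := fun v hv =>
      (inverts D hv Q (fun a ha => (Subgroup.mem_normalizer_iff.1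
        (show v ∈ N by rw [h1]; exact Subgroup.mem_top v) a).1 ha) hK').1 x
        (Subgroup.mem_zpowers x)
    have hts : orderOf (D.t * D.s) = 2 :=
      (outside D ((Commute.refl D.t).mul_left D.hst)
        (fun h => D.hsK ((D.K.mul_mem_cancel_left D.htK).1 h))).1
    have h1 := hinvx _ hts
    rw [show D.t * D.s * x * (D.t * D.s)⁻¹ = D.t * (D.s * x * D.s⁻¹) * D.t⁻¹ by group,
      hinvx D.s D.hs, show D.t * x⁻¹ * D.t⁻¹ = (D.t * x * D.t⁻¹)⁻¹ by group, hinvx D.t D.ht,
      inv_inv] at h1
    have h2 : x * x = 1 := by rw [← eq_inv_iff_mul_eq_one]; exact h1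
    exact hp2 (hx.symm.trans (H26.orderOf_two_of_mul_self h2 hx1))
  have hQN : Q ≤ N := Subgroup.le_normalizer
  rcases hcase with ⟨rfl, h12⟩ | ⟨rfl, h60⟩
  · have hc3 : 3 ∣ Nat.card ↥N := hQc ▸ Subgroup.card_dvd_of_le hQN
    obtain ⟨c, hc⟩ := hc3
    rw [h12, hc] at hNi
    have hi4 : N.index ∣ 4 := ⟨c, by linarith⟩
    have hle := Nat.le_of_dvd (by norm_num) hi4
    have hNQ : N = Q := by
      refine (Subgroup.eq_of_le_of_card_ge hQN ?_).symm
      rw [hQc, hc]
      have : N.index = 4 := by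
        rw [Nat.ModEq] at hn
        omega
      rw [this] at hNi
      omega
    refine ⟨Q, ⊥, by rw [hQc, h12], hcent, ⟨⟨fun a b => Subsingleton.elim _ _⟩⟩,
      by rw [hQc, Subgroup.card_bot], inf_bot_eq Q, by rw [sup_bot_eq]; exact hNQ,
      fun X hX hne => absurd (le_bot_iff.1 hX) hne⟩
  · have hc5 : 5 ∣ Nat.card ↥N := hQc ▸ Subgroup.card_dvd_of_le hQN
    obtain ⟨c, hc⟩ := hc5
    rw [h60, hc] at hNi
    have hi12 : N.index ∣ 12 := ⟨c, by linarith⟩
    have hle := Nat.le_of_dvd (by norm_num) hi12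
    have hc2 : c = 2 := by
      have h6 : N.index = 6 := by
        rw [Nat.ModEq] at hn
        rcases hi12 with ⟨d, hd⟩
        interval_cases hh : N.index <;> omega
      rw [h6] at hNi
      omega
    haveI : Fact (Nat.Prime 2) := ⟨Nat.prime_two⟩
    obtain ⟨v, hv⟩ := exists_prime_orderOf_dvd_card' (G := ↥N) 2 (by rw [hc, hc2]; norm_num)
    rw [← Subgroup.orderOf_coe] at hv
    -- move the involution to `t`
    obtain ⟨y, hy⟩ := isConj_iff.1 (D.hone (v : G) D.t hv D.ht)
    set x' := y * x * y⁻¹ with hx'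
    set Q' := Subgroup.zpowers x' with hQ'
    have hQ'map : Q' = Q.map (MulAut.conj y).toMonoidHom := by
      rw [hQ, MonoidHom.map_zpowers]; rfl
    have hQ'c : Nat.card ↥Q' = 5 := by rw [hQ', Nat.card_zpowers, hx', H26.orderOf_conj_eq, hx]
    have hinvQ := inverts D hv Q (fun a ha => (Subgroup.mem_normalizer_iff.1 v.2 a).1 ha)
      (fun a ha ha1 h => hKp a h (by
        have h' : orderOf a ∣ 5 := hQc ▸ Subgroup.orderOf_dvd_natCard Q ha
        exact (hp.eq_one_or_self_of_dvd _ h').resolve_left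
          fun e => ha1 (orderOf_eq_one_iff.1 e)))
    have hN' : Subgroup.normalizer (Q' : Set G) = N.map (MulAut.conj y).toMonoidHom := by
      rw [hQ'map, hN]
      exact (Subgroup.map_equiv_normalizer_eq Q (MulAut.conj y)).symm
    have hN'c : Nat.card ↥(Subgroup.normalizer (Q' : Set G)) = 10 := by
      rw [hN', ← Nat.card_congr
        (Subgroup.equivMapOfInjective N _ (MulEquiv.injective (MulAut.conj y))).toEquiv, hc, hc2]
    have htN' : D.t ∈ Subgroup.normalizer (Q' : Set G) := by
      rw [hN']; exact ⟨v, v.2, hy⟩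
    have hKt : D.K = Subgroup.zpowers D.t := by
      refine (Subgroup.eq_of_le_of_card_ge (Subgroup.zpowers_le.2 D.htK) ?_).symm
      rw [Nat.card_zpowers, D.ht]
      exact hk.le
    have hcent' : ∀ a ∈ Q', a ≠ 1 → Subgroup.centralizer ({a} : Set G) = Q' := by
      intro a ha ha1
      rw [hQ'map] at ha
      obtain ⟨b, hb, rfl⟩ := ha
      have hb1 : b ≠ 1 := fun h => ha1 (by rw [h, map_one])
      rw [hQ'map, ← hcent b hb hb1]
      ext c
      rw [Subgroup.mem_map_equiv, Subgroup.mem_centralizer_singleton_iff,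
        Subgroup.mem_centralizer_singleton_iff, MulEquiv.coe_toMonoidHom, MulAut.conj_symm_apply,
        MulAut.conj_apply]
      constructor
      · intro h
        calc y⁻¹ * c * y * b = y⁻¹ * (c * (y * b * y⁻¹)) * y := by group
          _ = y⁻¹ * (y * b * y⁻¹ * c) * y := by rw [h]
          _ = _ := by group
      · intro h
        calc c * (y * b * y⁻¹) = y * (y⁻¹ * c * y * b) * y⁻¹ := by group
          _ = y * (b * (y⁻¹ * c * y)) * y⁻¹ := by rw [h]
          _ = _ := by group
    refine ⟨Q', D.K, by rw [hQ'c, h60], hcent', ⟨⟨fun a b => Subtype.ext (D.comm a a.2 b b.2)⟩⟩,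
      by rw [hQ'c]; exact congrArg (fun i => 2 * i + 1) hk, ?_, ?_, fun X hX hne => ?_⟩
    · rw [inf_comm, hKt]
      rw [eq_bot_iff]
      intro a ha
      obtain ⟨h1, h2⟩ := Subgroup.mem_inf.1 ha
      have d1 : orderOf a ∣ 2 := by
        rw [show 2 = Nat.card ↥(Subgroup.zpowers D.t) by rw [Nat.card_zpowers, D.ht]]
        exact Subgroup.orderOf_dvd_natCard _ h1
      have d2 : orderOf a ∣ 5 := hQ'c ▸ Subgroup.orderOf_dvd_natCard _ h2
      exact Subgroup.mem_bot.2 (orderOf_eq_one_iff.1
        (Nat.eq_one_of_dvd_coprimes (by norm_num) d1 d2))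
    · refine (Subgroup.eq_of_le_of_card_ge (sup_le Subgroup.le_normalizer ?_) ?_).symm
      · rw [hKt]; exact Subgroup.zpowers_le.2 htN'
      · rw [hN'c]
        refine Nat.le_of_dvd Nat.card_pos ?_
        rw [show (10 : ℕ) = 5 * 2 from rfl]
        refine Nat.Coprime.mul_dvd_of_dvd_of_dvd (by norm_num) ?_ ?_
        · rw [← hQ'c]; exact Subgroup.card_dvd_of_le le_sup_left
        · rw [← hk]; exact Subgroup.card_dvd_of_le le_sup_right
    · have hKne : D.K ≠ ⊥ := fun h => hne (le_bot_iff.1 (h ▸ hX))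
      exact ⟨by rw [normalizer_le_cent D hX hne, normalizer_le_cent D le_rfl hKne],
        D.s, D.hs, D.hsK, D.hinv, by rw [normalizer_le_cent D le_rfl hKne, cent_t_eq_sup]⟩

end Cfsg.Agent.H65.BSW
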