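import Cfsg.Agent.H65.BSW.Columns
import Cfsg.Agent.H65.BSW.Plus
import Cfsg.Agent.H65.BSW.Minus
import Cfsg.Agent.H65.BSW.Small

/-!
# The abstract Brauer-Suzuki-Wall theorem
-/

set_option autoImplicit false
set_option linter.style.haveILetI false

namespace Cfsg.Agent.H65.BSW

universe u

theorem main {G : Type u} [Group G] [Finite G] (D : Data G) : Concl G := by
  haveI := Fintype.ofFinite G
  have hk1 : 2 ≤ k D := Nat.le_of_dvd Nat.card_pos
    (D.ht ▸ Subgroup.orderOf_dvd_natCard D.K D.htK)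
  rcases eq_or_lt_of_le hk1 with hk | hk
  · exact small D hk.symm
  rcases columns D hk with ⟨hg, hN⟩ | ⟨hg, hN⟩
  · refine plus D hk ?_ hN
    exact_mod_cast hg
  · refine minus D hk ?_ hN
    apply Int.natCast_inj.1
    push_cast [Nat.cast_sub (show 1 ≤ 2 * k D by omega), Nat.cast_sub (show 2 ≤ 2 * k D by omega)]
    exact hg

end Cfsg.Agent.H65.BSW
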