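import Cfsg.Agent.H65.BSW.Setup
import Cfsg.Agent.H65.BSW.Dual
import Cfsg.Agent.H65.DihedralEight

/-!
# The generalised characters supported on the nontrivial elements of `K`
-/

set_option autoImplicit false
set_option linter.unusedSectionVars false
set_option linter.style.haveILetI false

open scoped ComplexConjugate
open Finset

namespace Cfsg.Agent.H65.BSW

open Cfsg Cfsg.Agent.CharBasic

universe u

variable {G : Type u} [Group G] [Fintype G] (D : Data G)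

/-- The group structure of `K`. -/
@[reducible] def commK : CommGroup ↥D.K :=
  { (inferInstance : Group ↥D.K) with
    mul_comm := fun a b => Subtype.ext (D.comm a a.2 b b.2) }

noncomputable instance fintypeK : Fintype ↥D.K := Fintype.ofFinite _

instance finiteDual : Finite (↥D.K →* ℂˣ) :=
  letI := commK D
  Nat.finite_of_card_ne_zero (by rw [Dual.card_dual]; exact Nat.card_pos.ne')

noncomputable instance fintypeDual : Fintype (↥D.K →* ℂˣ) := Fintype.ofFinite _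

theorem card_dual : Fintype.card (↥D.K →* ℂˣ) = k D := by
  letI := commK D
  rw [← Nat.card_eq_fintype_card]; exact Dual.card_dual

theorem sum_dual {x : ↥D.K} (hx : x ≠ 1) : ∑ θ : ↥D.K →* ℂˣ, (θ x : ℂ) = 0 :=
  @Dual.sum_dual ↥D.K (commK D) _ _ x hx

open scoped Classical in
theorem sum_apply (θ : ↥D.K →* ℂˣ) :
    ∑ x : ↥D.K, (θ x : ℂ) = if θ = 1 then (k D : ℂ) else 0 :=
  @Dual.sum_apply ↥D.K (commK D) _ _ θ _

theorem conj_apply (θ : ↥D.K →* ℂˣ) (x : ↥D.K) : conj (θ x : ℂ) = (θ x⁻¹ : ℂ) :=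
  @Dual.conj_apply ↥D.K (commK D) _ θ x

theorem exists_apply_ne_one {x : ↥D.K} (hx : x ≠ 1) : ∃ θ : ↥D.K →* ℂˣ, θ x ≠ 1 :=
  @Dual.exists_apply_ne_one ↥D.K (commK D) _ x hx

/-- The element `t` of `K`. -/
def tK : ↥D.K := ⟨D.t, D.htK⟩

theorem tK_ne_one : tK D ≠ 1 := fun h => t_ne_one D (congrArg Subtype.val h)

theorem tK_inv : (tK D)⁻¹ = tK D := Subtype.ext (H65.inv_eq_self D.ht)

/-- The function `2 - θ - θ⁻¹`. -/
noncomputable def phi (θ : ↥D.K →* ℂˣ) (x : ↥D.K) : ℂ := 2 - (θ x : ℂ) - (θ x⁻¹ : ℂ)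

theorem phi_inv (θ : ↥D.K →* ℂˣ) (x : ↥D.K) : phi D θ x⁻¹ = phi D θ x := by
  rw [phi, phi, inv_inv]; ring

theorem phi_one (θ : ↥D.K →* ℂˣ) : phi D θ 1 = 0 := by simp [phi]; norm_num

theorem conj_phi (θ : ↥D.K →* ℂˣ) (x : ↥D.K) : conj (phi D θ x) = phi D θ x := by
  rw [phi, map_sub, map_sub, conj_apply, conj_apply, inv_inv, map_ofNat]; ring

theorem sum_phi {θ : ↥D.K →* ℂˣ} (hθ : θ ≠ 1) : ∑ x : ↥D.K, phi D θ x = 2 * (k D : ℂ) := by
  classical
  have h2 : ∑ x : ↥D.K, (θ x⁻¹ : ℂ) = 0 := by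
    rw [Fintype.sum_equiv (Equiv.inv ↥D.K) (fun x => (θ x⁻¹ : ℂ)) (fun x => (θ x : ℂ))
      (fun x => rfl), sum_apply, if_neg hθ]
  simp only [phi, Finset.sum_sub_distrib, h2, sum_apply, if_neg hθ, Finset.sum_const,
    Finset.card_univ, k, Nat.card_eq_fintype_card, nsmul_eq_mul]
  ring

/-- A character takes equal values at `x` and `x⁻¹`. -/
theorem char_inv (χ : IrrCharacter G) (x : ↥D.K) :
    (χ : G → ℂ) ((x⁻¹ : ↥D.K) : G) = (χ : G → ℂ) (x : G) := by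
  rw [Subgroup.coe_inv, ← D.hinv x x.2, IsIrr.isClassFunction χ.2]

theorem conj_char (χ : IrrCharacter G) (x : ↥D.K) :
    conj ((χ : G → ℂ) (x : G)) = (χ : G → ℂ) (x : G) := by
  rw [← IsChar.inv_apply (IsIrr.isCharacter χ.2), ← Subgroup.coe_inv, char_inv]

/-- The coefficient of `χ` in the function induced from `phi θ`. -/
noncomputable def vC (θ : ↥D.K →* ℂˣ) (χ : IrrCharacter G) : ℂ :=
  (2 * (k D : ℂ))⁻¹ * ∑ x : ↥D.K, (χ : G → ℂ) (x : G) * phi D θ x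

theorem vC_eq (θ : ↥D.K →* ℂˣ) (χ : IrrCharacter G) :
    vC D θ χ = (k D : ℂ)⁻¹ * ∑ x : ↥D.K, (χ : G → ℂ) (x : G) * (1 - (θ x⁻¹ : ℂ)) := by
  have h1 : ∑ x : ↥D.K, (χ : G → ℂ) (x : G) * (θ x : ℂ) =
      ∑ x : ↥D.K, (χ : G → ℂ) (x : G) * (θ x⁻¹ : ℂ) :=
    Fintype.sum_equiv (Equiv.inv ↥D.K) _ _ fun x => by
      simp only [Equiv.inv_apply, inv_inv, char_inv]
  have h : ∑ x : ↥D.K, (χ : G → ℂ) (x : G) * phi D θ x =
      2 * ∑ x : ↥D.K, (χ : G → ℂ) (x : G) * (1 - (θ x⁻¹ : ℂ)) := by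
    simp only [phi, mul_sub, Finset.sum_sub_distrib, h1, mul_one, ← Finset.sum_mul]
    ring
  rw [vC, h, mul_inv]; ring

theorem vC_int (θ : ↥D.K →* ℂˣ) (χ : IrrCharacter G) : ∃ n : ℤ, vC D θ χ = n := by
  have hψ := CharInduce.IsChar.comp (IsIrr.isCharacter χ.2) D.K.subtype
  obtain ⟨m₀, h0⟩ := classInner_isChar_nat hψ (CharInduce.isCharacter_hom (1 : ↥D.K →* ℂˣ))
  obtain ⟨m₁, h1⟩ := classInner_isChar_nat hψ (CharInduce.isCharacter_hom θ)
  refine ⟨(m₀ : ℤ) - m₁, ?_⟩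
  push_cast
  rw [← h0, ← h1, vC_eq, classInner_def, classInner_def, ← mul_sub, ← Finset.sum_sub_distrib]
  congr 1
  refine Finset.sum_congr rfl fun x _ => ?_
  rw [conj_apply, conj_apply]
  simp [mul_sub]

/-- The integral coefficient. -/
noncomputable def v (θ : ↥D.K →* ℂˣ) (χ : IrrCharacter G) : ℤ := (vC_int D θ χ).choose

theorem cast_v (θ : ↥D.K →* ℂˣ) (χ : IrrCharacter G) : ((v D θ χ : ℤ) : ℂ) = vC D θ χ :=
  (vC_int D θ χ).choose_spec.symm

theorem v_inv (θ : ↥D.K →* ℂˣ) (χ : IrrCharacter G) : v D θ⁻¹ χ = v D θ χ := by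
  have : vC D θ⁻¹ χ = vC D θ χ := by
    rw [vC, vC]
    congr 1
    refine Finset.sum_congr rfl fun x _ => ?_
    rw [phi, phi]
    simp only [MonoidHom.inv_apply, map_inv, inv_inv]
    ring
  exact_mod_cast (by rw [cast_v, cast_v, this] : ((v D θ⁻¹ χ : ℤ) : ℂ) = (v D θ χ : ℂ))

/-- The values of the induced function. -/
theorem sum_v_apply (θ : ↥D.K →* ℂˣ) (z : G) :
    ∑ χ : IrrCharacter G, (v D θ χ : ℂ) * (χ : G → ℂ) z =
      (2 * (k D : ℂ))⁻¹ * ∑ x : ↥D.K,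
        phi D θ x * (Nat.card {y : G // y * (x : G) * y⁻¹ = z} : ℂ) := by
  simp only [cast_v, vC, Finset.sum_mul, Finset.mul_sum]
  rw [Finset.sum_comm]
  refine Finset.sum_congr rfl fun x _ => ?_
  rw [← second_orthogonality_count z (x : G), Finset.mul_sum, Finset.mul_sum]
  refine Finset.sum_congr rfl fun χ _ => ?_
  rw [conj_char]; ring

theorem sum_v_off (θ : ↥D.K →* ℂˣ) {z : G} (hz : ¬ InK D z) :
    ∑ χ : IrrCharacter G, (v D θ χ : ℂ) * (χ : G → ℂ) z = 0 := by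
  rw [sum_v_apply, Finset.sum_eq_zero, mul_zero]
  intro x _
  by_cases hx : x = 1
  · rw [hx, phi_one, zero_mul]
  · haveI : IsEmpty {y : G // y * (x : G) * y⁻¹ = z} :=
      ⟨fun y => hz ⟨x, x.2, fun h => hx (Subtype.ext h), isConj_iff.2 ⟨y.1, y.2⟩⟩⟩
    rw [Nat.card_of_isEmpty, Nat.cast_zero, mul_zero]

theorem sum_v_on (θ : ↥D.K →* ℂˣ) {x : ↥D.K} (hx : x ≠ 1) :
    ∑ χ : IrrCharacter G, (v D θ χ : ℂ) * (χ : G → ℂ) (x : G) = phi D θ x := by
  classical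
  have hk0 : (k D : ℂ) ≠ 0 := Nat.cast_ne_zero.2 Nat.card_pos.ne'
  have hx' : (x : G) ≠ 1 := fun h => hx (Subtype.ext h)
  rw [sum_v_apply]
  have h1 : ∑ x' : ↥D.K, phi D θ x' * (Nat.card {y : G // y * (x' : G) * y⁻¹ = (x : G)} : ℂ) =
      ∑ y : G, if Commute y D.t then phi D θ x else 0 := by
    simp only [Nat.card_eq_fintype_card, Fintype.card_subtype, ← Finset.sum_boole, Finset.mul_sum]
    rw [Finset.sum_comm]
    refine Finset.sum_congr rfl fun y _ => ?_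
    simp only [mul_ite, mul_one, mul_zero]
    split_ifs with hy
    · rcases conj_eq D x.2 (Commute.inv_left hy) with ⟨-, e⟩ | ⟨-, e⟩
      · rw [inv_inv] at e
        have e' : ∀ x' : ↥D.K, y * (x' : G) * y⁻¹ = x ↔ x' = x := fun x' => by
          constructor
          · intro h
            refine Subtype.ext ?_
            rw [← e, ← h]; group
          · rintro rfl
            conv_lhs => rw [← e]
            group
        simp [e']
      · rw [inv_inv] at e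
        have e' : ∀ x' : ↥D.K, y * (x' : G) * y⁻¹ = x ↔ x' = x⁻¹ := fun x' => by
          constructor
          · intro h
            refine Subtype.ext ?_
            rw [Subgroup.coe_inv, ← e, ← h]; group
          · rintro rfl
            rw [Subgroup.coe_inv, ← e]
            group
        simp [e', phi_inv]
    · refine Finset.sum_eq_zero fun x' _ => ?_
      rw [if_neg fun h => hy ?_]
      refine commute_t_of_conj_mem D x'.2 (fun h1 => hx' ?_) (by rw [h]; exact x.2)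
      rw [← h, h1, mul_one, mul_inv_cancel]
  rw [h1, Finset.sum_ite, Finset.sum_const_zero, add_zero, Finset.sum_const, nsmul_eq_mul]
  have h2 : ((univ : Finset G).filter fun y => Commute y D.t).card = 2 * k D := by
    rw [← card_cent_t, Nat.card_eq_fintype_card]
    refine (Fintype.card_of_subtype _ fun y => ?_).symm
    rw [Finset.mem_filter, Subgroup.mem_centralizer_singleton_iff]
    exact ⟨fun h => h.2, fun h => ⟨mem_univ _, h⟩⟩
  rw [h2]; push_cast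
  field_simp

open scoped Classical in
theorem sum_phi_mul {θ θ' : ↥D.K →* ℂˣ} (hθ : θ ≠ 1) (hθ' : θ' ≠ 1) :
    ∑ x : ↥D.K, phi D θ x * phi D θ' x =
      2 * (k D : ℂ) * (2 + (if θ' = θ then 1 else 0) + (if θ' = θ⁻¹ then 1 else 0)) := by
  have hinv : ∀ (ψ : ↥D.K →* ℂˣ), ∑ x : ↥D.K, (ψ x⁻¹ : ℂ) = if ψ = 1 then (k D : ℂ) else 0 :=
    fun ψ => by
      rw [Fintype.sum_equiv (Equiv.inv ↥D.K) (fun x => (ψ x⁻¹ : ℂ)) (fun x => (ψ x : ℂ))
        (fun x => rfl), sum_apply]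
  have hm : ∀ x : ↥D.K, phi D θ x * phi D θ' x =
      4 - 2 * (θ x : ℂ) - 2 * (θ x⁻¹ : ℂ) - 2 * (θ' x : ℂ) - 2 * (θ' x⁻¹ : ℂ) +
      ((θ * θ') x : ℂ) + ((θ * θ') x⁻¹ : ℂ) + ((θ⁻¹ * θ') x : ℂ) + ((θ⁻¹ * θ') x⁻¹ : ℂ) := by
    intro x
    simp only [phi, MonoidHom.mul_apply, MonoidHom.inv_apply, map_inv, mul_inv, inv_inv,
      Units.val_mul]
    ring
  simp only [hm, Finset.sum_add_distrib, Finset.sum_sub_distrib, ← Finset.mul_sum, sum_apply,
    hinv, if_neg hθ, if_neg hθ', Finset.sum_const, Finset.card_univ, nsmul_eq_mul]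
  have e1 : θ * θ' = 1 ↔ θ' = θ⁻¹ :=
    ⟨fun h => (inv_eq_of_mul_eq_one_right (a := θ) (b := θ') h).symm,
      fun h => h ▸ mul_inv_cancel θ⟩
  have e2 : θ⁻¹ * θ' = 1 ↔ θ' = θ :=
    ⟨fun h => ((inv_mul_eq_one (a := θ) (b := θ')).1 h).symm,
      fun h => h ▸ inv_mul_cancel θ⟩
  simp only [e1, e2, ← Nat.card_eq_fintype_card]
  split_ifs <;> ring

open scoped Classical in
theorem sum_v_mul {θ θ' : ↥D.K →* ℂˣ} (hθ : θ ≠ 1) (hθ' : θ' ≠ 1) :
    ∑ χ : IrrCharacter G, v D θ χ * v D θ' χ =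
      2 + (if θ' = θ then 1 else 0) + (if θ' = θ⁻¹ then 1 else 0) := by
  have hk0 : (k D : ℂ) ≠ 0 := Nat.cast_ne_zero.2 Nat.card_pos.ne'
  have h : ∑ χ : IrrCharacter G, (v D θ χ : ℂ) * (v D θ' χ : ℂ) =
      (2 * (k D : ℂ))⁻¹ * ∑ x : ↥D.K, phi D θ x * phi D θ' x := by
    simp only [cast_v D θ', vC, Finset.mul_sum]
    rw [Finset.sum_comm]
    refine Finset.sum_congr rfl fun x _ => ?_
    by_cases hx : x = 1
    · simp [hx, phi_one]
    rw [← sum_v_on D θ hx, Finset.sum_mul, Finset.mul_sum]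
    refine Finset.sum_congr rfl fun χ _ => ?_
    ring
  rw [sum_phi_mul D hθ hθ', ← mul_assoc, inv_mul_cancel₀ (mul_ne_zero two_ne_zero hk0),
    one_mul] at h
  apply Int.cast_injective (α := ℂ)
  push_cast
  exact h

/-- The trivial character. -/
noncomputable def triv : IrrCharacter G := ⟨fun _ => 1, isIrrCharacter_one⟩

theorem triv_apply (g : G) : ((triv : IrrCharacter G) : G → ℂ) g = 1 := rfl

theorem v_triv {θ : ↥D.K →* ℂˣ} (hθ : θ ≠ 1) : v D θ triv = 1 := by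
  have hk0 : (k D : ℂ) ≠ 0 := Nat.cast_ne_zero.2 Nat.card_pos.ne'
  apply Int.cast_injective (α := ℂ)
  rw [cast_v, vC]
  simp only [triv_apply, one_mul, sum_phi D hθ, Int.cast_one]
  exact inv_mul_cancel₀ (mul_ne_zero two_ne_zero hk0)

/-- The sum over all `θ` of `v θ χ θ(x)`. -/
theorem sum_v_dual (χ : IrrCharacter G) (x : ↥D.K) (hx : x ≠ 1) :
    ∑ θ : ↥D.K →* ℂˣ, (v D θ χ : ℂ) * (θ x : ℂ) = -(χ : G → ℂ) (x : G) := by
  classical
  have hk0 : (k D : ℂ) ≠ 0 := Nat.cast_ne_zero.2 Nat.card_pos.ne'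
  simp only [cast_v, vC_eq, mul_assoc, Finset.sum_mul, ← Finset.mul_sum]
  rw [Finset.sum_comm]
  have h1 : ∀ y : ↥D.K,
      ∑ θ : ↥D.K →* ℂˣ, (χ : G → ℂ) (y : G) * ((1 - (θ y⁻¹ : ℂ)) * (θ x : ℂ)) =
        if y = x then -((k D : ℂ) * (χ : G → ℂ) (x : G)) else 0 := by
    intro y
    rw [← Finset.mul_sum]
    have hsum : ∑ θ : ↥D.K →* ℂˣ, (1 - (θ y⁻¹ : ℂ)) * (θ x : ℂ) =
        -∑ θ : ↥D.K →* ℂˣ, (θ (y⁻¹ * x) : ℂ) := by
      simp only [sub_mul, one_mul, Finset.sum_sub_distrib, sum_dual D hx, zero_sub,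
        map_mul, Units.val_mul]
    rw [hsum]
    split_ifs with h
    · subst h
      simp only [inv_mul_cancel, map_one, Units.val_one, Finset.sum_const, Finset.card_univ,
        card_dual, nsmul_eq_mul, mul_one]
      ring
    · rw [sum_dual D (fun h' => h (inv_mul_eq_one.1 h'))]; ring
  simp only [h1, Finset.sum_ite_eq', Finset.mem_univ, if_true]
  field_simp

/-- The sum over all `θ` of `v θ χ`. -/
theorem sum_v_dual_one (χ : IrrCharacter G) :
    ∃ m : ℕ, ∑ θ : ↥D.K →* ℂˣ, (v D θ χ : ℂ) = (k D : ℂ) * m - (χ : G → ℂ) 1 := by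
  classical
  have hk0 : (k D : ℂ) ≠ 0 := Nat.cast_ne_zero.2 Nat.card_pos.ne'
  have hψ := CharInduce.IsChar.comp (IsIrr.isCharacter χ.2) D.K.subtype
  obtain ⟨m, hm⟩ := classInner_isChar_nat hψ (CharInduce.isCharacter_hom (1 : ↥D.K →* ℂˣ))
  refine ⟨m, ?_⟩
  rw [← hm, classInner_def]
  simp only [MonoidHom.one_apply, Units.val_one, map_one, mul_one, cast_v, vC_eq,
    ← Finset.mul_sum, Subgroup.coe_subtype]
  rw [Finset.sum_comm, ← mul_assoc, mul_inv_cancel₀ hk0, one_mul]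
  have h1 : ∀ y : ↥D.K, ∑ θ : ↥D.K →* ℂˣ, (χ : G → ℂ) (y : G) * (1 - (θ y⁻¹ : ℂ)) =
      (k D : ℂ) * (χ : G → ℂ) (y : G) -
        if y = 1 then (k D : ℂ) * (χ : G → ℂ) 1 else 0 := by
    intro y
    rw [← Finset.mul_sum, Finset.sum_sub_distrib, Finset.sum_const, Finset.card_univ, card_dual,
      nsmul_eq_mul, mul_one]
    split_ifs with h
    · subst h
      simp only [inv_one, map_one, Units.val_one, Finset.sum_const, Finset.card_univ, card_dual,
        nsmul_eq_mul, mul_one, OneMemClass.coe_one]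
      ring
    · rw [sum_dual D (fun h' => h (inv_eq_one.1 h'))]; ring
  simp only [h1, Finset.sum_sub_distrib, Finset.sum_ite_eq', Finset.mem_univ, if_true,
    ← Finset.mul_sum]
  field_simp

end Cfsg.Agent.H65.BSW
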