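import Cfsg.Agent.H65.BSW.Basic

/-!
# The common constituent of the induced functions
-/

set_option autoImplicit false
set_option linter.unusedSectionVars false
set_option linter.style.haveILetI false

open scoped ComplexConjugate
open Finset

namespace Cfsg.Agent.H65.BSW

open Cfsg Cfsg.Agent.CharBasic

universe u

variable {G : Type u} [Group G] [Fintype G] (D : Data G)

theorem exists_deg (χ : IrrCharacter G) : ∃ n : ℕ, 0 < n ∧ (χ : G → ℂ) 1 = n :=
  IsIrr.exists_degree χ.2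

/-- The degree. -/
noncomputable def dg (χ : IrrCharacter G) : ℕ := (exists_deg χ).choose

theorem dg_pos (χ : IrrCharacter G) : 0 < dg χ := (exists_deg χ).choose_spec.1

theorem dg_spec (χ : IrrCharacter G) : (χ : G → ℂ) 1 = dg χ := (exists_deg χ).choose_spec.2

theorem exists_av (χ : IrrCharacter G) : ∃ m : ℤ, (χ : G → ℂ) D.t = m := by
  obtain ⟨n, hn⟩ := CentralFour.degree_sub_even D.ht (IsIrr.isCharacter χ.2)
  refine ⟨(dg χ : ℤ) - 2 * n, ?_⟩
  push_cast
  rw [← dg_spec]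
  linear_combination -hn

/-- The value at `t`. -/
noncomputable def av (χ : IrrCharacter G) : ℤ := (exists_av D χ).choose

theorem av_spec (χ : IrrCharacter G) : (χ : G → ℂ) D.t = av D χ := (exists_av D χ).choose_spec

theorem dg_triv : dg (triv : IrrCharacter G) = 1 := by
  have h := dg_spec (triv : IrrCharacter G)
  rw [triv_apply] at h
  exact_mod_cast h.symm

theorem av_triv : av D (triv : IrrCharacter G) = 1 := by
  have h := av_spec D (triv : IrrCharacter G)
  rw [triv_apply] at h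
  exact_mod_cast h.symm

/-- Restriction to the four group `⟨t, s⟩`. -/
theorem four_dvd (χ : IrrCharacter G) : (4 : ℤ) ∣ (dg χ : ℤ) + 3 * av D χ := by
  have ht := mul_self_t D
  have hs := mul_self_eq_one D.hs
  let ι : Multiplicative (ZMod 2) × Multiplicative (ZMod 2) →* G :=
    (CentralFour.twoHom ht).noncommCoprod (CentralFour.twoHom hs) (fun a b => by
      simp only [CentralFour.twoHom, MonoidHom.coe_mk, OneHom.coe_mk]
      split_ifs <;> first
        | exact Commute.one_left _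
        | exact Commute.one_right _
        | exact D.hst.symm)
  obtain ⟨n, hn⟩ := classInner_isChar_nat (CharInduce.IsChar.comp (IsIrr.isCharacter χ.2) ι)
    (CharInduce.isCharacter_hom (1 : Multiplicative (ZMod 2) × Multiplicative (ZMod 2) →* ℂˣ))
  have h2 : (χ : G → ℂ) D.s = av D χ := by
    obtain ⟨y, hy⟩ := isConj_iff.1 (D.hone D.t D.s D.ht D.hs)
    rw [← hy, IsIrr.isClassFunction χ.2, av_spec]
  have h3 : (χ : G → ℂ) (D.t * D.s) = av D χ := by
    have hne : D.t * D.s ≠ 1 := fun h => D.hsK (by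
      rw [← inv_eq_of_mul_eq_one_right h]; exact D.K.inv_mem D.htK)
    have ho : orderOf (D.t * D.s) = 2 := by
      refine H26.orderOf_two_of_mul_self ?_ hne
      rw [show D.t * D.s * (D.t * D.s) = D.t * (D.s * D.t) * D.s by group, D.hst.eq,
        show D.t * (D.t * D.s) * D.s = (D.t * D.t) * (D.s * D.s) by group, ht, hs, one_mul]
    obtain ⟨y, hy⟩ := isConj_iff.1 (D.hone D.t _ D.ht ho)
    rw [← hy, IsIrr.isClassFunction χ.2, av_spec]
  refine ⟨n, ?_⟩
  rw [classInner_def] at hn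
  simp only [Fintype.sum_prod_type, CentralFour.sum_two, MonoidHom.one_apply, Units.val_one,
    map_one, mul_one, ι, MonoidHom.noncommCoprod_apply, CentralFour.twoHom, MonoidHom.coe_mk,
    OneHom.coe_mk, if_pos, if_neg CentralFour.ofAdd_one_ne, one_mul, h2, h3, av_spec,
    dg_spec, Nat.card_eq_fintype_card, Fintype.card_prod, Fintype.card_multiplicative,
    ZMod.card] at hn
  apply Int.cast_injective (α := ℂ)
  push_cast at hn ⊢
  linear_combination (4 : ℂ) * hn

/-- The sign of `θ` at `t`. -/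
theorem exists_tau (θ : ↥D.K →* ℂˣ) : ∃ m : ℤ, (m = 1 ∨ m = -1) ∧ (θ (tK D) : ℂ) = m := by
  have h : (θ (tK D) : ℂ) * θ (tK D) = 1 := by
    rw [← Units.val_mul, ← map_mul, show tK D * tK D = 1 from Subtype.ext (mul_self_t D), map_one,
      Units.val_one]
  rcases mul_self_eq_one_iff.1 h with h | h
  · exact ⟨1, Or.inl rfl, by rw [h]; norm_num⟩
  · exact ⟨-1, Or.inr rfl, by rw [h]; norm_num⟩

/-- The sign of `θ` at `t`. -/
noncomputable def tau (θ : ↥D.K →* ℂˣ) : ℤ := (exists_tau D θ).choose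

theorem tau_cases (θ : ↥D.K →* ℂˣ) : tau D θ = 1 ∨ tau D θ = -1 :=
  (exists_tau D θ).choose_spec.1

theorem tau_spec (θ : ↥D.K →* ℂˣ) : (θ (tK D) : ℂ) = tau D θ :=
  (exists_tau D θ).choose_spec.2

theorem tau_one : tau D 1 = 1 := by
  have h := tau_spec D (1 : ↥D.K →* ℂˣ)
  simp only [MonoidHom.one_apply, Units.val_one] at h
  exact_mod_cast h.symm

theorem tau_mul (θ θ' : ↥D.K →* ℂˣ) : tau D (θ * θ') = tau D θ * tau D θ' := by
  have h := tau_spec D (θ * θ')
  rw [MonoidHom.mul_apply, Units.val_mul, tau_spec, tau_spec] at h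
  exact_mod_cast h.symm

theorem tau_inv (θ : ↥D.K →* ℂˣ) : tau D θ⁻¹ = tau D θ := by
  have h := tau_spec D θ⁻¹
  rw [MonoidHom.inv_apply, ← map_inv, tK_inv, tau_spec] at h
  exact_mod_cast h.symm

theorem sum_tau : ∑ θ : ↥D.K →* ℂˣ, tau D θ = 0 := by
  apply Int.cast_injective (α := ℂ)
  push_cast
  simp only [← tau_spec]
  exact sum_dual D (tK_ne_one D)

/-- The quadratic character. -/
theorem exists_quadratic : ∃ θ₀ : ↥D.K →* ℂˣ, θ₀ ≠ 1 ∧ θ₀ * θ₀ = 1 ∧
    ∀ θ : ↥D.K →* ℂˣ, θ * θ = 1 → θ = 1 ∨ θ = θ₀ := by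
  classical
  letI := commK D
  have h2 : Nat.card {θ : ↥D.K →* ℂˣ // θ * θ = 1} = 2 := by
    rw [Dual.card_sq_one]
    rw [Nat.card_eq_fintype_card, Fintype.card_subtype,
      show (univ.filter fun x : ↥D.K => x * x = 1) = {1, tK D} from ?_,
      Finset.card_pair (tK_ne_one D).symm]
    ext x
    simp only [Finset.mem_filter, Finset.mem_univ, true_and, Finset.mem_insert,
      Finset.mem_singleton]
    constructor
    · intro h
      exact (eq_of_sq D x.2 (congrArg Subtype.val h)).imp (fun e => Subtype.ext e)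
        (fun e => Subtype.ext e)
    · rintro (rfl | rfl)
      · exact one_mul 1
      · exact Subtype.ext (mul_self_t D)
  obtain ⟨x, y, hxy, huniv⟩ := Nat.card_eq_two_iff.1 h2
  have h1 : (⟨1, one_mul (1 : ↥D.K →* ℂˣ)⟩ : {θ : ↥D.K →* ℂˣ // θ * θ = 1}) ∈ ({x, y} : Set _) :=
    huniv ▸ Set.mem_univ _
  have hall : ∀ θ : {θ : ↥D.K →* ℂˣ // θ * θ = 1}, θ = x ∨ θ = y := fun θ => by
    simpa using (huniv ▸ Set.mem_univ θ : θ ∈ ({x, y} : Set _))
  rcases h1 with h1 | h1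
  · refine ⟨y.1, fun h => hxy (h1.symm.trans (Subtype.ext h.symm)), y.2, fun θ hθ => ?_⟩
    rcases hall ⟨θ, hθ⟩ with h | h
    · exact Or.inl (congrArg Subtype.val (h.trans h1.symm))
    · exact Or.inr (congrArg Subtype.val h)
  · have h1' : (⟨1, one_mul (1 : ↥D.K →* ℂˣ)⟩ : {θ : ↥D.K →* ℂˣ // θ * θ = 1}) = y := h1
    refine ⟨x.1, fun h => hxy ((Subtype.ext h).trans h1'), x.2, fun θ hθ => ?_⟩
    rcases hall ⟨θ, hθ⟩ with h | h
    · exact Or.inr (congrArg Subtype.val h)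
    · exact Or.inl (congrArg Subtype.val (h.trans h1'.symm))

theorem dual_one_mul : (1 : ↥D.K →* ℂˣ) * 1 = 1 := one_mul (1 : ↥D.K →* ℂˣ)

theorem dual_sq_inv {θ : ↥D.K →* ℂˣ} (h : θ * θ = 1) : θ = θ⁻¹ :=
  eq_inv_of_mul_eq_one_left (a := θ) (b := θ) h

open scoped Classical in
/-- The nonreal linear characters. -/
noncomputable def NR : Finset (↥D.K →* ℂˣ) := univ.filter fun θ => θ * θ ≠ 1

theorem mem_NR {θ : ↥D.K →* ℂˣ} : θ ∈ NR D ↔ θ * θ ≠ 1 := by simp [NR]

theorem ne_one_of_NR {θ : ↥D.K →* ℂˣ} (h : θ ∈ NR D) : θ ≠ 1 := fun e =>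
  mem_NR D |>.1 h (e ▸ dual_one_mul D)

theorem ne_inv_of_NR {θ : ↥D.K →* ℂˣ} (h : θ ∈ NR D) : θ ≠ θ⁻¹ := fun e =>
  (mem_NR D).1 h ((congrArg (θ * ·) e).trans (mul_inv_cancel θ))

theorem inv_mem_NR {θ : ↥D.K →* ℂˣ} (h : θ ∈ NR D) : θ⁻¹ ∈ NR D := by
  rw [mem_NR] at h ⊢
  intro e
  exact h ((inv_eq_one (a := θ * θ)).1 ((mul_inv (a := θ) (b := θ)).trans e))

theorem sum_split {M : Type*} [AddCommMonoid M] (θ₀ : ↥D.K →* ℂˣ) (h0 : θ₀ ≠ 1)
    (h0' : θ₀ * θ₀ = 1) (hu : ∀ θ : ↥D.K →* ℂˣ, θ * θ = 1 → θ = 1 ∨ θ = θ₀)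
    (F : (↥D.K →* ℂˣ) → M) :
    ∑ θ : ↥D.K →* ℂˣ, F θ = F 1 + F θ₀ + ∑ θ ∈ NR D, F θ := by
  classical
  rw [NR, ← Finset.sum_filter_add_sum_filter_not univ (fun θ : ↥D.K →* ℂˣ => θ * θ = 1)]
  congr 1
  rw [show (univ.filter fun θ : ↥D.K →* ℂˣ => θ * θ = 1) = {1, θ₀} from ?_,
    Finset.sum_pair h0.symm]
  ext θ
  simp only [Finset.mem_filter, Finset.mem_univ, true_and, Finset.mem_insert, Finset.mem_singleton]
  exact ⟨hu θ, fun h => h.elim (fun e => e ▸ dual_one_mul D) (fun e => e ▸ h0')⟩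

theorem card_NR : (NR D).card + 2 = k D := by
  obtain ⟨θ₀, h0, h0', hu⟩ := exists_quadratic D
  have h := sum_split D θ₀ h0 h0' hu (fun _ => (1 : ℕ))
  simp only [Finset.sum_const, Finset.card_univ, card_dual, smul_eq_mul, mul_one] at h
  omega

theorem sum_tau_NR {θ₀ : ↥D.K →* ℂˣ} (h0 : θ₀ ≠ 1) (h0' : θ₀ * θ₀ = 1)
    (hu : ∀ θ : ↥D.K →* ℂˣ, θ * θ = 1 → θ = 1 ∨ θ = θ₀) :
    ∑ θ ∈ NR D, tau D θ = -1 - tau D θ₀ := by
  have h := sum_split D θ₀ h0 h0' hu (tau D)
  rw [sum_tau, tau_one] at h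
  omega

/-- The columns of the induced functions. -/
theorem sum_v_deg (θ : ↥D.K →* ℂˣ) : ∑ χ : IrrCharacter G, v D θ χ * (dg χ : ℤ) = 0 := by
  apply Int.cast_injective (α := ℂ)
  push_cast
  simp only [← dg_spec]
  exact sum_v_off D θ (fun h => inK_ne_one D h rfl)

theorem sum_v_av {θ : ↥D.K →* ℂˣ} (_ : θ ≠ 1) :
    ∑ χ : IrrCharacter G, v D θ χ * av D χ = 2 - 2 * tau D θ := by
  apply Int.cast_injective (α := ℂ)
  push_cast
  simp only [← av_spec]
  rw [show D.t = ((tK D : ↥D.K) : G) from rfl, sum_v_on D θ (tK_ne_one D), phi, tK_inv, tau_spec]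
  ring

/-- The class multiplication sum. -/
noncomputable def smul2 (z : G) : ℂ :=
  ∑ χ : IrrCharacter G, conj ((χ : G → ℂ) z) * (av D χ : ℂ) ^ 2 / (dg χ : ℂ)

theorem card_mul_smul2 (z : G) :
    (Nat.card G : ℂ) * smul2 D z = 4 * (k D : ℂ) ^ 2 * (npair z : ℂ) := by
  classical
  set I := univ.filter fun w : G => orderOf w = 2 with hI
  have hpairs : ∀ χ : IrrCharacter G, ∑ x ∈ I, ∑ w ∈ I, (χ : G → ℂ) (x * w) =
      (I.card : ℂ) ^ 2 * (av D χ : ℂ) ^ 2 / (dg χ : ℂ) := by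
    intro χ
    obtain ⟨ω, hω⟩ := CentralFour.exists_scalar χ.2 (f := fun g => if orderOf g = 2 then 1 else 0)
      (fun g h => by simp only [orderOf_conj'])
    have hω' : ∀ h : G, ∑ w ∈ I, (χ : G → ℂ) (h * w) = ω * (χ : G → ℂ) h := by
      intro h
      rw [← hω h, hI, Finset.sum_filter]
      refine Finset.sum_congr rfl fun g _ => ?_
      split_ifs <;> simp
    have hsum : ∑ w ∈ I, (χ : G → ℂ) w = (I.card : ℂ) * (av D χ : ℂ) := by
      rw [Finset.sum_congr rfl (fun w hw => ?_), Finset.sum_const, nsmul_eq_mul]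
      obtain ⟨y, rfl⟩ := isConj_iff.1 (D.hone D.t w D.ht (Finset.mem_filter.1 hw).2)
      rw [← av_spec]
      exact IsIrr.isClassFunction χ.2 D.t y
    have h1 := hω' 1
    simp only [one_mul] at h1
    rw [hsum, dg_spec] at h1
    rw [Finset.sum_congr rfl fun x _ => hω' x, ← Finset.mul_sum, hsum,
      eq_div_iff (Nat.cast_ne_zero.2 (dg_pos χ).ne')]
    linear_combination (-((I.card : ℂ) * (av D χ : ℂ))) * h1
  have h := DihedralEight.pair_sum z I I (fun y w => by simp [hI, orderOf_conj'])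
    (fun y w => by simp [hI, orderOf_conj'])
  simp only [hpairs] at h
  have hN : ((I ×ˢ I).filter fun p => p.1 * p.2 = z).card = npair z := by
    rw [npair, Nat.card_eq_fintype_card, Fintype.card_subtype]
    refine Finset.card_bij' (fun p _ => p.1) (fun w _ => (w, w * z)) ?_ ?_ ?_ ?_
    · intro p hp
      simp only [hI, Finset.mem_filter, Finset.mem_product, Finset.mem_univ, true_and] at hp ⊢
      refine ⟨hp.1.1, ?_⟩
      rw [← hp.2, ← mul_assoc, mul_self_eq_one hp.1.1, one_mul]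
      exact hp.1.2
    · intro w hw
      simp only [hI, Finset.mem_filter, Finset.mem_product, Finset.mem_univ, true_and] at hw ⊢
      exact ⟨hw, by rw [← mul_assoc, mul_self_eq_one hw.1, one_mul]⟩
    · intro p hp
      simp only [hI, Finset.mem_filter, Finset.mem_product, Finset.mem_univ, true_and] at hp
      exact Prod.ext rfl (by rw [← hp.2, ← mul_assoc, mul_self_eq_one hp.1.1, one_mul])
    · intro w _; rfl
  rw [hN] at h
  have hI2 : (I.card : ℂ) * (2 * (k D : ℂ)) = (Nat.card G : ℂ) := by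
    exact_mod_cast card_invols_mul D
  have h2 : (I.card : ℂ) ^ 2 * smul2 D z = (Nat.card G : ℂ) * (npair z : ℂ) := by
    rw [← h, smul2, Finset.mul_sum]
    refine Finset.sum_congr rfl fun χ _ => ?_
    ring
  have hG0 : (Nat.card G : ℂ) ≠ 0 := Nat.cast_ne_zero.2 Nat.card_pos.ne'
  apply mul_left_cancel₀ hG0
  linear_combination (4 * (k D : ℂ) ^ 2) * h2 -
    (((I.card : ℂ) * (2 * (k D : ℂ))) + (Nat.card G : ℂ)) * smul2 D z * hI2

/-- The pairing of the induced functions with class multiplication. -/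
theorem sum_v_pair {θ : ↥D.K →* ℂˣ} (hθ : θ ≠ 1) :
    (Nat.card G : ℚ) * ∑ χ : IrrCharacter G, (v D θ χ : ℚ) * (av D χ : ℚ) ^ 2 / (dg χ : ℚ) =
      4 * (k D : ℚ) ^ 3 := by
  have hk0 : (k D : ℂ) ≠ 0 := Nat.cast_ne_zero.2 Nat.card_pos.ne'
  have h : (Nat.card G : ℂ) * ∑ χ : IrrCharacter G,
      (v D θ χ : ℂ) * (av D χ : ℂ) ^ 2 / (dg χ : ℂ) =
      (2 * (k D : ℂ))⁻¹ * ∑ x : ↥D.K, phi D θ x * ((Nat.card G : ℂ) * smul2 D (x : G)) := by
    simp only [cast_v, vC, smul2, Finset.mul_sum, Finset.sum_mul, Finset.sum_div]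
    rw [Finset.sum_comm]
    refine Finset.sum_congr rfl fun x _ => Finset.sum_congr rfl fun χ _ => ?_
    rw [conj_char]; ring
  have h2 : ∀ x : ↥D.K, phi D θ x * ((Nat.card G : ℂ) * smul2 D (x : G)) =
      phi D θ x * (4 * (k D : ℂ) ^ 3) := by
    intro x
    by_cases hx : x = 1
    · simp [hx, phi_one]
    · rw [card_mul_smul2, npair_K D x.2 (fun e => hx (Subtype.ext e))]; ring
  rw [Finset.sum_congr rfl (fun x _ => h2 x), ← Finset.sum_mul, sum_phi D hθ, ← mul_assoc,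
    inv_mul_cancel₀ (mul_ne_zero two_ne_zero hk0), one_mul] at h
  have h3 : (((Nat.card G : ℚ) * ∑ χ : IrrCharacter G,
      (v D θ χ : ℚ) * (av D χ : ℚ) ^ 2 / (dg χ : ℚ) : ℚ) : ℂ) = ((4 * (k D : ℚ) ^ 3 : ℚ) : ℂ) := by
    push_cast; exact h
  exact_mod_cast h3

theorem sum_av_sq : ∑ χ : IrrCharacter G, av D χ * av D χ = 2 * (k D : ℤ) := by
  have h := second_orthogonality_self D.t
  simp only [av_spec, map_intCast, card_cent_t] at h
  exact_mod_cast h

theorem sum_av_deg : ∑ χ : IrrCharacter G, av D χ * (dg χ : ℤ) = 0 := by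
  classical
  have h := sum_degree_mul_apply D.t
  rw [if_neg (t_ne_one D)] at h
  simp only [av_spec, dg_spec] at h
  simp only [mul_comm (av D _)]
  exact_mod_cast h

open scoped Classical in
/-- The nontrivial constituents of the induced function. -/
noncomputable def supp (θ : ↥D.K →* ℂˣ) : Finset (IrrCharacter G) :=
  (univ.erase triv).filter fun χ => v D θ χ ≠ 0

theorem mem_supp {θ : ↥D.K →* ℂˣ} {χ : IrrCharacter G} :
    χ ∈ supp D θ ↔ χ ≠ triv ∧ v D θ χ ≠ 0 := by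
  simp [supp]

theorem sum_supp {M : Type*} [CommRing M] {θ : ↥D.K →* ℂˣ} (hθ : θ ≠ 1) (F : IrrCharacter G → M) :
    ∑ χ : IrrCharacter G, (v D θ χ : M) * F χ =
      F triv + ∑ χ ∈ supp D θ, (v D θ χ : M) * F χ := by
  classical
  rw [← Finset.add_sum_erase _ _ (mem_univ triv), v_triv D hθ, Int.cast_one, one_mul]
  congr 1
  rw [supp, Finset.sum_filter]
  refine Finset.sum_congr rfl fun χ _ => ?_
  split_ifs with h
  · rfl
  · push Not at h; rw [h, Int.cast_zero, zero_mul]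

theorem v_sign {θ : ↥D.K →* ℂˣ} (hθ : θ ≠ 1) {χ : IrrCharacter G} (hχ : χ ∈ supp D θ) :
    v D θ χ = 1 ∨ v D θ χ = -1 := by
  classical
  have h := sum_v_mul D hθ hθ
  have h' := sum_supp D hθ (fun χ => v D θ χ)
  simp only [Int.cast_id] at h'
  rw [h, v_triv D hθ] at h'
  have hs := Finset.single_le_sum (f := fun χ => v D θ χ * v D θ χ)
    (fun ψ _ => mul_self_nonneg _) hχ
  have hv := ((mem_supp D).1 hχ).2
  have h1 : v D θ χ * v D θ χ ≤ 3 := by
    split_ifs at h' <;> omega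
  have h2 : v D θ χ ≤ 1 := by nlinarith
  have h3 : -1 ≤ v D θ χ := by nlinarith
  omega

open scoped Classical in
theorem card_supp {θ : ↥D.K →* ℂˣ} (hθ : θ ≠ 1) :
    ((supp D θ).card : ℤ) = if θ = θ⁻¹ then 3 else 2 := by
  have h := sum_v_mul D hθ hθ
  have h' := sum_supp D hθ (fun χ => v D θ χ)
  simp only [Int.cast_id] at h'
  rw [h, v_triv D hθ, if_pos rfl, Finset.sum_congr rfl (g := fun _ => (1 : ℤ))
    (fun χ hχ => by rcases v_sign D hθ hχ with e | e <;> rw [e] <;> norm_num),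
    Finset.sum_const, nsmul_eq_mul, mul_one] at h'
  split_ifs at h' ⊢ <;> omega

theorem exists_pair {θ : ↥D.K →* ℂˣ} (hθ : θ ∈ NR D) {a : IrrCharacter G} (ha : a ∈ supp D θ) :
    ∃ w, w ≠ a ∧ w ∈ supp D θ ∧ ∀ χ, χ ∈ supp D θ → χ = a ∨ χ = w := by
  classical
  have h := card_supp D (ne_one_of_NR D hθ)
  rw [if_neg (ne_inv_of_NR D hθ)] at h
  obtain ⟨x, y, hxy, e⟩ := Finset.card_eq_two.1 (show (supp D θ).card = 2 by omega)
  rw [e, Finset.mem_insert, Finset.mem_singleton] at ha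
  rcases ha with rfl | rfl
  · exact ⟨y, hxy.symm, by rw [e]; simp, fun χ hχ => by simpa [e] using hχ⟩
  · exact ⟨x, hxy, by rw [e]; simp, fun χ hχ => by
      rcases (by simpa [e] using hχ : χ = x ∨ χ = a) with h | h
      · exact Or.inr h
      · exact Or.inl h⟩

/-- Two different induced functions share exactly one nontrivial constituent. -/
theorem meet {θ θ' : ↥D.K →* ℂˣ} (hθ : θ ∈ NR D) (hθ' : θ' ≠ 1) (h1 : θ' ≠ θ) (h2 : θ' ≠ θ⁻¹) :
    ∃ a, a ∈ supp D θ ∧ a ∈ supp D θ' ∧ v D θ' a = v D θ a ∧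
      ∀ b, b ∈ supp D θ → b ∈ supp D θ' → b = a := by
  classical
  have hθ1 := ne_one_of_NR D hθ
  have h := sum_v_mul D hθ1 hθ'
  have h' := sum_supp D hθ1 (fun χ => v D θ' χ)
  simp only [Int.cast_id] at h'
  rw [h, if_neg h1, if_neg h2, v_triv D hθ'] at h'
  have hz : ∀ χ ∈ supp D θ, χ ∉ supp D θ' → v D θ' χ = 0 := fun χ hχ hn => by
    by_contra hc
    exact hn ((mem_supp D).2 ⟨((mem_supp D).1 hχ).1, hc⟩)
  obtain ⟨x, hx⟩ := Finset.card_pos.1 (show 0 < (supp D θ).card by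
    have := card_supp D hθ1
    rw [if_neg (ne_inv_of_NR D hθ)] at this; omega)
  obtain ⟨w, hwx, hw, hall⟩ := exists_pair D hθ hx
  have e : supp D θ = {x, w} := by
    ext χ
    simp only [Finset.mem_insert, Finset.mem_singleton]
    exact ⟨hall χ, fun h => h.elim (fun e => e ▸ hx) (fun e => e ▸ hw)⟩
  rw [e, Finset.sum_pair hwx.symm] at h'
  by_cases hx' : x ∈ supp D θ'
  · refine ⟨x, hx, hx', ?_, ?_⟩
    · rcases v_sign D hθ1 hx with e1 | e1 <;> rcases v_sign D hθ1 hw with e2 | e2 <;>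
        rcases v_sign D hθ' hx' with e3 | e3 <;>
        by_cases hw' : w ∈ supp D θ' <;>
        first
          | (have e4 := hz w hw hw'; rw [e1, e2, e3, e4] at h'; omega)
          | (rcases v_sign D hθ' hw' with e4 | e4 <;> rw [e1, e2, e3, e4] at h' <;> omega)
    · intro b hb hb'
      rcases hall b hb with rfl | rfl
      · rfl
      · exfalso
        rcases v_sign D hθ1 hx with e1 | e1 <;> rcases v_sign D hθ1 hb with e2 | e2 <;>
          rcases v_sign D hθ' hx' with e3 | e3 <;> rcases v_sign D hθ' hb' with e4 | e4 <;>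
          rw [e1, e2, e3, e4] at h' <;> omega
  · have e3 := hz x hx hx'
    rw [e3, mul_zero, zero_add] at h'
    have hw' : w ∈ supp D θ' := by
      by_contra hc; rw [hz w hw hc, mul_zero] at h'; omega
    refine ⟨w, hw, hw', ?_, fun b hb hb' => ?_⟩
    · rcases v_sign D hθ1 hw with e2 | e2 <;> rcases v_sign D hθ' hw' with e4 | e4 <;>
        rw [e2, e4] at h' ⊢ <;> omega
    · rcases hall b hb with rfl | rfl
      · exact absurd hb' hx'
      · rfl

theorem sum_two_supp {M : Type*} [CommRing M] {θ : ↥D.K →* ℂˣ} (hθ : θ ∈ NR D)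
    {a w : IrrCharacter G} (haw : a ≠ w) (ha : a ∈ supp D θ) (hw : w ∈ supp D θ)
    (F : IrrCharacter G → M) :
    ∑ χ : IrrCharacter G, (v D θ χ : M) * F χ =
      F triv + (v D θ a : M) * F a + (v D θ w : M) * F w := by
  classical
  obtain ⟨w', hw'a, hw', hall⟩ := exists_pair D hθ ha
  have : w = w' := (hall w hw).resolve_left haw.symm
  subst this
  have e : supp D θ = {a, w} := by
    ext χ
    simp only [Finset.mem_insert, Finset.mem_singleton]
    exact ⟨hall χ, fun h => h.elim (fun e => e ▸ ha) (fun e => e ▸ hw)⟩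
  rw [sum_supp D (ne_one_of_NR D hθ), e, Finset.sum_pair haw, add_assoc]

theorem deg_eq {θ : ↥D.K →* ℂˣ} (hθ : θ ∈ NR D) {a w : IrrCharacter G} (haw : a ≠ w)
    (ha : a ∈ supp D θ) (hw : w ∈ supp D θ) :
    1 + v D θ a * (dg a : ℤ) + v D θ w * (dg w : ℤ) = 0 := by
  have h := sum_v_deg D θ
  rw [show ∑ χ : IrrCharacter G, v D θ χ * (dg χ : ℤ) = ∑ χ, ((v D θ χ : ℤ) : ℤ) * (dg χ : ℤ)
    from rfl] at h
  have h' := sum_two_supp D hθ haw ha hw (fun χ => (dg χ : ℤ))
  simp only [Int.cast_id] at h'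
  rw [h, dg_triv, Nat.cast_one] at h'
  omega

theorem tval_eq {θ : ↥D.K →* ℂˣ} (hθ : θ ∈ NR D) {a w : IrrCharacter G} (haw : a ≠ w)
    (ha : a ∈ supp D θ) (hw : w ∈ supp D θ) :
    1 + v D θ a * av D a + v D θ w * av D w = 2 - 2 * tau D θ := by
  have h' := sum_two_supp D hθ haw ha hw (fun χ => av D χ)
  simp only [Int.cast_id] at h'
  rw [sum_v_av D (ne_one_of_NR D hθ), av_triv] at h'
  omega

theorem pair_eq {θ : ↥D.K →* ℂˣ} (hθ : θ ∈ NR D) {a w : IrrCharacter G} (haw : a ≠ w)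
    (ha : a ∈ supp D θ) (hw : w ∈ supp D θ) :
    (Nat.card G : ℚ) * (1 + (v D θ a : ℚ) * ((av D a : ℚ) ^ 2 / dg a) +
      (v D θ w : ℚ) * ((av D w : ℚ) ^ 2 / dg w)) = 4 * (k D : ℚ) ^ 3 := by
  have h := sum_v_pair D (ne_one_of_NR D hθ)
  simp only [mul_div_assoc] at h
  rw [sum_two_supp D hθ haw ha hw (fun χ => (av D χ : ℚ) ^ 2 / dg χ)] at h
  simpa [av_triv, dg_triv] using h

/-- There is one character, other than the trivial one, in all the induced functions. -/
theorem exists_center (hk : 2 < k D) :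
    ∃ (a : IrrCharacter G) (e : ℤ), a ≠ triv ∧ (e = 1 ∨ e = -1) ∧
      ∀ θ : ↥D.K →* ℂˣ, θ ≠ 1 → v D θ a = e := by
  classical
  obtain ⟨θ₀, h0, h0', hu⟩ := exists_quadratic D
  have hNR := card_NR D
  obtain ⟨θ, hθ⟩ := Finset.card_pos.1 (show 0 < (NR D).card by omega)
  have hne0 : ∀ {η : ↥D.K →* ℂˣ}, η ∈ NR D → θ₀ ≠ η ∧ θ₀ ≠ η⁻¹ := fun {η} hη => by
    refine ⟨fun e => (mem_NR D).1 hη (e ▸ h0'), fun e => (mem_NR D).1 (inv_mem_NR D hη) (e ▸ h0')⟩
  obtain ⟨a, haθ, ha0, hav, hauniq⟩ := meet D hθ h0 (hne0 hθ).1 (hne0 hθ).2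
  by_cases hall : ∀ η ∈ NR D, a ∈ supp D η
  · refine ⟨a, v D θ₀ a, ((mem_supp D).1 ha0).1, v_sign D h0 ha0, fun η hη => ?_⟩
    by_cases h1 : η * η = 1
    · rw [(hu η h1).resolve_left hη]
    · have hηNR := (mem_NR D).2 h1
      obtain ⟨b, -, -, hb, huniq⟩ := meet D hηNR h0 (hne0 hηNR).1 (hne0 hηNR).2
      rw [← huniq a (hall η hηNR) ha0] at hb
      exact hb.symm
  exfalso
  push Not at hall
  obtain ⟨θ', hθ', haθ'⟩ := hall
  obtain ⟨b, hbθ', hb0, hbv, hbuniq⟩ := meet D hθ' h0 (hne0 hθ').1 (hne0 hθ').2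
  have hsym : ∀ χ, χ ∈ supp D θ⁻¹ ↔ χ ∈ supp D θ := fun χ => by
    rw [mem_supp, mem_supp, v_inv]
  have hne1 : θ' ≠ θ := fun e => haθ' (e ▸ haθ)
  have hne2 : θ' ≠ θ⁻¹ := fun e => haθ' (e ▸ (hsym a).2 haθ)
  have hab : a ≠ b := fun e => haθ' (e ▸ hbθ')
  obtain ⟨w, hwθ, hwθ', hwv, hwuniq⟩ := meet D hθ (ne_one_of_NR D hθ') hne1 hne2
  have hwa : w ≠ a := fun e => haθ' (e ▸ hwθ')
  have hw0 : w ∉ supp D θ₀ := fun h => hwa (hauniq w hwθ h)
  have hwb : w ≠ b := fun e => hw0 (e ▸ hb0)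
  -- signed degrees of the leaves
  have d1 := deg_eq D hθ hwa.symm haθ hwθ
  have d2 := deg_eq D hθ' hwb.symm hbθ' hwθ'
  rw [hwv] at d2
  have hA : v D θ₀ a * (dg a : ℤ) = v D θ₀ b * (dg b : ℤ) := by rw [hav, hbv]; omega
  by_cases hthird : ∃ η ∈ NR D, η ≠ θ ∧ η ≠ θ⁻¹ ∧ η ≠ θ' ∧ η ≠ θ'⁻¹
  · obtain ⟨η, hη, e1, e2, e3, e4⟩ := hthird
    obtain ⟨c, hcη, hc0, hcv, hcuniq⟩ := meet D hη h0 (hne0 hη).1 (hne0 hη).2
    obtain ⟨x, hxθ, hxη, hxv, hxuniq⟩ := meet D hθ (ne_one_of_NR D hη) e1 e2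
    obtain ⟨y, hyθ', hyη, hyv, hyuniq⟩ := meet D hθ' (ne_one_of_NR D hη) e3 e4
    obtain ⟨w₁, hw1w, -, hw1⟩ := exists_pair D hθ hwθ
    obtain ⟨w₂, hw2w, -, hw2⟩ := exists_pair D hθ' hwθ'
    have ha1 : a = w₁ := (hw1 a haθ).resolve_left hwa.symm
    have hb2 : b = w₂ := (hw2 b hbθ').resolve_left hwb.symm
    have hwη : w ∈ supp D η := by
      rcases hw1 x hxθ with h | h
      · exact h ▸ hxη
      rcases hw2 y hyθ' with h' | h'
      · exact h' ▸ hyη
      exfalso
      have haη : a ∈ supp D η := by rw [ha1, ← h]; exact hxη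
      have hbη : b ∈ supp D η := by rw [hb2, ← h']; exact hyη
      exact hab ((hcuniq a haη ha0).trans (hcuniq b hbη hb0).symm)
    have hwv' : v D η w = v D θ w := by
      rw [hxuniq w hwθ hwη]; exact hxv
    have hwc : w ≠ c := fun e => hw0 (e ▸ hc0)
    have hca : c ≠ a := fun e => hwa ((hxuniq w hwθ hwη).trans (hxuniq a haθ (e ▸ hcη)).symm)
    have hcb : c ≠ b := fun e => hwb ((hyuniq w hwθ' hwη).trans (hyuniq b hbθ' (e ▸ hcη)).symm)
    have d3 := deg_eq D hη hwc.symm hcη hwη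
    rw [hwv'] at d3
    have hsupp : supp D θ₀ = {a, b, c} := by
      refine (Finset.eq_of_subset_of_card_le ?_ ?_).symm
      · intro χ hχ
        simp only [Finset.mem_insert, Finset.mem_singleton] at hχ
        rcases hχ with rfl | rfl | rfl <;> assumption
      · have h := card_supp D h0
        rw [if_pos (dual_sq_inv D h0')] at h
        rw [Finset.card_insert_of_notMem (by simp [hab, hca.symm]),
          Finset.card_pair hcb.symm]
        omega
    have hd := sum_v_deg D θ₀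
    have h' := sum_supp D h0 (fun χ => (dg χ : ℤ))
    simp only [Int.cast_id] at h'
    rw [hd, hsupp, dg_triv, Finset.sum_insert (by simp [hab, hca.symm]),
      Finset.sum_pair hcb.symm, Nat.cast_one] at h'
    rw [hcv] at h'
    rw [hav] at h' hA
    rw [hbv] at h' hA
    omega
  push Not at hthird
  have hsub : NR D ⊆ {θ, θ⁻¹, θ', θ'⁻¹} := fun η hη => by
    simp only [Finset.mem_insert, Finset.mem_singleton]
    by_contra hc
    push Not at hc
    exact hc.2.2.2 (hthird η hη hc.1 hc.2.1 hc.2.2.1)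
  have hcard4 : (NR D).card = 4 := by
    refine le_antisymm ((Finset.card_le_card hsub).trans Finset.card_le_four) ?_
    have h4 : ({θ, θ⁻¹, θ', θ'⁻¹} : Finset _) ⊆ NR D := by
      intro η hη
      simp only [Finset.mem_insert, Finset.mem_singleton] at hη
      rcases hη with rfl | rfl | rfl | rfl
      exacts [hθ, inv_mem_NR D hθ, hθ', inv_mem_NR D hθ']
    refine le_trans ?_ (Finset.card_le_card h4)
    rw [Finset.card_eq_succ.2 ⟨θ, {θ⁻¹, θ', θ'⁻¹}, ?_, rfl, ?_⟩]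
    · have hne3 : θ ≠ θ'⁻¹ := fun e => hne2
        ((inv_inv θ').symm.trans (congrArg (fun η : ↥D.K →* ℂˣ => η⁻¹) e).symm)
      simp [ne_inv_of_NR D hθ, hne1.symm, hne3]
    · rw [Finset.card_eq_three]
      exact ⟨θ⁻¹, θ', θ'⁻¹, hne2.symm, fun e => hne1 (inv_injective e.symm),
        ne_inv_of_NR D hθ', rfl⟩
  have hk6 : k D = 6 := by omega
  -- `θ₀ t = -1`
  have hσ : tau D θ₀ = -1 := by
    have h6 : ∀ η : ↥D.K →* ℂˣ, η ^ 6 = 1 := fun η => by
      rw [← hk6, ← card_dual D]; exact pow_card_eq_one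
    refine (tau_cases D θ₀).resolve_left fun h1 => ?_
    obtain ⟨η, hη⟩ := exists_apply_ne_one D (tK_ne_one D)
    apply hη
    have hs : tau D η = 1 := by
      have h3 : η ^ 3 * η ^ 3 = 1 := by rw [← pow_add]; exact h6 η
      have ht3 : tau D (η ^ 3) = 1 := by
        rcases hu _ h3 with h | h <;> rw [h]
        · exact tau_one D
        · exact h1
      rw [show η ^ 3 = η * η * η by rw [pow_succ, pow_two], tau_mul, tau_mul] at ht3
      rcases tau_cases D η with e | e <;> rw [e] at ht3 ⊢ <;> omega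
    apply Units.ext
    rw [tau_spec, hs, Units.val_one, Int.cast_one]
  have hprod : θ * θ₀ = θ' ∨ θ * θ₀ = θ'⁻¹ := by
    have hmem : θ * θ₀ ∈ NR D := by
      rw [mem_NR]
      intro e
      apply (mem_NR D).1 hθ
      have e' := (mul_mul_mul_comm θ θ₀ θ θ₀).symm.trans e
      rw [h0'] at e'
      exact (mul_one (θ * θ)).symm.trans e'
    have h' := hsub hmem
    simp only [Finset.mem_insert, Finset.mem_singleton] at h'
    rcases h' with h | h | h | h
    · exact absurd ((mul_eq_left (a := θ) (b := θ₀)).1 h) h0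
    · exfalso
      have h2 : θ * θ * θ₀ = 1 :=
        (mul_assoc θ θ θ₀).trans ((congrArg (θ * ·) h).trans (mul_inv_cancel θ))
      have h2' : θ * θ = θ₀ :=
        (eq_inv_of_mul_eq_one_left (a := θ * θ) (b := θ₀) h2).trans (dual_sq_inv D h0').symm
      have h6 : θ ^ 6 = 1 := by rw [← hk6, ← card_dual D]; exact pow_card_eq_one
      have e6 : θ ^ 6 = (θ * θ) * (θ * θ) * (θ * θ) := by
        ext x; simp [pow_succ, mul_assoc]
      rw [e6, h2', h0'] at h6
      exact h0 ((one_mul θ₀).symm.trans h6)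
    · exact Or.inl h
    · exact Or.inr h
  have hτ : tau D θ' = - tau D θ := by
    rcases hprod with h | h
    · rw [← h, tau_mul, hσ]; ring
    · rw [← tau_inv D θ', ← h, tau_mul, hσ]; ring
  -- values at `t`
  have t1 := tval_eq D hθ hwa.symm haθ hwθ
  have t2 := tval_eq D hθ' hwb.symm hbθ' hwθ'
  rw [hwv] at t2
  have hsupp3 : ∃ c, c ≠ a ∧ c ≠ b ∧ supp D θ₀ = {a, b, c} := by
    have h := card_supp D h0
    rw [if_pos (dual_sq_inv D h0')] at h
    have h2 : ((supp D θ₀) \ {a, b}).card = 1 := by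
      rw [Finset.card_sdiff_of_subset, Finset.card_pair hab]
      · omega
      · intro χ hχ
        simp only [Finset.mem_insert, Finset.mem_singleton] at hχ
        rcases hχ with rfl | rfl <;> assumption
    obtain ⟨c, hc⟩ := Finset.card_eq_one.1 h2
    have hcmem : c ∈ (supp D θ₀) \ {a, b} := by rw [hc]; exact Finset.mem_singleton_self c
    simp only [Finset.mem_sdiff, Finset.mem_insert, Finset.mem_singleton, not_or] at hcmem
    refine ⟨c, hcmem.2.1, hcmem.2.2, ?_⟩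
    ext χ
    simp only [Finset.mem_insert, Finset.mem_singleton]
    constructor
    · intro hχ
      by_cases h1 : χ = a; · exact Or.inl h1
      by_cases h2 : χ = b; · exact Or.inr (Or.inl h2)
      have : χ ∈ ({c} : Finset _) := hc ▸ Finset.mem_sdiff.2 ⟨hχ, by simp [h1, h2]⟩
      exact Or.inr (Or.inr (Finset.mem_singleton.1 this))
    · rintro (rfl | rfl | rfl)
      exacts [ha0, hb0, hcmem.1]
  obtain ⟨c, hca, hcb, hsupp⟩ := hsupp3
  have hc0 : c ∈ supp D θ₀ := by rw [hsupp]; simp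
  have t3 : 1 + (v D θ₀ a * av D a + (v D θ₀ b * av D b + v D θ₀ c * av D c)) = 4 := by
    have h' := sum_supp D h0 (fun χ => av D χ)
    simp only [Int.cast_id] at h'
    rw [sum_v_av D h0, hσ, hsupp, av_triv, Finset.sum_insert (by simp [hab, hca.symm]),
      Finset.sum_pair hcb.symm] at h'
    omega
  rw [hav, hbv] at t3
  have hwc : w ≠ c := fun e => hw0 (e ▸ hc0)
  have hnorm : 1 + (av D a * av D a + (av D b * av D b + (av D w * av D w + av D c * av D c))) ≤
      12 := by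
    have h := sum_av_sq D
    rw [← Finset.add_sum_erase _ _ (mem_univ triv), av_triv, hk6] at h
    have hle : ∑ χ ∈ ({a, b, w, c} : Finset _), av D χ * av D χ ≤
        ∑ χ ∈ univ.erase triv, av D χ * av D χ := by
      refine Finset.sum_le_sum_of_subset_of_nonneg ?_ (fun χ _ _ => mul_self_nonneg _)
      intro χ hχ
      simp only [Finset.mem_insert, Finset.mem_singleton] at hχ
      refine Finset.mem_erase.2 ⟨?_, mem_univ _⟩
      rcases hχ with rfl | rfl | rfl | rfl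
      exacts [((mem_supp D).1 ha0).1, ((mem_supp D).1 hb0).1, ((mem_supp D).1 hwθ).1,
        ((mem_supp D).1 hc0).1]
    rw [Finset.sum_insert (by simp [hab, hwa.symm, hca.symm]),
      Finset.sum_insert (by simp [hwb.symm, hcb.symm]), Finset.sum_pair hwc] at hle
    omega
  -- equal squares
  have p1 := pair_eq D hθ hwa.symm haθ hwθ
  have p2 := pair_eq D hθ' hwb.symm hbθ' hwθ'
  rw [hwv] at p2
  have hsq : av D a * av D a = av D b * av D b := by
    have hG0 : (Nat.card G : ℚ) ≠ 0 := Nat.cast_ne_zero.2 Nat.card_pos.ne'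
    have hq : (v D θ a : ℚ) * ((av D a : ℚ) ^ 2 / dg a) =
        (v D θ' b : ℚ) * ((av D b : ℚ) ^ 2 / dg b) := by
      have := mul_left_cancel₀ hG0 (p1.trans p2.symm)
      linarith
    rw [hav, hbv] at hA
    have hsa : (v D θ a : ℚ) * v D θ a = 1 := by
      rcases v_sign D (ne_one_of_NR D hθ) haθ with e | e <;> rw [e] <;> norm_num
    have hsb : (v D θ' b : ℚ) * v D θ' b = 1 := by
      rcases v_sign D (ne_one_of_NR D hθ') hbθ' with e | e <;> rw [e] <;> norm_num
    have hA' : (v D θ a : ℚ) * dg a = (v D θ' b : ℚ) * dg b := by exact_mod_cast hA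
    have hda : (dg a : ℚ) ≠ 0 := Nat.cast_ne_zero.2 (dg_pos a).ne'
    have hdb : (dg b : ℚ) ≠ 0 := Nat.cast_ne_zero.2 (dg_pos b).ne'
    have h2 : (av D a : ℚ) ^ 2 = (av D b : ℚ) ^ 2 := by
      have e1 : (v D θ a : ℚ) * dg a * ((v D θ a : ℚ) * ((av D a : ℚ) ^ 2 / dg a)) =
          (av D a : ℚ) ^ 2 := by
        rw [show (v D θ a : ℚ) * dg a * ((v D θ a : ℚ) * ((av D a : ℚ) ^ 2 / dg a)) =
          (v D θ a : ℚ) * v D θ a * (dg a * ((av D a : ℚ) ^ 2 / dg a)) by ring, hsa, one_mul,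
          mul_div_cancel₀ _ hda]
      have e2 : (v D θ' b : ℚ) * dg b * ((v D θ' b : ℚ) * ((av D b : ℚ) ^ 2 / dg b)) =
          (av D b : ℚ) ^ 2 := by
        rw [show (v D θ' b : ℚ) * dg b * ((v D θ' b : ℚ) * ((av D b : ℚ) ^ 2 / dg b)) =
          (v D θ' b : ℚ) * v D θ' b * (dg b * ((av D b : ℚ) ^ 2 / dg b)) by ring, hsb, one_mul,
          mul_div_cancel₀ _ hdb]
      rw [← e1, ← e2, hA', hq]
    have : ((av D a * av D a : ℤ) : ℚ) = ((av D b * av D b : ℤ) : ℚ) := by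
      push_cast; rw [← pow_two, ← pow_two]; exact h2
    exact_mod_cast this
  have sA : ∀ {η : ↥D.K →* ℂˣ} {χ : IrrCharacter G}, η ≠ 1 → χ ∈ supp D η →
      (v D η χ * av D χ) * (v D η χ * av D χ) = av D χ * av D χ := fun {η χ} hη hχ => by
    rcases v_sign D hη hχ with e | e <;> rw [e] <;> ring
  rw [← sA (ne_one_of_NR D hθ) haθ, ← sA (ne_one_of_NR D hθ') hbθ',
    ← sA (ne_one_of_NR D hθ) hwθ, ← sA h0 hc0] at hnorm
  rw [← sA (ne_one_of_NR D hθ) haθ, ← sA (ne_one_of_NR D hθ') hbθ'] at hsq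
  generalize v D θ a * av D a = α at *
  generalize v D θ' b * av D b = β at *
  generalize v D θ w * av D w = γ at *
  generalize v D θ₀ c * av D c = δ at *
  rcases tau_cases D θ with e | e <;> rw [hτ, e] at t2 <;> rw [e] at t1
  · have hα : α = -2 := by
      have : β = α + 4 := by omega
      subst this; nlinarith
    subst hα
    have : β = 2 := by omega
    subst this
    have : γ = 1 := by omega
    subst this
    have : δ = 3 := by omega
    subst this
    omega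
  · have hα : α = 2 := by
      have : β = α - 4 := by omega
      subst this; nlinarith
    subst hα
    have : β = -2 := by omega
    subst this
    have : γ = 1 := by omega
    subst this
    have : δ = 3 := by omega
    subst this
    omega

end Cfsg.Agent.H65.BSW
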