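import Cfsg.Agent.H65.BSW.Center

/-!
# The order of the group and the number of ways of being a product of two involutions
-/

set_option autoImplicit false
set_option linter.unusedSectionVars false
set_option linter.style.haveILetI false

open scoped ComplexConjugate
open Finset

namespace Cfsg.Agent.H65.BSW

open Cfsg Cfsg.Agent.CharBasic

universe u

variable {G : Type u} [Group G] [Fintype G] (D : Data G)

/-- The number of involutions is odd. -/
theorem exists_card_odd : ∃ n : ℕ, Odd n ∧ Nat.card G = 2 * k D * n := by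
  classical
  have hI := card_invols_mul D
  set n := ((univ : Finset G).filter fun w => orderOf w = 2).card
  refine ⟨n, ?_, by rw [← hI]; ring⟩
  rw [← Nat.not_even_iff_odd, even_iff_two_dvd]
  intro h2
  haveI : Fact (Nat.Prime 2) := ⟨Nat.prime_two⟩
  obtain ⟨T⟩ := (inferInstance : Nonempty (Sylow 2 G))
  have hTnt : Nontrivial ↥(T : Subgroup G) := by
    rw [Subgroup.nontrivial_iff_ne_bot]
    refine T.ne_bot_of_dvd_card ?_
    rw [← D.ht]; exact orderOf_dvd_natCard D.t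
  haveI := T.2.center_nontrivial
  obtain ⟨j, hj⟩ := (T.2.to_subgroup (Subgroup.center ↥(T : Subgroup G))).exists_card_eq
  have hZ2 : 2 ∣ Nat.card ↥(Subgroup.center ↥(T : Subgroup G)) := by
    rw [hj]
    refine dvd_pow_self 2 fun h0 => ?_
    rw [h0, pow_zero] at hj
    exact absurd hj (Finite.one_lt_card.ne')
  obtain ⟨z, hz⟩ := exists_prime_orderOf_dvd_card' 2 hZ2
  rw [← Subgroup.orderOf_coe, ← Subgroup.orderOf_coe] at hz
  set z' : G := ((z : ↥(T : Subgroup G)) : G)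
  have hTle : (T : Subgroup G) ≤ Subgroup.centralizer ({z'} : Set G) := by
    intro g hg
    rw [Subgroup.mem_centralizer_singleton_iff]
    exact congrArg Subtype.val (Subgroup.mem_center_iff.1 z.2 ⟨g, hg⟩)
  have hC : Nat.card ↥(Subgroup.centralizer ({z'} : Set G)) = 2 * k D := by
    obtain ⟨y, hy⟩ := isConj_iff.1 (D.hone D.t z' D.ht hz)
    rw [← card_cent_t, ← hy]
    refine (Nat.card_congr (Equiv.subtypeEquiv (MulAut.conj y).toEquiv fun g => ?_)).symm
    rw [show (MulAut.conj y).toEquiv g = y * g * y⁻¹ from rfl,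
      Subgroup.mem_centralizer_singleton_iff, Subgroup.mem_centralizer_singleton_iff]
    constructor
    · intro h
      calc y * g * y⁻¹ * (y * D.t * y⁻¹) = y * (g * D.t) * y⁻¹ := by group
        _ = y * (D.t * g) * y⁻¹ := by rw [h]
        _ = _ := by group
    · intro h
      calc g * D.t = y⁻¹ * (y * g * y⁻¹ * (y * D.t * y⁻¹)) * y := by group
        _ = y⁻¹ * (y * D.t * y⁻¹ * (y * g * y⁻¹)) * y := by rw [h]
        _ = _ := by group
  have h1 : Nat.card ↥(T : Subgroup G) ∣ 2 * k D := hC ▸ Subgroup.card_dvd_of_le hTle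
  refine T.not_dvd_index ?_
  have h3 := Subgroup.card_mul_index (T : Subgroup G)
  rw [← hI] at h3
  obtain ⟨c, hc⟩ := h1
  obtain ⟨n', hn'⟩ := h2
  refine ⟨n' * c, ?_⟩
  rw [hc, hn'] at h3
  have : Nat.card ↥(T : Subgroup G) * (T : Subgroup G).index =
      Nat.card ↥(T : Subgroup G) * (2 * (n' * c)) := by rw [h3]; ring
  exact Nat.eq_of_mul_eq_mul_left Nat.card_pos this

/-- The arithmetic fixing the signed degree. -/
theorem q_cases (k q n g : ℤ) (hk : 0 < k) (hg : g = 2 * k * n) (hn : Odd n)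
    (hq4 : q % 4 = 1) (hqk : k ∣ q - 1) (heq : g * (q - 1) ^ 2 = 4 * k ^ 3 * q * (q + 1)) :
    (q = 2 * k + 1 ∨ q = 1 - 2 * k) ∧ g = k * q * (q + 1) := by
  obtain ⟨m, hm⟩ := hqk
  have hq : q = k * m + 1 := by omega
  obtain ⟨i, hi⟩ : ∃ i, q = 4 * i + 1 := ⟨q / 4, by omega⟩
  have h1 : n * m ^ 2 = 4 * (q * (2 * i + 1)) := by
    have h : (n * m ^ 2) * (2 * k ^ 3) = (4 * (q * (2 * i + 1))) * (2 * k ^ 3) := by
      subst hg
      rw [show q - 1 = k * m by omega] at heq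
      linear_combination heq + 4 * k ^ 3 * q * hi
    exact mul_right_cancel₀ (by positivity) h
  have hme : Even m := by
    rcases Int.even_or_odd m with h | h
    · exact h
    · exfalso
      have : Odd (n * m ^ 2) := hn.mul h.pow
      rw [h1] at this
      exact Int.not_even_iff_odd.2 this ⟨2 * (q * (2 * i + 1)), by ring⟩
  obtain ⟨j, hj⟩ := hme
  have h2 : n * j ^ 2 = q * (2 * i + 1) := by subst hj; linarith
  have hjdvd : j ∣ 2 := by
    refine ⟨2 * n * j - k * (3 + 2 * k * j) * 2, ?_⟩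
    have e1 : q * (q + 1) = 2 * (n * j ^ 2) := by
      rw [h2]; linear_combination q * hi
    rw [hq, hj] at e1
    linear_combination e1
  have hjodd : Odd j := by
    have h3 : Odd (n * j ^ 2) := by
      rw [h2]
      exact Odd.mul ⟨2 * i, by omega⟩ ⟨i, rfl⟩
    rcases Int.even_or_odd j with h | h
    · exfalso
      exact Int.not_even_iff_odd.2 h3 ((h.pow_of_ne_zero two_ne_zero).mul_left n)
    · exact h
  have hj1 : j = 1 ∨ j = -1 := by
    have hle := Int.le_of_dvd (by norm_num) hjdvd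
    have hge := Int.le_of_dvd (by norm_num) (Int.neg_dvd.2 hjdvd)
    obtain ⟨w, hw⟩ := hjodd
    omega
  refine ⟨?_, ?_⟩
  · rcases hj1 with h | h <;> subst h <;> subst hj
    · left; rw [hq]; ring
    · right; rw [hq]; ring
  · rcases hj1 with h | h <;> subst h <;> rw [hg] <;> linear_combination 2 * k * h2 - k * q * hi

/-- An algebraic integer with a rational value is an integer. -/
theorem exists_int_of_mul {c m : ℤ} (hc : c ≠ 0) {X : ℂ} (hX : IsIntegral ℤ X)
    (h : (c : ℂ) * X = m) : ∃ j : ℤ, X = j := by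
  have hq : X = algebraMap ℚ ℂ ((m : ℚ) / c) := by
    simp only [eq_ratCast, Rat.cast_div, Rat.cast_intCast]
    rw [← h, mul_div_cancel_left₀ _ (Int.cast_ne_zero.2 hc)]
  rw [hq, isIntegral_algebraMap_iff (algebraMap ℚ ℂ).injective] at hX
  obtain ⟨j, hj⟩ := IsIntegrallyClosed.isIntegral_iff.1 hX
  refine ⟨j, ?_⟩
  rw [hq, ← hj]
  simp

/-- The order of the group, and the number of representations of an element outside the conjugates
of `K` as a product of two involutions. -/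
theorem columns (hk : 2 < k D) :
    ((Nat.card G : ℤ) = (k D : ℤ) * (2 * k D + 1) * (2 * k D + 2) ∧
      ∀ z : G, z ≠ 1 → ¬ InK D z → ∃ j : ℤ, (npair z : ℤ) = 2 * k D + 1 + k D * j) ∨
    ((Nat.card G : ℤ) = (k D : ℤ) * (2 * k D - 1) * (2 * k D - 2) ∧
      ∀ z : G, z ≠ 1 → ¬ InK D z → ∃ j : ℤ, (npair z : ℤ) = ((k D : ℤ) - 1) * j) := by
  classical
  obtain ⟨θ₀, h0, h0', hu⟩ := exists_quadratic D
  obtain ⟨a, e, hat, he, hae⟩ := exists_center D hk
  have hee : e * e = 1 := by rcases he with rfl | rfl <;> rfl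
  have heC : (e : ℂ) * e = 1 := by exact_mod_cast hee
  -- the values on `K`
  have haK : ∀ x : ↥D.K, x ≠ 1 → (a : G → ℂ) (x : G) = e := by
    intro x hx
    have h := sum_v_dual D a x hx
    have h1 : v D 1 a = 0 := by
      apply Int.cast_injective (α := ℂ)
      rw [cast_v, vC, Int.cast_zero]
      simp [phi]; norm_num
    have hsum : ∑ θ : ↥D.K →* ℂˣ, (v D θ a : ℂ) * (θ x : ℂ) = -(e : ℂ) := by
      rw [← Finset.add_sum_erase _ _ (mem_univ 1), h1, Int.cast_zero, zero_mul, zero_add,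
        Finset.sum_congr rfl (fun θ hθ => by rw [hae θ (Finset.ne_of_mem_erase hθ)]),
        ← Finset.mul_sum, Finset.sum_erase_eq_sub (mem_univ 1), sum_dual D hx]
      simp
    rw [hsum] at h
    linear_combination h
  have haa : av D a = e := by
    have h := haK (tK D) (tK_ne_one D)
    rw [show ((tK D : ↥D.K) : G) = D.t from rfl, av_spec] at h
    exact_mod_cast h
  set q : ℤ := e * (dg a : ℤ) with hq
  have hqk : (k D : ℤ) ∣ q - 1 := by
    obtain ⟨m, hm⟩ := sum_v_dual_one D a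
    have h1 : v D 1 a = 0 := by
      apply Int.cast_injective (α := ℂ)
      rw [cast_v, vC, Int.cast_zero]
      simp [phi]; norm_num
    rw [← Finset.add_sum_erase _ _ (mem_univ 1), h1, Int.cast_zero, zero_add,
      Finset.sum_congr rfl (fun θ hθ => by rw [hae θ (Finset.ne_of_mem_erase hθ)]),
      Finset.sum_const, Finset.card_erase_of_mem (mem_univ 1), Finset.card_univ, card_dual,
      nsmul_eq_mul, dg_spec] at hm
    have hm' : ((k D - 1 : ℕ) : ℤ) * e = (k D : ℤ) * m - dg a := by exact_mod_cast hm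
    rw [Nat.cast_sub (by omega), Nat.cast_one] at hm'
    refine ⟨e * m - 1, ?_⟩
    rw [hq]
    linear_combination e * hm' - ((k D : ℤ) - 1) * hee
  -- the second constituent
  have hsuppa : ∀ θ ∈ NR D, a ∈ supp D θ := fun θ hθ => by
    rw [mem_supp, hae θ (ne_one_of_NR D hθ)]
    exact ⟨hat, by rcases he with rfl | rfl <;> norm_num⟩
  choose c hca hcs hcall using fun θ : {θ // θ ∈ NR D} => exists_pair D θ.2 (hsuppa θ.1 θ.2)
  have hdeg : ∀ θ : {θ // θ ∈ NR D}, v D θ.1 (c θ) * (dg (c θ) : ℤ) = -(1 + q) := by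
    intro θ
    have h := deg_eq D θ.2 (hca θ).symm (hsuppa _ θ.2) (hcs θ)
    rw [hae θ.1 (ne_one_of_NR D θ.2), ← hq] at h
    omega
  have hval : ∀ θ : {θ // θ ∈ NR D}, v D θ.1 (c θ) * av D (c θ) = -2 * tau D θ.1 := by
    intro θ
    have h := tval_eq D θ.2 (hca θ).symm (hsuppa _ θ.2) (hcs θ)
    rw [hae θ.1 (ne_one_of_NR D θ.2), haa, hee] at h
    omega
  have hvv : ∀ θ : {θ // θ ∈ NR D}, v D θ.1 (c θ) * v D θ.1 (c θ) = 1 := fun θ => by
    rcases v_sign D (ne_one_of_NR D θ.2) (hcs θ) with e | e <;> rw [e] <;> rfl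
  have hfib : ∀ θ η : {θ // θ ∈ NR D}, c η = c θ ↔ η.1 = θ.1 ∨ η.1 = θ.1⁻¹ := by
    intro θ η
    constructor
    · intro hc
      by_contra hne
      push Not at hne
      have h := sum_v_mul D (ne_one_of_NR D θ.2) (ne_one_of_NR D η.2)
      have h' := sum_two_supp D θ.2 (hca θ).symm (hsuppa _ θ.2) (hcs θ) (fun χ => v D η.1 χ)
      simp only [Int.cast_id] at h'
      rw [h, if_neg hne.1, if_neg hne.2, v_triv D (ne_one_of_NR D η.2),
        hae θ.1 (ne_one_of_NR D θ.2), hae η.1 (ne_one_of_NR D η.2), hee] at h'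
      have e1 := hdeg θ
      have e2 := hdeg η
      rw [hc] at e2
      have e3 : v D η.1 (c θ) = v D θ.1 (c θ) :=
        mul_right_cancel₀ (Int.natCast_ne_zero.2 (dg_pos (c θ)).ne') (e2.trans e1.symm)
      rw [e3, hvv] at h'
      omega
    · intro h
      have hmem : c η ∈ supp D θ.1 := by
        rcases h with h | h
        · rw [← h]; exact hcs η
        · have := hcs η
          rw [mem_supp, h, v_inv] at this
          exact (mem_supp D).2 this
      exact (hcall θ _ hmem).resolve_left (hca η)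
  set Cs := (univ : Finset {θ // θ ∈ NR D}).image c with hCs
  have hCsum : ∀ F : IrrCharacter G → ℂ, (2 : ℂ) * ∑ χ ∈ Cs, F χ = ∑ θ, F (c θ) := by
    intro F
    rw [hCs, Finset.sum_comp F c, Finset.mul_sum]
    refine Finset.sum_congr rfl fun χ hχ => ?_
    obtain ⟨θ, -, rfl⟩ := Finset.mem_image.1 hχ
    have : (univ.filter fun η => c η = c θ) = {θ, ⟨θ.1⁻¹, inv_mem_NR D θ.2⟩} := by
      ext η
      simp only [Finset.mem_filter, Finset.mem_univ, true_and, Finset.mem_insert,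
        Finset.mem_singleton]
      rw [hfib θ η, Subtype.ext_iff, Subtype.ext_iff]
    rw [this, Finset.card_pair (fun h => ne_inv_of_NR D θ.2 (congrArg Subtype.val h)),
      nsmul_eq_mul]
    norm_num
  have hCa : a ∉ Cs := fun h => by
    obtain ⟨θ, -, hθ⟩ := Finset.mem_image.1 h
    exact hca θ hθ
  have hCt : triv ∉ Cs := fun h => by
    obtain ⟨θ, -, hθ⟩ := Finset.mem_image.1 h
    exact ((mem_supp D).1 (hcs θ)).1 hθ
  set R := ((univ : Finset (IrrCharacter G)).erase triv).erase a \ Cs with hR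
  have hsplit : ∀ F : IrrCharacter G → ℂ,
      ∑ χ, F χ = F triv + F a + (1 / 2) * (∑ θ, F (c θ)) + ∑ χ ∈ R, F χ := by
    intro F
    have hsub : Cs ⊆ ((univ : Finset (IrrCharacter G)).erase triv).erase a := fun χ hχ =>
      Finset.mem_erase.2 ⟨fun e => hCa (e ▸ hχ),
        Finset.mem_erase.2 ⟨fun e => hCt (e ▸ hχ), mem_univ _⟩⟩
    rw [← hCsum F, ← Finset.add_sum_erase _ _ (mem_univ triv),
      ← Finset.add_sum_erase _ _ (Finset.mem_erase.2 ⟨hat, mem_univ a⟩),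
      ← Finset.sum_sdiff hsub, ← hR]
    ring
  have hcardN : ((univ : Finset {θ // θ ∈ NR D}).card : ℂ) = (k D : ℂ) - 2 := by
    rw [Finset.card_univ, Fintype.card_coe, ← card_NR D]; push_cast; ring
  set σ := tau D θ₀ with hσ
  have hσσ : σ * σ = 1 := by rcases tau_cases D θ₀ with e | e <;> rw [hσ, e] <;> rfl
  have hsumτ : ∑ θ : {θ // θ ∈ NR D}, (tau D θ.1 : ℂ) = -1 - σ := by
    have h := sum_tau_NR D h0 h0' hu
    have hs : ∑ θ : {θ // θ ∈ NR D}, tau D θ.1 = -1 - σ := by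
      rw [← h]; exact Finset.sum_coe_sort (NR D) (fun θ => tau D θ)
    exact_mod_cast hs
  have hττ : ∀ θ : {θ // θ ∈ NR D}, (tau D θ.1 : ℂ) * tau D θ.1 = 1 := fun θ => by
    rcases tau_cases D θ.1 with e | e <;> rw [e] <;> norm_num
  have hvvC : ∀ θ : {θ // θ ∈ NR D}, (v D θ.1 (c θ) : ℂ) * v D θ.1 (c θ) = 1 := fun θ => by
    exact_mod_cast hvv θ
  have hdegC : ∀ θ : {θ // θ ∈ NR D},
      (v D θ.1 (c θ) : ℂ) * (dg (c θ) : ℂ) = -(1 + (q : ℂ)) := fun θ => by
    exact_mod_cast hdeg θ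
  have hvalC : ∀ θ : {θ // θ ∈ NR D},
      (v D θ.1 (c θ) : ℂ) * (av D (c θ) : ℂ) = -2 * (tau D θ.1 : ℂ) := fun θ => by
    exact_mod_cast hval θ
  -- squares on the remaining characters
  have hRsq : ∑ χ ∈ R, av D χ * av D χ = 2 := by
    have h : (∑ χ, (av D χ : ℂ) * av D χ) = 2 * (k D : ℂ) := by exact_mod_cast sum_av_sq D
    rw [hsplit, Finset.sum_congr rfl (g := fun _ => (4 : ℂ)) (fun θ _ => ?_),
      Finset.sum_const, nsmul_eq_mul, hcardN, av_triv, haa] at h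
    · have h2 : ∑ χ ∈ R, (av D χ : ℂ) * av D χ = 2 := by
        push_cast at h; linear_combination h - heC
      exact_mod_cast h2
    · linear_combination ((v D θ.1 (c θ) : ℂ) * av D (c θ) - 2 * tau D θ.1) * hvalC θ -
        ((av D (c θ) : ℂ) ^ 2) * hvvC θ + 4 * hττ θ
  set E := R.filter fun χ => av D χ ≠ 0 with hE
  have hE1 : ∀ χ ∈ E, av D χ = 1 ∨ av D χ = -1 := fun χ hχ => by
    obtain ⟨h1, h2⟩ := Finset.mem_filter.1 hχ
    have hs := Finset.single_le_sum (f := fun χ => av D χ * av D χ)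
      (fun ψ _ => mul_self_nonneg _) h1
    rw [hRsq] at hs
    have : av D χ ≤ 1 := by nlinarith
    have : -1 ≤ av D χ := by nlinarith
    omega
  have hEcard : E.card = 2 := by
    have h : ∑ χ ∈ R, av D χ * av D χ = (E.card : ℤ) := by
      rw [Finset.card_eq_sum_ones, hE, Finset.sum_filter, Nat.cast_sum]
      refine Finset.sum_congr rfl fun χ hχ => ?_
      split_ifs with h
      · rcases hE1 χ (Finset.mem_filter.2 ⟨hχ, h⟩) with e | e <;> rw [e] <;> rfl
      · push Not at h; rw [h]; rfl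
    rw [hRsq] at h
    exact_mod_cast h.symm
  obtain ⟨η₁, η₂, hη, hEeq⟩ := Finset.card_eq_two.1 hEcard
  have hRsum : ∀ F : IrrCharacter G → ℂ, ∑ χ ∈ R, (av D χ : ℂ) * F χ =
      (av D η₁ : ℂ) * F η₁ + (av D η₂ : ℂ) * F η₂ := by
    intro F
    rw [← Finset.sum_pair hη (f := fun χ => (av D χ : ℂ) * F χ), ← hEeq, hE, Finset.sum_filter]
    refine Finset.sum_congr rfl fun χ _ => ?_
    split_ifs with h
    · rfl
    · push Not at h; rw [h, Int.cast_zero, zero_mul]
  set U₁ : ℤ := av D η₁ * dg η₁ with hU₁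
  set U₂ : ℤ := av D η₂ * dg η₂ with hU₂
  have hd0 : ∀ χ : IrrCharacter G, (dg χ : ℂ) ≠ 0 := fun χ => Nat.cast_ne_zero.2 (dg_pos χ).ne'
  have hq0 : (q : ℂ) ≠ 0 := by
    rw [hq]; push_cast
    exact mul_ne_zero (Int.cast_ne_zero.2 (by rcases he with rfl | rfl <;> norm_num)) (hd0 a)
  obtain ⟨θ₁, hθ₁⟩ := Finset.card_pos.1 (show 0 < (NR D).card by have := card_NR D; omega)
  have hq1 : (1 + (q : ℂ)) ≠ 0 := by
    intro h
    have := hdegC ⟨θ₁, hθ₁⟩
    rw [h, neg_zero] at this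
    rcases mul_eq_zero.1 this with h' | h'
    · have h2 := hvvC ⟨θ₁, hθ₁⟩
      rw [h', zero_mul] at h2; exact zero_ne_one h2
    · exact hd0 _ h'
  -- degree equation
  have hlin : (U₁ : ℂ) + U₂ = σ * (1 + q) := by
    have h : (∑ χ, (av D χ : ℂ) * (dg χ : ℂ)) = 0 := by exact_mod_cast sum_av_deg D
    have hc1 : ∀ θ : {θ // θ ∈ NR D}, (av D (c θ) : ℂ) * (dg (c θ) : ℂ) =
        2 * (1 + (q : ℂ)) * (tau D θ.1 : ℂ) := fun θ => by
      linear_combination ((v D θ.1 (c θ) : ℂ) * dg (c θ)) * hvalC θ -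
        2 * (tau D θ.1 : ℂ) * hdegC θ - ((av D (c θ) : ℂ) * dg (c θ)) * hvvC θ
    rw [hsplit, hRsum (fun χ => (dg χ : ℂ)), Finset.sum_congr rfl (fun θ _ => hc1 θ),
      ← Finset.mul_sum, hsumτ, av_triv, dg_triv, haa] at h
    push_cast [hU₁, hU₂, hq] at h ⊢
    linear_combination h
  -- the order
  have hG : (Nat.card G : ℤ) * (q - 1) ^ 2 = 4 * (k D : ℤ) ^ 3 * q * (q + 1) := by
    have h := pair_eq D hθ₁ (hca ⟨θ₁, hθ₁⟩).symm (hsuppa _ hθ₁) (hcs ⟨θ₁, hθ₁⟩)
    set w := c ⟨θ₁, hθ₁⟩ with hw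
    have hh : ((Nat.card G : ℚ) : ℂ) * (1 + ((v D θ₁ a : ℚ) * ((av D a : ℚ) ^ 2 / dg a) : ℚ) +
      (((v D θ₁ w : ℚ) * ((av D w : ℚ) ^ 2 / dg w) : ℚ) : ℂ)) =
        ((4 * (k D : ℚ) ^ 3 : ℚ) : ℂ) := by rw [← h]; push_cast; ring
    have e1 : (((v D θ₁ a : ℚ) * ((av D a : ℚ) ^ 2 / dg a) : ℚ) : ℂ) = 1 / (q : ℂ) := by
      rw [hae θ₁ (ne_one_of_NR D hθ₁), haa]
      push_cast [hq]
      have := hd0 a
      have he0 : (e : ℂ) ≠ 0 := Int.cast_ne_zero.2 (by rcases he with rfl | rfl <;> norm_num)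
      field_simp
      linear_combination (e : ℂ) ^ 2 * heC + heC
    have e2 : (((v D θ₁ w : ℚ) * ((av D w : ℚ) ^ 2 / dg w) : ℚ) : ℂ) = -4 / (1 + (q : ℂ)) := by
      push_cast
      rw [eq_div_iff hq1, show (1 + (q : ℂ)) = -((v D θ₁ w : ℂ) * (dg w : ℂ)) by
        rw [hdegC ⟨θ₁, hθ₁⟩]; ring]
      have := hd0 w
      field_simp
      linear_combination -((v D θ₁ w : ℂ) * av D w - 2 * tau D θ₁) * hvalC ⟨θ₁, hθ₁⟩ -
        4 * hττ ⟨θ₁, hθ₁⟩
    rw [e1, e2] at hh
    push_cast at hh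
    field_simp at hh
    have : (((Nat.card G : ℤ) * (q - 1) ^ 2 : ℤ) : ℂ) =
        ((4 * (k D : ℤ) ^ 3 * q * (q + 1) : ℤ) : ℂ) := by
      push_cast
      linear_combination hh
    exact_mod_cast this
  obtain ⟨n, hn, hGn⟩ := exists_card_odd D
  have hq4 : q % 4 = 1 := by
    have h := four_dvd D a
    rw [haa] at h
    obtain ⟨j, hj⟩ := h
    rw [hq]
    rcases he with rfl | rfl <;> omega
  obtain ⟨hqcases, hgq⟩ := q_cases (k D : ℤ) q n (Nat.card G : ℤ) (by omega)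
    (by rw [hGn]; push_cast; ring) (by exact_mod_cast hn) hq4 hqk hG
  -- cubes: the two remaining degrees agree
  have hη1 : ∀ χ ∈ E, (av D χ : ℂ) * av D χ = 1 := fun χ hχ => by
    rcases hE1 χ hχ with e | e <;> rw [e] <;> norm_num
  have hm1 := hη1 η₁ (by rw [hEeq]; simp)
  have hm2 := hη1 η₂ (by rw [hEeq]; simp)
  have hU0 : ∀ χ ∈ E, (av D χ : ℂ) * (dg χ : ℂ) ≠ 0 := fun χ hχ =>
    mul_ne_zero (Int.cast_ne_zero.2 (Finset.mem_filter.1 hχ).2) (hd0 χ)
  have hU1 : (U₁ : ℂ) ≠ 0 := by rw [hU₁]; push_cast; exact hU0 η₁ (by rw [hEeq]; simp)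
  have hU2 : (U₂ : ℂ) ≠ 0 := by rw [hU₂]; push_cast; exact hU0 η₂ (by rw [hEeq]; simp)
  have hinvdeg : ∀ θ : {θ // θ ∈ NR D},
      1 / (dg (c θ) : ℂ) = (v D θ.1 (c θ) : ℂ) * (-1 / (1 + (q : ℂ))) := fun θ => by
    have := hd0 (c θ)
    field_simp
    linear_combination hdegC θ
  have hainv : 1 / (dg a : ℂ) = (e : ℂ) / (q : ℂ) := by
    have := hd0 a
    have he0 : (e : ℂ) ≠ 0 := Int.cast_ne_zero.2 (by rcases he with rfl | rfl <;> norm_num)
    push_cast [hq]
    field_simp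
  have hkg : (k D : ℂ) * q * (q + 1) = (Nat.card G : ℂ) := by exact_mod_cast hgq.symm
  have hk0 : (k D : ℂ) ≠ 0 := Nat.cast_ne_zero.2 Nat.card_pos.ne'
  have hq1' : (q : ℂ) + 1 ≠ 0 := by rwa [add_comm] at hq1
  have hq2k : ((q : ℂ) - 1) ^ 2 = 4 * (k D : ℂ) ^ 2 := by
    rcases hqcases with h | h <;> rw [h] <;> push_cast <;> ring
  have hcube : (σ : ℂ) * (1 + q) * (1 / (U₁ : ℂ) + 1 / U₂) = 4 := by
    have h := card_mul_smul2 D D.t
    rw [npair_K D D.htK (t_ne_one D)] at h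
    have hc3 : ∀ θ : {θ // θ ∈ NR D}, conj ((c θ : G → ℂ) D.t) * (av D (c θ) : ℂ) ^ 2 /
        (dg (c θ) : ℂ) = (8 / (1 + (q : ℂ))) * (tau D θ.1 : ℂ) := fun θ => by
      rw [av_spec, map_intCast, div_eq_mul_one_div, hinvdeg]
      field_simp
      linear_combination -(((v D θ.1 (c θ) : ℂ) * av D (c θ)) ^ 2 +
          (v D θ.1 (c θ) : ℂ) * av D (c θ) * (-2 * tau D θ.1) + 4 * tau D θ.1 ^ 2) * hvalC θ +
        (v D θ.1 (c θ) : ℂ) * (av D (c θ) : ℂ) ^ 3 * hvvC θ + 8 * (tau D θ.1 : ℂ) * hττ θ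
    have hR3 : ∑ χ ∈ R, conj ((χ : G → ℂ) D.t) * (av D χ : ℂ) ^ 2 / (dg χ : ℂ) =
        1 / (U₁ : ℂ) + 1 / U₂ := by
      rw [Finset.sum_congr rfl (g := fun χ => (av D χ : ℂ) * ((av D χ : ℂ) ^ 2 / dg χ))
        (fun χ _ => by rw [av_spec, map_intCast]; ring), hRsum]
      have := hd0 η₁; have := hd0 η₂
      push_cast [hU₁, hU₂]
      have e1 : (av D η₁ : ℂ) ≠ 0 := left_ne_zero_of_mul (hm1.trans_ne one_ne_zero)
      have e2 : (av D η₂ : ℂ) ≠ 0 := left_ne_zero_of_mul (hm2.trans_ne one_ne_zero)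
      field_simp
      linear_combination
        (dg η₂ : ℂ) * av D η₂ * ((av D η₁ : ℂ) * av D η₁ + 1) * hm1 +
        (dg η₁ : ℂ) * av D η₁ * ((av D η₂ : ℂ) * av D η₂ + 1) * hm2
    rw [smul2, hsplit, hR3, Finset.sum_congr rfl (fun θ _ => hc3 θ), ← Finset.mul_sum, hsumτ,
      av_triv, dg_triv, triv_apply, map_one, av_spec D a, map_intCast, haa,
      div_eq_mul_one_div ((e : ℂ) * (e : ℂ) ^ 2), hainv, ← hkg] at h
    push_cast at h
    have h2 : ((q : ℂ) * (1 + q)) * (1 + (1 / (U₁ : ℂ) + 1 / U₂)) + (1 + q) +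
        4 * q * (-1 - σ) = 4 * (k D : ℂ) ^ 2 := by
      apply mul_left_cancel₀ hk0
      field_simp at h ⊢
      apply mul_left_cancel₀ (mul_ne_zero (two_ne_zero (α := ℂ)) hq1)
      linear_combination h -
        (((e : ℂ) * e + 1) * (2 * (1 + q)) * ((1 + q) * U₁ * U₂)) * heC
    have h3 : (q : ℂ) * ((1 + q) * (1 / (U₁ : ℂ) + 1 / U₂)) = q * (4 * σ) := by
      linear_combination h2 - hq2k
    have h4 := mul_left_cancel₀ hq0 h3
    have hσC : (σ : ℂ) * σ = 1 := by exact_mod_cast hσσ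
    linear_combination (σ : ℂ) * h4 + 4 * hσC
  have hUeq : (U₁ : ℂ) = U₂ := by
    rw [← hlin] at hcube
    field_simp at hcube
    have : ((U₁ : ℂ) - U₂) ^ 2 = 0 := by linear_combination hcube
    exact sub_eq_zero.1 (pow_eq_zero_iff two_ne_zero |>.1 this)
  -- the columns outside the conjugates of `K`
  have hmain : ∀ z : G, z ≠ 1 → ¬ InK D z → ∃ X : ℂ, IsIntegral ℤ X ∧
      (q + 1 : ℂ) * (q + X) + (2 * (k D : ℂ) - 2) * (1 + X) * q = 4 * (k D : ℂ) * npair z := by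
    intro z hz1 hzK
    set X : ℂ := (e : ℂ) * conj ((a : G → ℂ) z) with hX
    refine ⟨X, ?_, ?_⟩
    · rw [hX, ← IsChar.inv_apply (IsIrr.isCharacter a.2)]
      exact (isIntegral_algebraMap (R := ℤ) (x := e)).mul
        (IsChar.isIntegral (IsIrr.isCharacter a.2) _)
    have hP : ∀ θ : {θ // θ ∈ NR D},
        (v D θ.1 (c θ) : ℂ) * conj ((c θ : G → ℂ) z) = -(1 + X) := by
      intro θ
      have h := sum_v_off D θ.1 hzK
      rw [sum_two_supp D θ.2 (hca θ).symm (hsuppa _ θ.2) (hcs θ)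
        (fun χ => (χ : G → ℂ) z), triv_apply, hae θ.1 (ne_one_of_NR D θ.2)] at h
      have h' := congrArg conj h
      simp only [map_add, map_mul, map_one, map_zero, map_intCast] at h'
      rw [hX]; linear_combination h'
    have hct : ∑ χ : IrrCharacter G, (av D χ : ℂ) * conj ((χ : G → ℂ) z) = 0 := by
      simp only [← av_spec]
      exact second_orthogonality_not_isConj fun hc =>
        hzK ⟨D.t, D.htK, t_ne_one D, hc⟩
    have hlinz : (av D η₁ : ℂ) * conj ((η₁ : G → ℂ) z) + (av D η₂ : ℂ) * conj ((η₂ : G → ℂ) z) =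
        σ * (1 + X) := by
      have hc1 : ∀ θ : {θ // θ ∈ NR D}, (av D (c θ) : ℂ) * conj ((c θ : G → ℂ) z) =
          2 * (1 + X) * (tau D θ.1 : ℂ) := fun θ => by
        linear_combination ((v D θ.1 (c θ) : ℂ) * conj ((c θ : G → ℂ) z)) * hvalC θ -
          2 * (tau D θ.1 : ℂ) * hP θ - ((av D (c θ) : ℂ) * conj ((c θ : G → ℂ) z)) * hvvC θ
      rw [hsplit, hRsum (fun χ => conj ((χ : G → ℂ) z)), Finset.sum_congr rfl (fun θ _ => hc1 θ),
        ← Finset.mul_sum, hsumτ, av_triv, triv_apply, map_one, haa, Int.cast_one, ← hX] at hct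
      linear_combination hct
    have h := card_mul_smul2 D z
    have hc2 : ∀ θ : {θ // θ ∈ NR D}, conj ((c θ : G → ℂ) z) * (av D (c θ) : ℂ) ^ 2 /
        (dg (c θ) : ℂ) = 4 * (1 + X) / (1 + (q : ℂ)) := fun θ => by
      rw [div_eq_mul_one_div, hinvdeg]
      field_simp
      linear_combination -((v D θ.1 (c θ) : ℂ) * conj ((c θ : G → ℂ) z)) *
          ((v D θ.1 (c θ) : ℂ) * av D (c θ) - 2 * tau D θ.1) * hvalC θ -
        4 * (tau D θ.1 : ℂ) ^ 2 * hP θ + 4 * (1 + X) * hττ θ +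
        ((v D θ.1 (c θ) : ℂ) * conj ((c θ : G → ℂ) z) * (av D (c θ) : ℂ) ^ 2) * hvvC θ
    have hR2 : ∑ χ ∈ R, conj ((χ : G → ℂ) z) * (av D χ : ℂ) ^ 2 / (dg χ : ℂ) =
        σ * (1 + X) / U₁ := by
      rw [Finset.sum_congr rfl
        (g := fun χ => (av D χ : ℂ) * (conj ((χ : G → ℂ) z) * (av D χ : ℂ) / dg χ))
        (fun χ _ => by ring), hRsum, ← hlinz, add_div]
      congr 1
      · have := hd0 η₁
        have e1 : (av D η₁ : ℂ) ≠ 0 := left_ne_zero_of_mul (hm1.trans_ne one_ne_zero)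
        push_cast [hU₁]
        field_simp
        linear_combination conj ((η₁ : G → ℂ) z) * hm1
      · have := hd0 η₂
        have e2 : (av D η₂ : ℂ) ≠ 0 := left_ne_zero_of_mul (hm2.trans_ne one_ne_zero)
        rw [hUeq]
        push_cast [hU₂]
        field_simp
        linear_combination conj ((η₂ : G → ℂ) z) * hm2
    rw [smul2, hsplit, hR2, Finset.sum_congr rfl (fun θ _ => hc2 θ), Finset.sum_const,
      nsmul_eq_mul, hcardN, av_triv, dg_triv, triv_apply, map_one, haa,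
      div_eq_mul_one_div (conj ((a : G → ℂ) z) * (e : ℂ) ^ 2), hainv, ← hkg] at h
    have hU : (U₁ : ℂ) * 2 = σ * (1 + q) := by rw [← hlin, hUeq]; ring
    have hXe : conj ((a : G → ℂ) z) * (e : ℂ) ^ 2 * ((e : ℂ) / q) = X / q := by
      rw [hX]; linear_combination conj ((a : G → ℂ) z) * e / q * heC
    have hσU : (σ : ℂ) * (1 + X) / U₁ = 2 * (1 + X) / (1 + q) := by
      field_simp
      linear_combination -(1 + X) * hU
    rw [hXe, hσU] at h
    push_cast at h
    apply mul_left_cancel₀ hk0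
    field_simp at h
    apply mul_left_cancel₀ (mul_ne_zero (two_ne_zero (α := ℂ)) hq1)
    linear_combination (k D : ℂ) * h
  rcases hqcases with hq' | hq'
  · refine Or.inl ⟨by rw [hgq, hq']; ring, fun z hz1 hzK => ?_⟩
    obtain ⟨X, hXint, hXeq⟩ := hmain z hz1 hzK
    have hk1 : (k D : ℤ) ≠ 0 := by omega
    rw [hq'] at hXeq
    push_cast at hXeq
    have h2 : ((k D : ℤ) : ℂ) * X = (((npair z : ℤ) - (2 * k D + 1) : ℤ) : ℂ) := by
      push_cast
      apply mul_left_cancel₀ (mul_ne_zero (show (4 : ℂ) ≠ 0 by norm_num) hk0)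
      linear_combination hXeq
    obtain ⟨j, rfl⟩ := exists_int_of_mul hk1 hXint h2
    refine ⟨j, ?_⟩
    have : (k D : ℤ) * j = (npair z : ℤ) - (2 * k D + 1) := by exact_mod_cast h2
    omega
  · refine Or.inr ⟨by rw [hgq, hq']; ring, fun z hz1 hzK => ?_⟩
    obtain ⟨X, hXint, hXeq⟩ := hmain z hz1 hzK
    have hk1 : (1 - (k D : ℤ)) ≠ 0 := by omega
    rw [hq'] at hXeq
    push_cast at hXeq
    have h2 : ((1 - (k D : ℤ) : ℤ) : ℂ) * X = ((npair z : ℤ) : ℂ) := by
      push_cast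
      apply mul_left_cancel₀ (mul_ne_zero (show (4 : ℂ) ≠ 0 by norm_num) hk0)
      linear_combination hXeq
    obtain ⟨j, rfl⟩ := exists_int_of_mul hk1 hXint h2
    refine ⟨-j, ?_⟩
    have : (1 - (k D : ℤ)) * j = (npair z : ℤ) := by exact_mod_cast h2
    linear_combination -this

end Cfsg.Agent.H65.BSW
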