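import Cfsg.Agent.H65.BSW.Real
import Mathlib.GroupTheory.Nilpotent
import Mathlib.GroupTheory.SchurZassenhaus
import Mathlib.GroupTheory.Transfer
import Mathlib.Algebra.BigOperators.Finprod

/-!
# Auxiliary facts for the Brauer-Suzuki-Wall situation
-/

set_option autoImplicit false
set_option linter.unusedSectionVars false
set_option linter.style.haveILetI false

open Finset

namespace Cfsg.Agent.H65.BSW

universe u

variable {G : Type u} [Group G] [Finite G] (D : Data G)

omit D in
theorem card_cent_conj (z y : G) :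
    Nat.card ↥(Subgroup.centralizer ({y * z * y⁻¹} : Set G)) =
      Nat.card ↥(Subgroup.centralizer ({z} : Set G)) := by
  refine (Nat.card_congr (Equiv.subtypeEquiv (MulAut.conj y).toEquiv fun g => ?_)).symm
  rw [show (MulAut.conj y).toEquiv g = y * g * y⁻¹ from rfl,
    Subgroup.mem_centralizer_singleton_iff, Subgroup.mem_centralizer_singleton_iff]
  constructor
  · intro h
    calc y * g * y⁻¹ * (y * z * y⁻¹) = y * (g * z) * y⁻¹ := by group
      _ = y * (z * g) * y⁻¹ := by rw [h]
      _ = _ := by group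
  · intro h
    calc g * z = y⁻¹ * (y * g * y⁻¹ * (y * z * y⁻¹)) * y := by group
      _ = y⁻¹ * (y * z * y⁻¹ * (y * g * y⁻¹)) * y := by rw [h]
      _ = _ := by group

omit D in
theorem card_cent_of_isConj {a z : G} (h : IsConj a z) :
    Nat.card ↥(Subgroup.centralizer ({z} : Set G)) =
      Nat.card ↥(Subgroup.centralizer ({a} : Set G)) := by
  obtain ⟨y, rfl⟩ := isConj_iff.1 h
  exact card_cent_conj a y

omit D in
theorem card_class_mul (z : G) :
    Nat.card {x : G // IsConj z x} * Nat.card ↥(Subgroup.centralizer ({z} : Set G)) = Nat.card G :=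
  H26.card_conj_mul_card_centralizer z

omit D in
theorem npair_conj (z y : G) : npair (y * z * y⁻¹) = npair z := by
  refine (Nat.card_congr (Equiv.subtypeEquiv (MulAut.conj y).toEquiv fun v => ?_)).symm
  rw [show (MulAut.conj y).toEquiv v = y * v * y⁻¹ from rfl, H26.orderOf_conj_eq,
    show y * v * y⁻¹ * (y * z * y⁻¹) = y * (v * z) * y⁻¹ by group, H26.orderOf_conj_eq]

theorem npair_inK {z : G} (h : InK D z) : npair z = k D := by
  obtain ⟨x, hx, hx1, hc⟩ := h
  obtain ⟨y, rfl⟩ := isConj_iff.1 hc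
  rw [npair_conj, npair_K D hx hx1]

omit D in
theorem sum_npair [Fintype G] :
    ∑ z : G, npair z = Nat.card {v : G // orderOf v = 2} * Nat.card {v : G // orderOf v = 2} := by
  classical
  simp only [npair]
  rw [← Nat.card_sigma, ← Nat.card_prod]
  refine Nat.card_congr
    { toFun := fun p => (⟨p.2.1, p.2.2.1⟩, ⟨p.2.1 * p.1, p.2.2.2⟩)
      invFun := fun p => ⟨(p.1 : G) * (p.2 : G), ⟨p.1, p.1.2, by
        rw [← mul_assoc, mul_self_eq_one p.1.2, one_mul]; exact p.2.2⟩⟩
      left_inv := ?_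
      right_inv := ?_ }
  · rintro ⟨z, v, hv, hvz⟩
    have hz : v * (v * z) = z := by rw [← mul_assoc, mul_self_eq_one hv, one_mul]
    refine Sigma.subtype_ext ?_ rfl
    exact hz
  · rintro ⟨⟨a, ha⟩, ⟨b, hb⟩⟩
    refine Prod.ext rfl (Subtype.ext ?_)
    show a * (a * b) = b
    rw [← mul_assoc, mul_self_eq_one ha, one_mul]

theorem card_invol_subtype : Nat.card {v : G // orderOf v = 2} * (2 * k D) = Nat.card G := by
  classical
  haveI := Fintype.ofFinite G
  rw [Nat.card_eq_fintype_card, Fintype.card_subtype]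
  exact card_invols_mul D

omit D in
/-- A group all of whose Sylow subgroups for primes other than `p` are centralised by their
normalisers has a normal Sylow `p`-subgroup; with no exception it is abelian. -/
theorem commutator_dvd {H : Type u} [Group H] [Finite H] (r : ℕ) [Fact r.Prime]
    (h : ∀ R : Sylow r H, Subgroup.normalizer (R : Set H) ≤ Subgroup.centralizer (R : Set H)) :
    ¬ r ∣ Nat.card ↥(commutator H) := by
  obtain ⟨R⟩ := (inferInstance : Nonempty (Sylow r H))
  have hR := h R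
  intro hd
  refine MonoidHom.not_dvd_card_ker_transferSylow R hR (hd.trans (Subgroup.card_dvd_of_le ?_))
  haveI : IsMulCommutative ↥(R : Subgroup H) :=
    ⟨⟨fun a b => Subtype.ext (hR (Subgroup.le_normalizer b.2) a a.2)⟩⟩
  rw [commutator_def, Subgroup.commutator_le]
  intro a _ b _
  rw [MonoidHom.mem_ker, map_commutatorElement, commutatorElement_eq_one_iff_mul_comm]
  exact Std.Commutative.comm _ _

theorem normalizer_le_cent {X : Subgroup G} (hXK : X ≤ D.K) (hX : X ≠ ⊥) :
    Subgroup.normalizer (X : Set G) = Subgroup.centralizer ({D.t} : Set G) := by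
  ext n
  rw [Subgroup.mem_centralizer_singleton_iff]
  constructor
  · intro hn
    obtain ⟨x, hx, hx1⟩ := X.ne_bot_iff_exists_ne_one.1 hX |> fun ⟨x, hx⟩ =>
      (⟨(x : G), x.2, fun h => hx (Subtype.ext h)⟩ : ∃ x, x ∈ X ∧ x ≠ 1)
    exact commute_t_of_conj_mem D (hXK hx) hx1 (hXK ((Subgroup.mem_normalizer_iff.1 hn x).1 hx))
  · intro hn
    have key : ∀ g : G, Commute g D.t → ∀ x ∈ X, g * x * g⁻¹ ∈ X := fun g hg x hx => by
      rcases conj_eq D (hXK hx) hg with ⟨-, e⟩ | ⟨-, e⟩ <;> rw [e]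
      · exact hx
      · exact X.inv_mem hx
    refine Subgroup.mem_normalizer_iff.2 fun x => ⟨key n hn x, fun h => ?_⟩
    have := key n⁻¹ (Commute.inv_left hn) _ h
    rwa [show n⁻¹ * (n * x * n⁻¹) * n⁻¹⁻¹ = x by group] at this

theorem cent_t_eq_sup :
    Subgroup.centralizer ({D.t} : Set G) = D.K ⊔ Subgroup.zpowers D.s := by
  refine le_antisymm (fun g hg => ?_) (sup_le (fun x hx => ?_) ?_)
  · rw [Subgroup.mem_centralizer_singleton_iff] at hg
    rcases D.hH g hg with h | h
    · exact Subgroup.mem_sup_left h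
    · rw [show g = D.s * (D.s * g) by rw [← mul_assoc, mul_self_eq_one D.hs, one_mul]]
      exact mul_mem (Subgroup.mem_sup_right (Subgroup.mem_zpowers _)) (Subgroup.mem_sup_left h)
  · exact Subgroup.mem_centralizer_singleton_iff.2 (commute_t D hx)
  · rw [Subgroup.zpowers_le, Subgroup.mem_centralizer_singleton_iff]; exact D.hst

/-- The conclusion. -/
def Concl (G : Type u) [Group G] : Prop :=
  ∃ Q D : Subgroup G,
    2 * Nat.card G = Nat.card ↥Q * (Nat.card ↥Q + 1) * (Nat.card ↥Q - 1) ∧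
      (∀ x ∈ Q, x ≠ 1 → Subgroup.centralizer ({x} : Set G) = Q) ∧
      IsMulCommutative ↥D ∧ 2 * Nat.card ↥D + 1 = Nat.card ↥Q ∧ Q ⊓ D = ⊥ ∧
      Subgroup.normalizer (Q : Set G) = Q ⊔ D ∧
      ∀ X : Subgroup G, X ≤ D → X ≠ ⊥ →
        Subgroup.normalizer (X : Set G) = Subgroup.normalizer (D : Set G) ∧
        ∃ u : G, orderOf u = 2 ∧ u ∉ D ∧ (∀ d ∈ D, u * d * u⁻¹ = d⁻¹) ∧
          Subgroup.normalizer (D : Set G) = D ⊔ Subgroup.zpowers u

end Cfsg.Agent.H65.BSW
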