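import Cfsg.Agent.H65.BSW.Main
import Cfsg.Agent.S1853
import Cfsg.Agent.Fusion.Frobenius
import Cfsg.Agent.Cores.PCore
import Mathlib.GroupTheory.SpecificGroups.Dihedral

/-!
# Simple groups with a dihedral Sylow 2-subgroup and a small core of the involution centraliser
-/

set_option autoImplicit false
set_option linter.unusedSectionVars false
set_option linter.style.haveILetI false

open Finset
open scoped Pointwise

namespace Cfsg.Agent.H65.BSW

universe u

variable {G : Type u} [Group G] [Finite G]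

/-- A cyclic subgroup `R` of index two of the 2-group `S`, containing the involution `t`, inverted
by the involutions outside it. -/
structure Axis (S R : Subgroup G) (t : G) : Prop where
  two : IsPGroup 2 ↥S
  le : R ≤ S
  ht : orderOf t = 2
  htR : t ∈ R
  cyc : IsCyclic ↥R
  card : Nat.card ↥R * 2 = Nat.card ↥S
  htc : ∀ x ∈ S, Commute x t
  out : ∀ v ∈ S, v ∉ R → v * v = 1 ∧ ∀ x ∈ R, v * x * v⁻¹ = x⁻¹

theorem Axis.index {S R : Subgroup G} {t : G} (A : Axis S R t) : (R.subgroupOf S).index = 2 := by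
  have h := Subgroup.card_mul_index (R.subgroupOf S)
  rw [Nat.card_congr (Subgroup.subgroupOfEquivOfLe A.le).toEquiv, ← A.card] at h
  exact Nat.eq_of_mul_eq_mul_left Nat.card_pos h

theorem Axis.mul_mem_iff {S R : Subgroup G} {t : G} (A : Axis S R t) {a b : G} (ha : a ∈ S)
    (hb : b ∈ S) : a * b ∈ R ↔ (a ∈ R ↔ b ∈ R) := by
  have h := Subgroup.mul_mem_iff_of_index_two A.index (a := ⟨a, ha⟩) (b := ⟨b, hb⟩)
  simpa [Subgroup.mem_subgroupOf] using h

theorem Axis.eq_of_sq {S R : Subgroup G} {t : G} (A : Axis S R t) {x : G} (hx : x ∈ R)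
    (h : x * x = 1) : x = 1 ∨ x = t := by
  classical
  haveI := A.cyc
  haveI := Fintype.ofFinite ↥R
  by_contra hc
  push Not at hc
  have hle := IsCyclic.card_pow_eq_one_le (α := ↥R) (show 0 < 2 by norm_num)
  have hsub : ({1, ⟨t, A.htR⟩, ⟨x, hx⟩} : Finset ↥R) ⊆ univ.filter fun a => a ^ 2 = 1 := by
    intro a ha
    simp only [Finset.mem_insert, Finset.mem_singleton] at ha
    refine Finset.mem_filter.2 ⟨mem_univ _, ?_⟩
    rcases ha with rfl | rfl | rfl <;> ext <;> simp [pow_two, mul_self_eq_one A.ht, h]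
  have h3 : ({1, ⟨t, A.htR⟩, ⟨x, hx⟩} : Finset ↥R).card = 3 := by
    rw [Finset.card_eq_three]
    refine ⟨_, _, _, fun e => ?_, fun e => ?_, fun e => ?_, rfl⟩
    · exact ne_one_of_orderOf A.ht (congrArg Subtype.val e).symm
    · exact hc.1 (congrArg Subtype.val e).symm
    · exact hc.2 (congrArg Subtype.val e).symm
  have := (Finset.card_le_card hsub).trans hle
  omega

theorem zmod_two_facts : (Multiplicative.ofAdd (1 : ZMod 2)) * Multiplicative.ofAdd 1 = 1 ∧
    (Multiplicative.ofAdd (1 : ZMod 2)) ≠ 1 := by decide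

/-- A dihedral Sylow subgroup has an axis through the given central involution. -/
theorem exists_axis {S : Subgroup G} (hS2 : IsPGroup 2 ↥S) {n : ℕ} (hn : 2 ≤ n)
    (e : ↥S ≃* DihedralGroup n) {t : G} (ht : orderOf t = 2) (htS : t ∈ S)
    (htc : ∀ x ∈ S, Commute x t) :
    (∃ R, Axis S R t) ∧ ∀ R' : Subgroup G, R' ≤ S → IsCyclic ↥R' →
      Nat.card ↥R' * 2 = Nat.card ↥S → t ∈ R' → Axis S R' t := by
  haveI : NeZero n := ⟨by omega⟩
  have hcard : Nat.card ↥S = 2 * n := by rw [Nat.card_congr e.toEquiv, DihedralGroup.nat_card]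
  have gen : ∀ R' : Subgroup G, R' ≤ S → IsCyclic ↥R' → Nat.card ↥R' * 2 = Nat.card ↥S →
      t ∈ R' → Axis S R' t := by
    intro R' hle hcyc hc htR
    refine ⟨hS2, hle, ht, htR, hcyc, hc, htc, fun v hv hvR => ?_⟩
    have hcR : Nat.card ↥R' = n := by omega
    by_cases h2 : n = 2
    · subst h2
      have hsq : ∀ d : DihedralGroup 2, d * d = 1 := by decide
      have hcomm : ∀ d d' : DihedralGroup 2, d * d' = d' * d := by decide
      have hS1 : ∀ x ∈ S, x * x = 1 := fun x hx => congrArg Subtype.val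
        (e.injective (by rw [map_mul, map_one]; exact hsq _) : (⟨x, hx⟩ : ↥S) * ⟨x, hx⟩ = 1)
      refine ⟨hS1 v hv, fun x hx => ?_⟩
      have hc2 : v * x = x * v := congrArg Subtype.val
        (e.injective (by rw [map_mul, map_mul]; exact hcomm _ _) :
          (⟨v, hv⟩ : ↥S) * ⟨x, hle hx⟩ = ⟨x, hle hx⟩ * ⟨v, hv⟩)
      rw [hc2, mul_inv_cancel_right]
      exact eq_inv_of_mul_eq_one_left (hS1 x (hle hx))
    obtain ⟨g, hg⟩ := hcyc.exists_generator
    have hgo : orderOf (e ⟨g, hle g.2⟩) = n := by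
      rw [MulEquiv.orderOf_eq, ← Subgroup.orderOf_coe, Subgroup.orderOf_coe g,
        orderOf_eq_card_of_forall_mem_zpowers hg, hcR]
    obtain ⟨i, hi⟩ : ∃ i, e ⟨g, hle g.2⟩ = .r i := by
      rcases h : e ⟨g, hle g.2⟩ with i | i
      · exact ⟨i, rfl⟩
      · rw [h, DihedralGroup.orderOf_sr] at hgo; omega
    have hrot : ∀ x (hx : x ∈ R'), ∃ j, e ⟨x, hle hx⟩ = .r j := by
      intro x hx
      obtain ⟨m, hm⟩ := Subgroup.mem_zpowers_iff.1 (hg ⟨x, hx⟩)
      refine ⟨i * m, ?_⟩
      have : (⟨x, hle hx⟩ : ↥S) = (⟨g, hle g.2⟩ : ↥S) ^ m := Subtype.ext (by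
        rw [Subgroup.coe_zpow]; exact (congrArg Subtype.val hm).symm)
      rw [this, map_zpow, hi, DihedralGroup.r_zpow]
    -- the rotations are exactly the elements of `R'`
    obtain ⟨j, hj⟩ : ∃ j, e ⟨v, hv⟩ = .sr j := by
      rcases h : e ⟨v, hv⟩ with j | j
      · exfalso
        have hinj : Function.Injective fun x : ↥R' => ((hrot x x.2).choose : ZMod n) := fun a b hab => by
          have ea := (hrot a a.2).choose_spec
          have eb := (hrot b b.2).choose_spec
          exact Subtype.ext (congrArg Subtype.val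
            (e.injective (ea.trans ((congrArg DihedralGroup.r hab).trans eb.symm))) :)
        haveI := Fintype.ofFinite ↥R'
        obtain ⟨a, ha⟩ := ((Fintype.bijective_iff_injective_and_card _).2
          ⟨hinj, by rw [← Nat.card_eq_fintype_card, hcR, ZMod.card]⟩).2 j
        apply hvR
        have ea := (hrot a a.2).choose_spec
        rw [show (hrot a a.2).choose = j from ha] at ea
        have : (⟨a, hle a.2⟩ : ↥S) = ⟨v, hv⟩ := e.injective (ea.trans h.symm)
        rw [← show (a : G) = v from congrArg Subtype.val this]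
        exact a.2
      · exact ⟨j, rfl⟩
    refine ⟨congrArg Subtype.val (e.injective (by
      rw [map_mul, hj, map_one]; exact DihedralGroup.sr_mul_self j) :
        (⟨v, hv⟩ : ↥S) * ⟨v, hv⟩ = 1), fun x hx => ?_⟩
    obtain ⟨l, hl⟩ := hrot x hx
    refine congrArg Subtype.val (e.injective ?_ :
      (⟨v, hv⟩ : ↥S) * ⟨x, hle hx⟩ * (⟨v, hv⟩ : ↥S)⁻¹ = (⟨x, hle hx⟩ : ↥S)⁻¹)
    rw [map_mul, map_mul, map_inv, map_inv, hl, hj, DihedralGroup.sr_mul_r,
      DihedralGroup.inv_sr, DihedralGroup.sr_mul_sr, DihedralGroup.inv_r]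
    ring_nf
  refine ⟨?_, gen⟩
  by_cases h2 : n = 2
  · exact ⟨_, gen (Subgroup.zpowers t) (Subgroup.zpowers_le.2 htS) inferInstance
      (by rw [Nat.card_zpowers, ht, hcard, h2]) (Subgroup.mem_zpowers t)⟩
  set w : G := ((e.symm (.r 1) : ↥S) : G) with hw
  refine ⟨_, gen (Subgroup.zpowers w) (Subgroup.zpowers_le.2 (e.symm (.r 1)).2) inferInstance ?_ ?_⟩
  · rw [Nat.card_zpowers, hw, Subgroup.orderOf_coe, MulEquiv.orderOf_eq,
      DihedralGroup.orderOf_r_one, hcard, mul_comm]
  · obtain ⟨i, hi⟩ : ∃ i, e ⟨t, htS⟩ = .r i := by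
      rcases h : e ⟨t, htS⟩ with i | i
      · exact ⟨i, rfl⟩
      · exfalso
        have hc := congrArg e (Subtype.ext (htc _ (e.symm (.r 1)).2).eq :
          (e.symm (.r 1) : ↥S) * ⟨t, htS⟩ = ⟨t, htS⟩ * e.symm (.r 1))
        rw [map_mul, map_mul, h, MulEquiv.apply_symm_apply, DihedralGroup.r_mul_sr,
          DihedralGroup.sr_mul_r] at hc
        have h1 : i - 1 = i + 1 := by injection hc
        have h2' : ((2 : ℕ) : ZMod n) = 0 := by
          push_cast; linear_combination -h1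
        rw [ZMod.natCast_eq_zero_iff] at h2'
        have := Nat.le_of_dvd (by norm_num) h2'
        omega
    refine Subgroup.mem_zpowers_iff.2 ⟨(i.val : ℤ), ?_⟩
    have : (e.symm (.r 1) : ↥S) ^ (i.val : ℤ) = ⟨t, htS⟩ := e.injective (by
      rw [map_zpow, MulEquiv.apply_symm_apply, zpow_natCast, DihedralGroup.r_one_pow,
        ZMod.natCast_zmod_val, hi])
    exact congrArg Subtype.val this

/-- An element of odd order centralising `t` and normalising a subgroup of `S` centralises it. -/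
theorem Axis.odd_commutes {S R : Subgroup G} {t : G} (A : Axis S R t) {g : G}
    (hg : Odd (orderOf g)) (hgt : Commute g t) {P : Subgroup G} (hP : P ≤ S)
    (hgP : ∀ x ∈ P, g * x * g⁻¹ ∈ P) : ∀ x ∈ P, Commute g x := by
  have conjt : g * t * g⁻¹ = t := by rw [hgt.eq, mul_inv_cancel_right]
  have hsmall : ∀ x ∈ R, x * x = 1 → Commute g x := fun x hx h => by
    rcases A.eq_of_sq hx h with rfl | rfl
    exacts [Commute.one_right g, hgt]
  have key : ∀ j, ∀ x ∈ P, x ∈ R → x ^ 2 ^ j = 1 → Commute g x := by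
    intro j
    induction j with
    | zero => intro x _ _ h; rw [pow_zero, pow_one] at h; subst h; exact Commute.one_right g
    | succ j ih =>
      intro x hxP hxR hx
      by_cases hx2 : x * x = 1
      · exact hsmall x hxR hx2
      have hy : g * x * g⁻¹ ∈ R := by
        by_contra hc
        have h1 := (A.out _ (hP (hgP x hxP)) hc).1
        rw [show g * x * g⁻¹ * (g * x * g⁻¹) = g * (x * x) * g⁻¹ by group, conj_eq_one_iff] at h1
        exact hx2 h1
      have hsq := ih (x * x) (P.mul_mem hxP hxP) (R.mul_mem hxR hxR)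
        (by rw [← pow_two, ← pow_mul, ← pow_succ']; exact hx)
      haveI := A.cyc
      have hcomm : Commute (g * x * g⁻¹) x⁻¹ := congrArg Subtype.val
        ((IsCyclic.isMulCommutative (α := ↥R)).is_comm.comm ⟨_, hy⟩ ⟨_, R.inv_mem hxR⟩)
      have hu : (g * x * g⁻¹ * x⁻¹) * (g * x * g⁻¹ * x⁻¹) = 1 := by
        rw [hcomm.symm.mul_mul_mul_comm,
          show g * x * g⁻¹ * (g * x * g⁻¹) = g * (x * x) * g⁻¹ by group, hsq.eq,
          mul_inv_cancel_right]
        group
      rcases A.eq_of_sq (R.mul_mem hy (R.inv_mem hxR)) hu with h | h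
      · exact mul_inv_eq_iff_eq_mul.1 (mul_inv_eq_one.1 h)
      · exfalso
        have h' : g * x * g⁻¹ = t * x := mul_inv_eq_iff_eq_mul.1 h
        have hi : ∀ i : ℕ, g ^ i * x * (g ^ i)⁻¹ = t ^ i * x := by
          intro i
          induction i with
          | zero => simp
          | succ i ihi =>
            rw [pow_succ' g, show g * g ^ i * x * (g * g ^ i)⁻¹ = g * (g ^ i * x * (g ^ i)⁻¹) * g⁻¹
              by group, ihi, show g * (t ^ i * x) * g⁻¹ = (g * t * g⁻¹) ^ i * (g * x * g⁻¹) by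
                rw [conj_pow]; group, conjt, h', ← mul_assoc, ← pow_succ]
        have he := hi (orderOf g)
        obtain ⟨l, hl⟩ := hg
        rw [pow_orderOf_eq_one, one_mul, inv_one, mul_one, hl, pow_succ, pow_mul,
          pow_two, mul_self_eq_one A.ht, one_pow, one_mul] at he
        exact ne_one_of_orderOf A.ht (mul_eq_right.1 he.symm)
  have keyR : ∀ x ∈ P, x ∈ R → Commute g x := fun x hxP hxR => by
    obtain ⟨j, hj⟩ := A.two ⟨x, hP hxP⟩
    exact key j x hxP hxR (congrArg Subtype.val hj)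
  intro v hv
  by_cases hvR : v ∈ R
  · exact keyR v hv hvR
  have hgv : g * v * g⁻¹ ∉ R := by
    intro hc
    have hv2 := (A.out v (hP hv) hvR).1
    rcases A.eq_of_sq hc (by
      rw [show g * v * g⁻¹ * (g * v * g⁻¹) = g * (v * v) * g⁻¹ by group, hv2]; group) with h | h
    · exact hvR (by rw [conj_eq_one_iff.1 h]; exact R.one_mem)
    · refine hvR ?_
      rw [show v = t from mul_left_cancel (mul_right_cancel (h.trans conjt.symm))]
      exact A.htR
  set u := v⁻¹ * (g * v * g⁻¹) with hu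
  have huR : u ∈ R := (A.mul_mem_iff (S.inv_mem (hP hv)) (hP (hgP v hv))).2
    ⟨fun h => absurd (by simpa using R.inv_mem h) hvR, fun h => absurd h hgv⟩
  have hgu := keyR u (P.mul_mem (P.inv_mem hv) (hgP v hv)) huR
  have hi : ∀ i : ℕ, g ^ i * v * (g ^ i)⁻¹ = v * u ^ i := by
    intro i
    induction i with
    | zero => simp
    | succ i ihi =>
      rw [pow_succ' g, show g * g ^ i * v * (g * g ^ i)⁻¹ = g * (g ^ i * v * (g ^ i)⁻¹) * g⁻¹
        by group, ihi, show g * (v * u ^ i) * g⁻¹ = (g * v * g⁻¹) * (g * u * g⁻¹) ^ i by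
          rw [conj_pow]; group, hgu.eq, mul_inv_cancel_right, pow_succ' u,
        show g * v * g⁻¹ = v * u by rw [hu]; group, mul_assoc]
  have he := hi (orderOf g)
  rw [pow_orderOf_eq_one, one_mul, inv_one, mul_one] at he
  have hum : u ^ orderOf g = 1 := mul_eq_left.1 he.symm
  obtain ⟨j, hj⟩ := A.two ⟨u, A.le huR⟩
  have h1 : orderOf u ∣ 2 ^ j := orderOf_dvd_of_pow_eq_one (congrArg Subtype.val hj)
  have h2 : orderOf u ∣ orderOf g := orderOf_dvd_of_pow_eq_one hum
  have hu1 : u = 1 := orderOf_eq_one_iff.1 (Nat.eq_one_of_dvd_coprimes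
    ((Nat.coprime_two_right.2 hg).symm.pow_left j) h1 h2)
  exact mul_inv_eq_iff_eq_mul.1 (inv_mul_eq_one.1 hu1).symm

/-- The hypotheses of the abstract theorem hold. -/
theorem exists_data [IsSimpleGroup G] (S : Sylow 2 G) (n : ℕ) (hn : 2 ≤ n)
    (hS : Nonempty ((S : Subgroup G) ≃* DihedralGroup n)) (t : G) (ht : orderOf t = 2)
    (htS : t ∈ (S : Subgroup G)) (htZ : ∀ s ∈ (S : Subgroup G), s * t = t * s) (O : Subgroup G)
    (hO : O = (Cfsg.oddCore (Subgroup.centralizer ({t} : Set G))).map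
      (Subgroup.centralizer ({t} : Set G)).subtype)
    (ha : O ≠ ⊥ → IsCyclic ((S : Subgroup G) ⊓ Subgroup.centralizer (O : Set G) : Subgroup G) ∧
      ((S : Subgroup G) ⊓ Subgroup.centralizer (O : Set G)).relIndex (S : Subgroup G) = 2)
    (hb : ∀ s ∈ (S : Subgroup G), s ∉ Subgroup.centralizer (O : Set G) → ∀ y ∈ O, s * y * s⁻¹ = y⁻¹)
    (hc : ∀ Y : Subgroup G, Y ≤ O → Y ≠ ⊥ →
      Subgroup.normalizer (Y : Set G) ≤ Subgroup.centralizer ({t} : Set G)) :
    ∃ D : Data G, D.t = t := by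
  classical
  haveI : Fact (Nat.Prime 2) := ⟨Nat.prime_two⟩
  set C := Subgroup.centralizer ({t} : Set G) with hC
  have hmemC : ∀ g : G, g ∈ C ↔ Commute g t := fun g => by
    rw [hC, Subgroup.mem_centralizer_singleton_iff]; rfl
  obtain ⟨e⟩ := hS
  obtain ⟨⟨R₀, A₀⟩, hgen⟩ := exists_axis S.2 hn e ht htS htZ
  have hOC : O ≤ C := by rw [hO]; exact Subgroup.map_subtype_le _
  have hOodd : Odd (Nat.card ↥O) := by
    rw [hO, Subgroup.card_map_of_injective (Subgroup.subtype_injective _)]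
    exact Cores.odd_card_oddCore
  have hOt : ∀ y ∈ O, Commute y t := fun y hy => (hmemC y).1 (hOC hy)
  -- the axis centralising the core
  obtain ⟨R, A, hRO, hsO⟩ : ∃ R, Axis (S : Subgroup G) R t ∧ (∀ x ∈ R, ∀ y ∈ O, Commute x y) ∧
      ∀ v ∈ (S : Subgroup G), v ∉ R → ∀ y ∈ O, v * y * v⁻¹ = y⁻¹ := by
    by_cases hO1 : O = ⊥
    · refine ⟨R₀, A₀, fun x _ y hy => ?_, fun v _ _ y hy => ?_⟩ <;>
        (rw [hO1, Subgroup.mem_bot] at hy; subst hy)
      · exact Commute.one_right x
      · simp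
    obtain ⟨hcyc, hidx⟩ := ha hO1
    set R' := (S : Subgroup G) ⊓ Subgroup.centralizer (O : Set G) with hR'
    have hc' : Nat.card ↥R' * 2 = Nat.card ↥(S : Subgroup G) := by
      have h := Subgroup.card_mul_index (R'.subgroupOf (S : Subgroup G))
      rw [Nat.card_congr (Subgroup.subgroupOfEquivOfLe (inf_le_left : R' ≤ S)).toEquiv] at h
      rw [← h]
      congr 1
      exact hidx.symm
    refine ⟨R', hgen R' inf_le_left hcyc hc' (Subgroup.mem_inf.2 ⟨htS, ?_⟩), fun x hx y hy => ?_,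
      fun v hv hvR => hb v hv fun h => hvR (Subgroup.mem_inf.2 ⟨hv, h⟩)⟩
    · exact Subgroup.mem_centralizer_iff.2 fun y hy => (hOt y hy).eq
    · exact (Subgroup.mem_centralizer_iff.1 (Subgroup.mem_inf.1 hx).2 y hy).symm
  obtain ⟨s, hsS, hsR⟩ : ∃ s ∈ (S : Subgroup G), s ∉ R := by
    by_contra hcon
    push Not at hcon
    have h1 := A.card
    rw [le_antisymm A.le hcon] at h1
    have : 0 < Nat.card ↥(S : Subgroup G) := Nat.card_pos
    omega
  have hss : s * s = 1 := (A.out s hsS hsR).1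
  have hs1 : s ≠ 1 := fun h => hsR (h ▸ R.one_mem)
  have hsi : s⁻¹ = s := inv_eq_of_mul_eq_one_right hss
  have hOab : ∀ a ∈ O, ∀ b ∈ O, Commute a b := by
    intro a ha' b hb'
    have h := hsO s hsS hsR (a * b) (O.mul_mem ha' hb')
    rw [show s * (a * b) * s⁻¹ = (s * a * s⁻¹) * (s * b * s⁻¹) by group, hsO s hsS hsR a ha',
      hsO s hsS hsR b hb', mul_inv_rev] at h
    have h' := congrArg (fun x : G => x⁻¹) h
    simp only [mul_inv_rev, inv_inv] at h'
    exact h'.symm
  haveI hRcyc := A.cyc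
  have hRab : ∀ a ∈ R, ∀ b ∈ R, Commute a b := fun a ha' b hb' =>
    congrArg Subtype.val ((IsCyclic.isMulCommutative (α := ↥R)).is_comm.comm ⟨a, ha'⟩ ⟨b, hb'⟩)
  -- the normal complement in the centraliser
  have hSC : (S : Subgroup G) ≤ C := fun x hx => (hmemC x).2 (htZ x hx)
  set SC := S.subtype hSC with hSCdef
  have hcomp : Cfsg.HasNormalPComplement 2 ↥C := by
    refine (Fusion.frobenius_criterion SC).2 fun Q hQ g hg hg2 =>
      Subgroup.mem_centralizer_iff.2 fun x hx => ?_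
    have h := A.odd_commutes (g := (g : G)) (P := Q.map C.subtype)
      (by rw [Subgroup.orderOf_coe]; exact Nat.coprime_two_right.1 hg2)
      ((hmemC _).1 g.2)
      (by rintro _ ⟨x, hx, rfl⟩; exact hQ hx)
      (by
        rintro _ ⟨x, hx, rfl⟩
        exact ⟨g * x * g⁻¹, (Subgroup.mem_normalizer_iff.1 hg x).1 hx, rfl⟩)
      (x : G) (Subgroup.mem_map_of_mem C.subtype hx)
    exact Subtype.ext h.eq.symm
  have hdec : ∀ g : G, Commute g t → ∃ o ∈ O, ∃ v ∈ (S : Subgroup G), g = o * v := by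
    intro g hg
    obtain ⟨N, hN, hNc⟩ := (Fusion.hasNormalPComplement_iff_exists SC).1 hcomp
    have hNodd : Odd (Nat.card ↥N) := by
      rw [← Nat.not_even_iff_odd, even_iff_two_dvd]
      exact Fusion.not_dvd_card_of_isComplement' SC hNc
    have hle : N ≤ Cfsg.oddCore ↥C := Cores.le_oddCore hNodd
    have hall : (⟨g, (hmemC g).2 hg⟩ : ↥C) ∈ (N : Set ↥C) * ((SC : Subgroup ↥C) : Set ↥C) := by
      rw [hNc.mul_eq]; exact Set.mem_univ _
    obtain ⟨a, ha', b, hb', hab⟩ := Set.mem_mul.1 hall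
    refine ⟨a, ?_, b, hb', (congrArg Subtype.val hab).symm⟩
    rw [hO]; exact Subgroup.mem_map_of_mem _ (hle ha')
  -- `K`
  let K : Subgroup G :=
    { carrier := {x | ∃ y ∈ O, ∃ w ∈ R, x = y * w}
      one_mem' := ⟨1, O.one_mem, 1, R.one_mem, (mul_one _).symm⟩
      mul_mem' := by
        rintro _ _ ⟨y, hy, w, hw, rfl⟩ ⟨y', hy', w', hw', rfl⟩
        refine ⟨y * y', O.mul_mem hy hy', w * w', R.mul_mem hw hw', ?_⟩
        rw [show y * w * (y' * w') = y * (w * y') * w' by group, (hRO w hw y' hy').eq]; group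
      inv_mem' := by
        rintro _ ⟨y, hy, w, hw, rfl⟩
        exact ⟨y⁻¹, O.inv_mem hy, w⁻¹, R.inv_mem hw, by
          rw [(hRO w hw y hy).symm.eq, mul_inv_rev]⟩ }
  have hmemK : ∀ {x}, x ∈ K ↔ ∃ y ∈ O, ∃ w ∈ R, x = y * w := Iff.rfl
  have hcommK : ∀ x ∈ K, ∀ y ∈ K, Commute x y := by
    intro x hx x' hx'
    obtain ⟨y, hy, w, hw, rfl⟩ := hmemK.1 hx
    obtain ⟨y', hy', w', hw', rfl⟩ := hmemK.1 hx'
    exact ((hOab y hy y' hy').mul_right (hRO w' hw' y hy).symm).mul_left
      ((hRO w hw y' hy').mul_right (hRab w hw w' hw'))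
  have hOK : ∀ y ∈ O, y ∈ K := fun y hy => ⟨y, hy, 1, R.one_mem, (mul_one y).symm⟩
  have htK : t ∈ K := ⟨1, O.one_mem, t, A.htR, (one_mul t).symm⟩
  have hKt : ∀ x ∈ K, Commute x t := fun x hx => hcommK x hx t htK
  have hsq : ∀ x ∈ K, x * x = 1 → x = 1 ∨ x = t := by
    intro x hx h
    obtain ⟨y, hy, w, hw, rfl⟩ := hmemK.1 hx
    have h1 : (y * y) * (w * w) = 1 := by
      rw [← h, show y * w * (y * w) = y * (w * y) * w by group, (hRO w hw y hy).eq]; group
    obtain ⟨j, hj⟩ := A.two ⟨w, A.le hw⟩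
    have hw' : (w * w) ^ 2 ^ j = 1 := by
      rw [(Commute.refl w).mul_pow, show w ^ 2 ^ j = 1 from congrArg Subtype.val hj, one_mul]
    have h2 : (y * y) ^ 2 ^ j = 1 := by
      rw [eq_inv_of_mul_eq_one_left h1, inv_pow, hw', inv_one]
    have hyO : ∀ i, (y : G) ^ i = 1 → orderOf y ∣ i := fun i => orderOf_dvd_of_pow_eq_one
    have hyord : orderOf y ∣ 2 ^ (j + 1) := by
      apply hyO; rw [pow_succ' 2 j, pow_mul, pow_two, h2]
    have hy1 : y = 1 := orderOf_eq_one_iff.1 (Nat.eq_one_of_dvd_coprimes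
      ((Nat.coprime_two_right.2 hOodd).pow_right (j + 1))
      (Subgroup.orderOf_dvd_natCard O hy) hyord)
    subst hy1
    simp only [one_mul] at h1 ⊢
    exact A.eq_of_sq hw h1
  have hsinv : ∀ x ∈ K, s * x * s⁻¹ = x⁻¹ := by
    intro x hx
    obtain ⟨y, hy, w, hw, rfl⟩ := hmemK.1 hx
    rw [show s * (y * w) * s⁻¹ = (s * y * s⁻¹) * (s * w * s⁻¹) by group, hsO s hsS hsR y hy,
      (A.out s hsS hsR).2 w hw, mul_inv_rev]
    exact ((hRO w hw y hy).symm.inv_inv).eq
  have hsK : s ∉ K := by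
    intro h
    rcases hsq s h hss with e | e
    · exact hs1 e
    · exact hsR (e ▸ A.htR)
  have hH : ∀ g : G, Commute g t → g ∈ K ∨ s * g ∈ K := by
    intro g hg
    obtain ⟨o, ho, v, hv, rfl⟩ := hdec g hg
    by_cases hvR : v ∈ R
    · exact Or.inl ⟨o, ho, v, hvR, rfl⟩
    · refine Or.inr ⟨o⁻¹, O.inv_mem ho, s * v,
        (A.mul_mem_iff hsS hv).2 ⟨fun h => absurd h hsR, fun h => absurd h hvR⟩, ?_⟩
      rw [← hsO s hsS hsR o ho, hsi, show s * o * s * (s * v) = s * o * (s * s) * v by group, hss]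
      group
  have hTI : ∀ g : G, ∀ x ∈ K, x ≠ 1 → g * x * g⁻¹ ∈ K → Commute g t := by
    intro g x hx hx1 hgx
    rcases Nat.even_or_odd (orderOf x) with hev | hodd
    · obtain ⟨i, hi⟩ := hev
      have hipos : 0 < i := by have := orderOf_pos x; omega
      have hz : x ^ i = t := by
        refine (hsq _ (K.pow_mem hx i) (by rw [← pow_add, ← hi, pow_orderOf_eq_one])).resolve_left
          fun h => ?_
        have := Nat.le_of_dvd hipos (orderOf_dvd_of_pow_eq_one h)
        omega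
      have h2 : g * t * g⁻¹ ∈ K := by rw [← hz, ← conj_pow]; exact K.pow_mem hgx i
      rcases hsq _ h2 (by rw [show g * t * g⁻¹ * (g * t * g⁻¹) = g * (t * t) * g⁻¹ by group,
        mul_self_eq_one ht]; group) with h | h
      · exact absurd (conj_eq_one_iff.1 h) (ne_one_of_orderOf ht)
      · exact mul_inv_eq_iff_eq_mul.1 h
    have hoddO : ∀ z ∈ K, Odd (orderOf z) → z ∈ O := by
      intro z hz hzo
      obtain ⟨y, hy, w, hw, rfl⟩ := hmemK.1 hz
      obtain ⟨j, hj⟩ := A.two ⟨w, A.le hw⟩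
      have hcy : Commute y w := (hRO w hw y hy).symm
      have hcy' : (y * w) ^ Nat.card ↥O = w ^ Nat.card ↥O := by
        rw [hcy.mul_pow,
          orderOf_dvd_iff_pow_eq_one.1 (Subgroup.orderOf_dvd_natCard O hy), one_mul]
      have hwo : orderOf w ∣ Nat.card ↥O * orderOf (y * w) := by
        refine orderOf_dvd_of_pow_eq_one ?_
        rw [pow_mul, ← hcy', ← pow_mul, mul_comm, pow_mul, pow_orderOf_eq_one, one_pow]
      have hw1 : w = 1 := orderOf_eq_one_iff.1 (Nat.eq_one_of_dvd_coprimes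
        ((Nat.coprime_two_left.2 (hOodd.mul hzo)).pow_left j)
        (orderOf_dvd_of_pow_eq_one (congrArg Subtype.val hj)) hwo)
      rw [hw1, mul_one]; exact hy
    have hxO := hoddO x hx hodd
    have hx'O := hoddO _ hgx (by rw [H26.orderOf_conj_eq]; exact hodd)
    set x' := g * x * g⁻¹ with hx'
    have hx'1 : x' ≠ 1 := fun h => hx1 (conj_eq_one_iff.1 h)
    have hct : Commute (g * t * g⁻¹) x' :=
      (hOt x hxO).symm.map (MulAut.conj g).toMonoidHom
    have hN : g * t * g⁻¹ ∈ C := by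
      refine hc (Subgroup.zpowers x') (Subgroup.zpowers_le.2 hx'O)
        (fun h => hx'1 (Subgroup.zpowers_eq_bot.1 h)) ?_
      refine Subgroup.mem_normalizer_iff.2 fun w => ⟨fun hw => ?_, fun hw => ?_⟩
      · obtain ⟨i, rfl⟩ := Subgroup.mem_zpowers_iff.1 hw
        rw [(hct.zpow_right i).eq, mul_inv_cancel_right]; exact hw
      · obtain ⟨i, hi⟩ := Subgroup.mem_zpowers_iff.1 hw
        refine Subgroup.mem_zpowers_iff.2 ⟨i, ?_⟩
        have e1 : g * t * g⁻¹ * (x' ^ i) * (g * t * g⁻¹)⁻¹ = x' ^ i := by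
          rw [(hct.zpow_right i).eq, mul_inv_cancel_right]
        exact mul_left_cancel (mul_right_cancel (e1.trans hi))
    have hK' : g * t * g⁻¹ ∈ K := by
      rcases hH _ ((hmemC _).1 hN) with h | h
      · exact h
      exfalso
      have hb' := hct.eq
      have hcx : Commute (s * (g * t * g⁻¹)) x' := hcommK _ h x' hgx
      have h2 : s * x' = x' * s := by
        have e : s = (s * (g * t * g⁻¹)) * (g * t * g⁻¹)⁻¹ := by group
        rw [e]
        exact (hcx.mul_left hct.inv_left).eq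
      have h3 := hsinv x' hgx
      rw [h2, mul_inv_cancel_right] at h3
      have ho : orderOf x' = 2 :=
        H26.orderOf_two_of_mul_self (eq_inv_iff_mul_eq_one.1 h3) hx'1
      rw [H26.orderOf_conj_eq] at ho
      rw [ho] at hodd
      exact absurd hodd (by decide)
    rcases hsq _ hK' (by rw [show g * t * g⁻¹ * (g * t * g⁻¹) = g * (t * t) * g⁻¹ by group,
      mul_self_eq_one ht]; group) with h | h
    · exact absurd (conj_eq_one_iff.1 h) (ne_one_of_orderOf ht)
    · exact mul_inv_eq_iff_eq_mul.1 h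
  -- one class of involutions
  have hhom : ∀ f : G →* Multiplicative (ZMod 2), f = 1 := by
    intro f
    rcases Subgroup.Normal.eq_bot_or_eq_top f.normal_ker with h | h
    · exfalso
      have h1 := Nat.card_le_card_of_injective f ((MonoidHom.ker_eq_bot_iff f).1 h)
      rw [Nat.card_eq_fintype_card (α := Multiplicative (ZMod 2)), Fintype.card_multiplicative,
        ZMod.card] at h1
      have h2 := Subgroup.card_le_card_group (S : Subgroup G)
      rw [← A.card] at h2
      have h3 : 2 ≤ Nat.card ↥R := by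
        rw [← ht, ← Nat.card_zpowers]
        exact Subgroup.card_le_of_le (Subgroup.zpowers_le.2 A.htR)
      omega
    · exact MonoidHom.ker_eq_top_iff.1 h
  let φ : ↥(S : Subgroup G) →* Multiplicative (ZMod 2) :=
    { toFun := fun x => if (x : G) ∈ R then 1 else Multiplicative.ofAdd 1
      map_one' := if_pos R.one_mem
      map_mul' := by
        intro x y
        have h := A.mul_mem_iff x.2 y.2
        have h11 := zmod_two_facts.1
        by_cases hx : (x : G) ∈ R <;> by_cases hy : (y : G) ∈ R <;>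
          simp [hx, hy, h, Subgroup.coe_mul, h11] }
  have hone : ∀ v : G, orderOf v = 2 → IsConj t v := by
    intro v hv
    obtain ⟨T, hT⟩ := (IsPGroup.of_card (p := 2) (n := 1) (G := ↥(Subgroup.zpowers v))
      (by rw [Nat.card_zpowers, hv, pow_one])).exists_le_sylow
    obtain ⟨g, hg⟩ := MulAction.exists_smul_eq G T S
    have hwS : g * v * g⁻¹ ∈ (S : Subgroup G) := by
      rw [← hg]
      exact Subgroup.smul_mem_pointwise_smul v (MulAut.conj g) _ (hT (Subgroup.mem_zpowers v))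
    have hw2 : orderOf (g * v * g⁻¹) = 2 := by rw [H26.orderOf_conj_eq, hv]
    have hback : IsConj t (g * v * g⁻¹) → IsConj t v := fun h =>
      h.trans (isConj_iff.2 ⟨g⁻¹, by group⟩)
    apply hback
    by_cases hwR : g * v * g⁻¹ ∈ R
    · rcases A.eq_of_sq hwR (mul_self_eq_one hw2) with h | h
      · exact absurd h (ne_one_of_orderOf hw2)
      · rw [h]
    obtain ⟨y, -, hyS, hy1⟩ := S1853.exists_conj_mem S φ hhom _ hw2 hwS
      (by
        show (if g * v * g⁻¹ ∈ R then (1 : Multiplicative (ZMod 2)) else Multiplicative.ofAdd 1) ≠ 1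
        rw [if_neg hwR]; exact zmod_two_facts.2)
      (Subgroup.zpowers (g * v * g⁻¹))
      (IsPGroup.of_card (n := 1) (by rw [Nat.card_zpowers, hw2, pow_one]))
      (Subgroup.mem_zpowers _)
      (Subgroup.zpowers_le.2 (Subgroup.mem_centralizer_singleton_iff.2 rfl))
    have hy2 : orderOf (y⁻¹ * (g * v * g⁻¹) * y) = 2 := by
      simpa using (H26.orderOf_conj_eq y⁻¹ (g * v * g⁻¹)).trans hw2
    have hyR : y⁻¹ * (g * v * g⁻¹) * y ∈ R := by
      by_contra hcon
      have : φ ⟨_, hyS⟩ = Multiplicative.ofAdd 1 := if_neg hcon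
      rw [hy1] at this
      exact zmod_two_facts.2 this.symm
    rcases A.eq_of_sq hyR (mul_self_eq_one hy2) with h | h
    · exact absurd h (ne_one_of_orderOf hy2)
    · exact isConj_iff.2 ⟨y, by rw [← h]; group⟩
  exact ⟨{ t := t, s := s, K := K, ht := ht, hs := H26.orderOf_two_of_mul_self hss hs1,
           comm := hcommK, htK := htK, hst := htZ s hsS, hsK := hsK, hH := hH,
           hCK := fun x hx hxs => hsq x hx (by
             have h := hsinv x hx
             rw [show s * x = x * s from hxs.eq.symm, mul_inv_cancel_right] at h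
             exact eq_inv_iff_mul_eq_one.1 h),
           hinv := hsinv, hTI := hTI,
           hone := fun x y hx hy => (hone x hx).symm.trans (hone y hy) }, rfl⟩

end Cfsg.Agent.H65.BSW
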