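import Cfsg.Agent.H65.BSW.Setup

/-!
# Centralisers of the strongly real elements not conjugate into `K`
-/

set_option autoImplicit false
set_option linter.unusedSectionVars false
set_option linter.style.haveILetI false

open Finset

namespace Cfsg.Agent.H65.BSW

universe u

variable {G : Type u} [Group G] [Finite G] (D : Data G)

/-- A nontrivial element, not conjugate into `K`, inverted by the involution `u`. -/
structure Torus (u z : G) : Prop where
  hu : orderOf u = 2
  hz1 : z ≠ 1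
  hzK : ¬ InK D z
  hinv : u * z * u⁻¹ = z⁻¹

theorem no_invol_cent {z : G} (hz1 : z ≠ 1) (hzK : ¬ InK D z) {v : G} (hc : Commute v z) :
    orderOf v ≠ 2 :=
  fun hv => hzK (inK_of_commute_invol D hv hc.symm hz1)

theorem odd_cent {z : G} (hz1 : z ≠ 1) (hzK : ¬ InK D z) :
    Odd (Nat.card ↥(Subgroup.centralizer ({z} : Set G))) := by
  rw [← Nat.not_even_iff_odd, even_iff_two_dvd]
  intro h
  haveI : Fact (Nat.Prime 2) := ⟨Nat.prime_two⟩
  obtain ⟨v, hv⟩ := exists_prime_orderOf_dvd_card' 2 h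
  rw [← Subgroup.orderOf_coe] at hv
  exact no_invol_cent D hz1 hzK (Subgroup.mem_centralizer_singleton_iff.1 v.2) hv

theorem not_inK_cent {z : G} (hz1 : z ≠ 1) (hzK : ¬ InK D z) {w : G} (hc : Commute w z) :
    ¬ InK D w := by
  rintro ⟨x, hx, hx1, hxw⟩
  obtain ⟨y, hy⟩ := isConj_iff.1 hxw
  by_cases hx2 : x * x = 1
  · refine no_invol_cent D hz1 hzK hc ?_
    rw [← hy, H26.orderOf_conj_eq]
    exact H26.orderOf_two_of_mul_self hx2 hx1
  · refine hzK ((inK_conj_iff D y⁻¹).1 (inK_of_mem D (cent_mem D hx hx2 ?_) fun h =>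
      hz1 (conj_eq_one_iff.1 h)))
    have h := hc.symm.map (MulAut.conj y⁻¹).toMonoidHom
    have e : (MulAut.conj y⁻¹).toMonoidHom w = x := by
      rw [MulEquiv.coe_toMonoidHom, MulAut.conj_apply, ← hy]; group
    rw [e] at h
    exact h

/-- An involution normalising a nontrivial subgroup of elements outside the conjugates of `K`
inverts it. -/
theorem inverts {v : G} (hv : orderOf v = 2) (A : Subgroup G) (hA : ∀ a ∈ A, v * a * v⁻¹ ∈ A)
    (hK : ∀ a ∈ A, a ≠ 1 → ¬ InK D a) :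
    (∀ a ∈ A, v * a * v⁻¹ = a⁻¹) ∧ ∀ a ∈ A, ∀ b ∈ A, Commute a b := by
  have hvv := mul_self_eq_one hv
  let f : ↥A →* ↥A :=
    { toFun := fun a => ⟨v * (a : G) * v⁻¹, hA a a.2⟩
      map_one' := Subtype.ext (by simp)
      map_mul' := fun a b => Subtype.ext (by simp [mul_assoc]) }
  have hf : MonoidHom.FixedPointFree f := by
    intro a ha
    by_contra h1
    have h1' : (a : G) ≠ 1 := fun h => h1 (Subtype.ext h)
    refine hK a a.2 h1' (inK_of_commute_invol D hv ?_ h1')
    exact (mul_inv_eq_iff_eq_mul.1 (congrArg Subtype.val ha)).symm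
  have h2 : Function.Involutive f := by
    intro a
    apply Subtype.ext
    show v * (v * (a : G) * v⁻¹) * v⁻¹ = a
    rw [H65.inv_eq_self hv, show v * (v * (a : G) * v) * v = (v * v) * a * (v * v) by group, hvv]
    group
  refine ⟨fun a ha => ?_, fun a ha b hb => ?_⟩
  · have h := congrFun (hf.coe_eq_inv_of_involutive h2) ⟨a, ha⟩
    exact congrArg Subtype.val h
  · exact congrArg Subtype.val (hf.commute_all_of_involutive h2 ⟨a, ha⟩ ⟨b, hb⟩)

variable {D}

theorem Torus.conj {u z : G} (T : Torus D u z) (y : G) :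
    Torus D (y * u * y⁻¹) (y * z * y⁻¹) where
  hu := by rw [H26.orderOf_conj_eq]; exact T.hu
  hz1 := fun h => T.hz1 (conj_eq_one_iff.1 h)
  hzK := fun h => T.hzK ((inK_conj_iff D y).1 h)
  hinv := by
    rw [show y * u * y⁻¹ * (y * z * y⁻¹) * (y * u * y⁻¹)⁻¹ = y * (u * z * u⁻¹) * y⁻¹ by group,
      T.hinv]
    group

theorem Torus.inverts_cent {u z : G} (T : Torus D u z) :
    (∀ w : G, Commute w z → u * w * u⁻¹ = w⁻¹) ∧
      ∀ a b : G, Commute a z → Commute b z → Commute a b := by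
  have h := inverts D T.hu (Subgroup.centralizer ({z} : Set G)) (fun a ha => by
      rw [Subgroup.mem_centralizer_singleton_iff] at ha ⊢
      have h : Commute (u * a * u⁻¹) (u * z * u⁻¹) :=
        Commute.map (show Commute a z from ha) (MulAut.conj u).toMonoidHom
      rw [T.hinv] at h
      exact (Commute.inv_right_iff.1 h).eq)
    (fun a ha _ => not_inK_cent D T.hz1 T.hzK
      (show Commute a z from Subgroup.mem_centralizer_singleton_iff.1 ha))
  exact ⟨fun w hw => h.1 w (Subgroup.mem_centralizer_singleton_iff.2 hw),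
    fun a b ha hb => h.2 a (Subgroup.mem_centralizer_singleton_iff.2 ha) b
      (Subgroup.mem_centralizer_singleton_iff.2 hb)⟩

theorem Torus.of_cent {u z w : G} (T : Torus D u z) (hw1 : w ≠ 1) (hw : Commute w z) :
    Torus D u w :=
  ⟨T.hu, hw1, not_inK_cent D T.hz1 T.hzK hw, T.inverts_cent.1 w hw⟩

theorem Torus.cent_eq {u z w : G} (T : Torus D u z) (hw1 : w ≠ 1) (hw : Commute w z) :
    Subgroup.centralizer ({w} : Set G) = Subgroup.centralizer ({z} : Set G) := by
  ext a
  rw [Subgroup.mem_centralizer_singleton_iff, Subgroup.mem_centralizer_singleton_iff]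
  exact ⟨fun h => ((T.of_cent hw1 hw).inverts_cent.2 a z h hw.symm).eq,
    fun h => (T.inverts_cent.2 a w h hw).eq⟩

theorem Torus.npair_eq {u z : G} (T : Torus D u z) :
    npair z = Nat.card ↥(Subgroup.centralizer ({z} : Set G)) := by
  obtain ⟨hi, hcomm⟩ := T.inverts_cent
  have huu := mul_self_eq_one T.hu
  have hui := H65.inv_eq_self T.hu
  rw [npair]
  symm
  refine Nat.card_congr
    { toFun := fun c => ⟨u * (c : G), ?_⟩
      invFun := fun v => ⟨u * (v : G), ?_⟩
      left_inv := fun c => Subtype.ext (by simp only [← mul_assoc, huu, one_mul])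
      right_inv := fun v => Subtype.ext (by simp only [← mul_assoc, huu, one_mul]) }
  · have key : ∀ d : G, Commute d z → orderOf (u * d) = 2 := by
      intro d hd
      refine H26.orderOf_two_of_mul_self ?_ fun h => ?_
      · have := hi d hd
        rw [hui] at this
        rw [← mul_assoc, this, inv_mul_cancel]
      · rw [mul_eq_one_iff_eq_inv'] at h
        rw [h, hui] at hd
        exact no_invol_cent D T.hz1 T.hzK hd T.hu
    have hc : Commute (c : G) z := Subgroup.mem_centralizer_singleton_iff.1 c.2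
    refine ⟨key _ hc, ?_⟩
    rw [mul_assoc]
    exact key _ (hc.mul_left (Commute.refl z))
  · obtain ⟨hv, hvz⟩ := v.2
    rw [Subgroup.mem_centralizer_singleton_iff]
    have h1 : (v : G) * z * (v : G)⁻¹ = z⁻¹ := by
      rw [H65.inv_eq_self hv]
      exact eq_inv_of_mul_eq_one_left (by rw [mul_assoc]; exact mul_self_eq_one hvz)
    have h3 : u * (v : G) * z * (u * (v : G))⁻¹ = z := by
      rw [show u * (v : G) * z * (u * (v : G))⁻¹ = u * ((v : G) * z * (v : G)⁻¹) * u⁻¹ by group,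
        h1, show u * z⁻¹ * u⁻¹ = (u * z * u⁻¹)⁻¹ by group, T.hinv, inv_inv]
    exact mul_inv_eq_iff_eq_mul.1 h3

theorem torus_of_npair {z : G} (hz1 : z ≠ 1) (hzK : ¬ InK D z) (h : npair z ≠ 0) :
    ∃ u, Torus D u z := by
  obtain ⟨⟨v, hv, hvz⟩⟩ := (Nat.card_ne_zero.1 h).1
  refine ⟨v, hv, hz1, hzK, ?_⟩
  rw [H65.inv_eq_self hv]
  exact eq_inv_of_mul_eq_one_left (by rw [mul_assoc]; exact mul_self_eq_one hvz)

/-- Every torus can be moved so that it is inverted by `t`. -/
theorem Torus.exists_t {u z : G} (T : Torus D u z) : ∃ y : G, Torus D D.t (y * z * y⁻¹) := by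
  obtain ⟨y, hy⟩ := isConj_iff.1 (D.hone u D.t T.hu D.ht)
  exact ⟨y, hy ▸ T.conj y⟩

/-- The order of a torus centraliser divides the order of `G` and is prime to `k`. -/
theorem coprime_cent {z : G} (hz1 : z ≠ 1) (hzK : ¬ InK D z)
    (hK : ∀ r : ℕ, r.Prime → r ∣ k D → r ≠ 2 → ¬ r ∣ D.K.index) :
    (Nat.card ↥(Subgroup.centralizer ({z} : Set G))).Coprime (k D) := by
  refine Nat.coprime_of_dvd fun r hr h1 h2 => ?_
  haveI : Fact r.Prime := ⟨hr⟩
  obtain ⟨w, hw⟩ := exists_prime_orderOf_dvd_card' r h1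
  rw [← Subgroup.orderOf_coe] at hw
  have hwc : Commute (w : G) z := Subgroup.mem_centralizer_singleton_iff.1 w.2
  by_cases hr2 : r = 2
  · exact no_invol_cent D hz1 hzK hwc (hw.trans hr2)
  obtain ⟨y, hy⟩ := exists_conj_mem D.K (hK r hr h2 hr2) (w := (w : G)) ⟨1, by rw [hw, pow_one]⟩
  have hne : (w : G) ≠ 1 := fun h => hr.one_lt.ne' (by rw [← hw, h, orderOf_one])
  exact not_inK_cent D hz1 hzK hwc ((inK_conj_iff D y).1
    (inK_of_mem D hy fun h => hne (conj_eq_one_iff.1 h)))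

/-- If some element of prime order centralising `z'` is conjugate into a torus centraliser then so
is `z'`. -/
theorem Torus.conj_mem_of_prime {u z : G} (T : Torus D u z) {r : ℕ} [Fact r.Prime]
    (hr : ¬ r ∣ (Subgroup.centralizer ({z} : Set G)).index) {z' w : G} (hz' : z' ≠ 1)
    (hw : orderOf w = r) (hc : Commute w z') :
    ∃ y : G, Commute (y * z' * y⁻¹) z ∧ Torus D u (y * z' * y⁻¹) := by
  obtain ⟨y, hy⟩ := exists_conj_mem (Subgroup.centralizer ({z} : Set G)) hr (w := w)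
    ⟨1, by rw [hw, pow_one]⟩
  have hy' : Commute (y * w * y⁻¹) z := Subgroup.mem_centralizer_singleton_iff.1 hy
  have hne : y * w * y⁻¹ ≠ 1 := fun h =>
    (Fact.out : r.Prime).one_lt.ne' (by rw [← hw, conj_eq_one_iff.1 h, orderOf_one])
  have h2 : Commute (y * z' * y⁻¹) (y * w * y⁻¹) := hc.symm.map (MulAut.conj y).toMonoidHom
  have h3 : y * z' * y⁻¹ ∈ Subgroup.centralizer ({y * w * y⁻¹} : Set G) :=
    Subgroup.mem_centralizer_singleton_iff.2 h2
  rw [T.cent_eq hne hy'] at h3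
  have h4 := Subgroup.mem_centralizer_singleton_iff.1 h3
  exact ⟨y, h4, T.of_cent (fun h => hz' (conj_eq_one_iff.1 h)) h4⟩

/-- The normaliser of a torus centraliser inverted by `t`. -/
theorem Torus.normalizer_t {z : G} (T : Torus D D.t z) :
    ∃ L : Subgroup G, L ≤ D.K ∧ D.t ∈ L ∧ Subgroup.centralizer ({z} : Set G) ⊓ L = ⊥ ∧
      Subgroup.normalizer ((Subgroup.centralizer ({z} : Set G)) : Set G) =
        Subgroup.centralizer ({z} : Set G) ⊔ L ∧
      Nat.card ↥(Subgroup.normalizer ((Subgroup.centralizer ({z} : Set G)) : Set G)) =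
        Nat.card ↥(Subgroup.centralizer ({z} : Set G)) * Nat.card ↥L ∧
      ∀ g a : G, Commute a z → a ≠ 1 → Commute (g * a * g⁻¹) z →
        g ∈ Subgroup.normalizer ((Subgroup.centralizer ({z} : Set G)) : Set G) := by
  set A := Subgroup.centralizer ({z} : Set G) with hA
  have hmem : ∀ a, a ∈ A ↔ Commute a z := fun a => Subgroup.mem_centralizer_singleton_iff
  set N := Subgroup.normalizer (A : Set G) with hN
  obtain ⟨hi, hcomm⟩ := T.inverts_cent
  have hNmem : ∀ n ∈ N, ∀ a ∈ A, n * a * n⁻¹ ∈ A := fun n hn a ha =>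
    (Subgroup.mem_normalizer_iff.1 hn a).1 ha
  have htN : D.t ∈ N := by
    refine Subgroup.mem_normalizer_iff.2 fun a => ⟨fun ha => ?_, fun ha => ?_⟩
    · rw [hi a ((hmem a).1 ha)]; exact A.inv_mem ha
    · have h := hi _ ((hmem _).1 ha)
      rw [H65.inv_eq_self D.ht] at h
      have e : D.t * (D.t * a * D.t) * D.t = a := by
        rw [show D.t * (D.t * a * D.t) * D.t = (D.t * D.t) * a * (D.t * D.t) by group,
          mul_self_t D]
        group
      have hm : D.t * a * D.t ∈ A := by rwa [H65.inv_eq_self D.ht] at ha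
      rw [e] at h
      rw [h]
      exact A.inv_mem hm
  set L := N ⊓ Subgroup.centralizer ({D.t} : Set G) with hL
  have hLc : ∀ l ∈ L, Commute l D.t := fun l hl =>
    Subgroup.mem_centralizer_singleton_iff.1 (Subgroup.mem_inf.1 hl).2
  have hLK : L ≤ D.K := by
    intro l hl
    by_contra hlK
    obtain ⟨hl2, -⟩ := outside D (hLc l hl) hlK
    obtain ⟨hil, -⟩ := inverts D hl2 A (fun a ha => hNmem l (Subgroup.mem_inf.1 hl).1 a ha)
      (fun a ha _ => not_inK_cent D T.hz1 T.hzK ((hmem a).1 ha))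
    have hzA : z ∈ A := (hmem z).2 (Commute.refl z)
    have h1 : D.t * l * z * (D.t * l)⁻¹ = z := by
      rw [show D.t * l * z * (D.t * l)⁻¹ = D.t * (l * z * l⁻¹) * D.t⁻¹ by group, hil z hzA,
        show D.t * z⁻¹ * D.t⁻¹ = (D.t * z * D.t⁻¹)⁻¹ by group, T.hinv, inv_inv]
    have hl_ne : D.t * l ≠ 1 := fun h => hlK (by
      rw [← inv_eq_of_mul_eq_one_right h]; exact D.K.inv_mem D.htK)
    refine no_invol_cent D T.hz1 T.hzK (v := D.t * l) (mul_inv_eq_iff_eq_mul.1 h1) ?_
    refine H26.orderOf_two_of_mul_self ?_ hl_ne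
    rw [show D.t * l * (D.t * l) = D.t * (l * D.t) * l by group, (hLc l hl).eq,
      show D.t * (D.t * l) * l = (D.t * D.t) * (l * l) by group, mul_self_t D,
      mul_self_eq_one hl2, one_mul]
  have hdisj : A ⊓ L = ⊥ := by
    rw [eq_bot_iff]
    intro a ha
    obtain ⟨ha1, ha2⟩ := Subgroup.mem_inf.1 ha
    rw [Subgroup.mem_bot]
    by_contra h
    exact not_inK_cent D T.hz1 T.hzK ((hmem a).1 ha1) (inK_of_mem D (hLK ha2) h)
  have hdec : ∀ n ∈ N, ∃ a ∈ A, ∃ l ∈ L, n = a * l := by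
    intro n hn
    have h1 : D.t * (n * D.t * n⁻¹) ∈ A := by
      rw [hmem]
      have hi' : ∀ a ∈ A, D.t * a * D.t⁻¹ = a⁻¹ := fun a ha => hi a ((hmem a).1 ha)
      have hzA : n⁻¹ * z * n ∈ A := by
        have := hNmem n⁻¹ (N.inv_mem hn) z ((hmem z).2 (Commute.refl z))
        rwa [inv_inv] at this
      refine mul_inv_eq_iff_eq_mul.1
        (?_ : D.t * (n * D.t * n⁻¹) * z * (D.t * (n * D.t * n⁻¹))⁻¹ = z)
      rw [show D.t * (n * D.t * n⁻¹) * z * (D.t * (n * D.t * n⁻¹))⁻¹ =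
          D.t * (n * (D.t * (n⁻¹ * z * n) * D.t⁻¹) * n⁻¹) * D.t⁻¹ by group, hi' _ hzA,
        show n * (n⁻¹ * z * n)⁻¹ * n⁻¹ = z⁻¹ by group,
        show D.t * z⁻¹ * D.t⁻¹ = (D.t * z * D.t⁻¹)⁻¹ by group, T.hinv, inv_inv]
    set c := D.t * (n * D.t * n⁻¹) with hc
    obtain ⟨j, hj⟩ := (odd_cent D T.hz1 T.hzK)
    set b := c ^ (j + 1) with hb
    have hbA : b ∈ A := A.pow_mem h1 _
    have hbb : b * b = c := by
      rw [hb, ← pow_add, show j + 1 + (j + 1) = Nat.card ↥A + 1 by rw [hA, hj]; omega, pow_succ,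
        orderOf_dvd_iff_pow_eq_one.1 (Subgroup.orderOf_dvd_natCard A h1), one_mul]
    refine ⟨b⁻¹, A.inv_mem hbA, b * n, Subgroup.mem_inf.2
      ⟨N.mul_mem (Subgroup.le_normalizer hbA) hn, Subgroup.mem_centralizer_singleton_iff.2 ?_⟩,
      by group⟩
    have hti := H65.inv_eq_self D.ht
    have h2 : n * D.t * n⁻¹ = D.t * (b * b) := by
      rw [hbb, hc, ← mul_assoc, mul_self_t D, one_mul]
    have h3 : D.t * b * D.t = b⁻¹ := by
      have := hi b ((hmem b).1 hbA); rwa [hti] at this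
    have h4 : b * (n * D.t * n⁻¹) * b⁻¹ = D.t := by
      rw [h2, show b * (D.t * (b * b)) * b⁻¹ = b * D.t * b by group]
      calc b * D.t * b = D.t * (D.t * b * D.t) * b := by
            rw [show D.t * (D.t * b * D.t) * b = (D.t * D.t) * b * D.t * b by group,
              mul_self_t D, one_mul]
        _ = D.t := by rw [h3]; group
    calc b * n * D.t = (b * (n * D.t * n⁻¹) * b⁻¹) * (b * n) := by group
      _ = D.t * (b * n) := by rw [h4]
  have hsup : N = A ⊔ L := by
    refine le_antisymm (fun n hn => ?_) (sup_le Subgroup.le_normalizer inf_le_left)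
    obtain ⟨a, ha, l, hl, rfl⟩ := hdec n hn
    exact Subgroup.mul_mem_sup ha hl
  have hcard : Nat.card ↥N = Nat.card ↥A * Nat.card ↥L := by
    rw [← Nat.card_prod]
    symm
    refine Nat.card_eq_of_bijective (fun p : ↥A × ↥L => (⟨(p.1 : G) * (p.2 : G),
      N.mul_mem (Subgroup.le_normalizer p.1.2) (Subgroup.mem_inf.1 p.2.2).1⟩ : ↥N)) ⟨?_, ?_⟩
    · rintro ⟨a, l⟩ ⟨a', l'⟩ h
      have h' : (a : G) * l = a' * l' := congrArg Subtype.val h
      have h1 : (a' : G)⁻¹ * a = l' * (l : G)⁻¹ := by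
        rw [eq_mul_inv_iff_mul_eq, mul_assoc, h', inv_mul_cancel_left]
      have h2 : (a' : G)⁻¹ * a ∈ A ⊓ L :=
        Subgroup.mem_inf.2 ⟨A.mul_mem (A.inv_mem a'.2) a.2,
          h1 ▸ L.mul_mem l'.2 (L.inv_mem l.2)⟩
      rw [hdisj, Subgroup.mem_bot, inv_mul_eq_one] at h2
      rw [h2] at h'
      exact Prod.ext (Subtype.ext h2.symm) (Subtype.ext (mul_left_cancel h'))
    · rintro ⟨n, hn⟩
      obtain ⟨a, ha, l, hl, rfl⟩ := hdec n hn
      exact ⟨(⟨a, ha⟩, ⟨l, hl⟩), rfl⟩
  refine ⟨L, hLK, Subgroup.mem_inf.2 ⟨htN, Subgroup.mem_centralizer_singleton_iff.2 rfl⟩, hdisj,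
    hsup, hcard, fun g a ha ha1 hga => ?_⟩
  have h1 : Subgroup.centralizer ({g * a * g⁻¹} : Set G) = A :=
    T.cent_eq (fun h => ha1 (conj_eq_one_iff.1 h)) hga
  have h2 : Subgroup.centralizer ({a} : Set G) = A := T.cent_eq ha1 ha
  refine Subgroup.mem_normalizer_iff.2 fun x => ?_
  show x ∈ A ↔ g * x * g⁻¹ ∈ A
  conv_lhs => rw [← h2]
  conv_rhs => rw [← h1]
  simp only [Subgroup.mem_centralizer_singleton_iff]
  constructor
  · intro h
    exact (Commute.map (show Commute x a from h) (MulAut.conj g).toMonoidHom).eq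
  · intro h
    have e := Commute.map (show Commute (g * x * g⁻¹) (g * a * g⁻¹) from h)
      (MulAut.conj g⁻¹).toMonoidHom
    simp only [MulEquiv.coe_toMonoidHom, MulAut.conj_apply] at e
    rw [show g⁻¹ * (g * x * g⁻¹) * g⁻¹⁻¹ = x by group,
      show g⁻¹ * (g * a * g⁻¹) * g⁻¹⁻¹ = a by group] at e
    exact e

end Cfsg.Agent.H65.BSW
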