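import Mathlib.GroupTheory.Sylow
import Mathlib.GroupTheory.FixedPointFree
import Cfsg.Agent.H65.Invol
import Cfsg.Agent.H26.Invol

/-!
# Groups in the abstract Brauer-Suzuki-Wall situation

An involution `t` whose centraliser is `K⟨s⟩`, with `K` abelian, a TI set, and inverted by `s`,
all involutions being conjugate.
-/

set_option autoImplicit false
set_option linter.unusedSectionVars false
set_option linter.style.haveILetI false

open Finset

namespace Cfsg.Agent.H65.BSW

universe u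

/-- The hypotheses. -/
structure Data (G : Type u) [Group G] where
  t : G
  s : G
  K : Subgroup G
  ht : orderOf t = 2
  hs : orderOf s = 2
  comm : ∀ x ∈ K, ∀ y ∈ K, Commute x y
  htK : t ∈ K
  hst : Commute s t
  hsK : s ∉ K
  hH : ∀ g : G, Commute g t → g ∈ K ∨ s * g ∈ K
  hCK : ∀ x ∈ K, Commute x s → x = 1 ∨ x = t
  hinv : ∀ x ∈ K, s * x * s⁻¹ = x⁻¹
  hTI : ∀ g : G, ∀ x ∈ K, x ≠ 1 → g * x * g⁻¹ ∈ K → Commute g t
  hone : ∀ x y : G, orderOf x = 2 → orderOf y = 2 → IsConj x y

variable {G : Type u} [Group G] [Finite G] (D : Data G)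

/-- Conjugate to a nontrivial element of `K`. -/
def InK (z : G) : Prop := ∃ x ∈ D.K, x ≠ 1 ∧ IsConj x z

/-- The order of `K`. -/
noncomputable abbrev k : ℕ := Nat.card ↥D.K

theorem t_ne_one : D.t ≠ 1 := ne_one_of_orderOf D.ht

theorem mul_self_t : D.t * D.t = 1 := mul_self_eq_one D.ht

theorem even_k : Even (k D) := by
  rw [even_iff_two_dvd, ← D.ht]
  exact Subgroup.orderOf_dvd_natCard D.K D.htK

theorem commute_t {x : G} (hx : x ∈ D.K) : Commute x D.t := D.comm x hx _ D.htK

theorem eq_of_sq {x : G} (hx : x ∈ D.K) (h : x * x = 1) : x = 1 ∨ x = D.t :=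
  D.hCK x hx (by
    have h1 := D.hinv x hx
    rw [inv_eq_of_mul_eq_one_left h] at h1
    exact (mul_inv_eq_iff_eq_mul.1 h1).symm)

/-- The elements of the centraliser of `t` outside `K` are involutions inverting `K`. -/
theorem outside {v : G} (hv : Commute v D.t) (hvK : v ∉ D.K) :
    orderOf v = 2 ∧ ∀ x ∈ D.K, v * x * v⁻¹ = x⁻¹ := by
  have hm : D.s * v ∈ D.K := (D.hH v hv).resolve_left hvK
  have hss := mul_self_eq_one D.hs
  obtain ⟨x, hx, rfl⟩ : ∃ x ∈ D.K, v = D.s * x :=
    ⟨_, hm, by rw [← mul_assoc, hss, one_mul]⟩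
  have hi := D.hinv x hx
  rw [H65.inv_eq_self D.hs] at hi
  refine ⟨H26.orderOf_two_iff.2 ⟨?_, fun h => hvK (h ▸ D.K.one_mem)⟩, fun y hy => ?_⟩
  · rw [← mul_assoc, hi, inv_mul_cancel]
  · rw [show D.s * x * y * (D.s * x)⁻¹ = D.s * (x * y * x⁻¹) * D.s⁻¹ by group,
      (D.comm x hx y hy).eq, mul_inv_cancel_right, D.hinv y hy]

theorem conj_eq {g x : G} (hx : x ∈ D.K) (hg : Commute g D.t) :
    (g ∈ D.K ∧ g * x * g⁻¹ = x) ∨ (g ∉ D.K ∧ g * x * g⁻¹ = x⁻¹) := by
  by_cases h : g ∈ D.K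
  · exact Or.inl ⟨h, by rw [(D.comm g h x hx).eq, mul_inv_cancel_right]⟩
  · exact Or.inr ⟨h, (outside D hg h).2 x hx⟩

theorem commute_t_of_conj_mem {g x : G} (hx : x ∈ D.K) (hx1 : x ≠ 1)
    (h : g * x * g⁻¹ ∈ D.K) : Commute g D.t :=
  D.hTI g x hx hx1 h

theorem cent_mem {g x : G} (hx : x ∈ D.K) (hx2 : x * x ≠ 1) (h : Commute g x) : g ∈ D.K := by
  have hx1 : x ≠ 1 := fun e => hx2 (by rw [e, one_mul])
  have hfix : g * x * g⁻¹ = x := by rw [h.eq, mul_inv_cancel_right]
  have hg := commute_t_of_conj_mem D hx hx1 (hfix.symm ▸ hx)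
  rcases conj_eq D hx hg with ⟨hgK, -⟩ | ⟨-, hi⟩
  · exact hgK
  · exact absurd (mul_eq_one_iff_eq_inv.2 (hfix.symm.trans hi)) hx2

/-- The order of the centraliser of `t`. -/
theorem card_cent_t : Nat.card ↥(Subgroup.centralizer ({D.t} : Set G)) = 2 * k D := by
  classical
  haveI := Fintype.ofFinite G
  have hmem : ∀ g : G, g ∈ Subgroup.centralizer ({D.t} : Set G) ↔ Commute g D.t := fun g => by
    rw [Subgroup.mem_centralizer_singleton_iff]; rfl
  have e : ↥(Subgroup.centralizer ({D.t} : Set G)) ≃ ↥D.K ⊕ ↥D.K :=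
    { toFun := fun g => if h : (g : G) ∈ D.K then Sum.inl ⟨g, h⟩
        else Sum.inr ⟨D.s * g, (D.hH g ((hmem g).1 g.2)).resolve_left h⟩
      invFun := fun w => match w with
        | .inl x => ⟨x, (hmem _).2 (commute_t D x.2)⟩
        | .inr x => ⟨D.s * x, (hmem _).2 (D.hst.mul_left (commute_t D x.2))⟩
      left_inv := fun g => by
        by_cases h : (g : G) ∈ D.K
        · simp only [dif_pos h]
        · simp only [dif_neg h, ← mul_assoc, mul_self_eq_one D.hs, one_mul]
      right_inv := fun w => by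
        rcases w with ⟨x, hx⟩ | ⟨x, hx⟩
        · simp only [dif_pos hx]
        · have : D.s * x ∉ D.K := fun h => D.hsK ((D.K.mul_mem_cancel_right hx).1 h)
          simp only [dif_neg this, ← mul_assoc, mul_self_eq_one D.hs, one_mul] }
  rw [Nat.card_congr e, Nat.card_sum, two_mul]

/-- The elements of the centraliser of `t` outside `K`. -/
theorem card_outside [Fintype G] [DecidablePred fun v : G => Commute v D.t ∧ v ∉ D.K] :
    ((univ : Finset G).filter fun v => Commute v D.t ∧ v ∉ D.K).card = k D := by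
  classical
  rw [k, Nat.card_eq_fintype_card, ← Finset.card_univ]
  refine Finset.card_bij' (fun v hv => (⟨D.s * v, ?_⟩ : ↥D.K)) (fun x _ => D.s * (x : G))
    (fun v hv => mem_univ _) ?_ ?_ ?_
  · exact (D.hH v (Finset.mem_filter.1 hv).2.1).resolve_left (Finset.mem_filter.1 hv).2.2
  · intro x _
    refine Finset.mem_filter.2 ⟨mem_univ _, D.hst.mul_left (commute_t D x.2), fun h => ?_⟩
    exact D.hsK ((D.K.mul_mem_cancel_right x.2).1 h)
  · intro v _; simp only [← mul_assoc, mul_self_eq_one D.hs, one_mul]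
  · intro x _; ext; simp only [← mul_assoc, mul_self_eq_one D.hs, one_mul]

theorem inK_of_mem {x : G} (hx : x ∈ D.K) (h : x ≠ 1) : InK D x := ⟨x, hx, h, IsConj.refl _⟩

theorem inK_conj {z : G} (h : InK D z) (y : G) : InK D (y * z * y⁻¹) := by
  obtain ⟨x, hx, hx1, hc⟩ := h
  exact ⟨x, hx, hx1, hc.trans (isConj_iff.2 ⟨y, rfl⟩)⟩

theorem inK_conj_iff {z : G} (y : G) : InK D (y * z * y⁻¹) ↔ InK D z := by
  refine ⟨fun h => ?_, fun h => inK_conj D h y⟩
  have := inK_conj D h y⁻¹
  rwa [show y⁻¹ * (y * z * y⁻¹) * y⁻¹⁻¹ = z by group] at this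

theorem inK_invol {v : G} (hv : orderOf v = 2) : InK D v :=
  ⟨D.t, D.htK, t_ne_one D, D.hone _ _ D.ht hv⟩

theorem inK_ne_one {z : G} (h : InK D z) : z ≠ 1 := by
  obtain ⟨x, -, hx1, hc⟩ := h
  rintro rfl
  exact hx1 (isConj_one_left.1 hc)

theorem inK_orderOf {z : G} (h : InK D z) : orderOf z ∣ k D := by
  obtain ⟨x, hx, -, hc⟩ := h
  rw [← orderOf_of_isConj hc]
  exact Subgroup.orderOf_dvd_natCard D.K hx

/-- An element commuting with an involution is conjugate into `K`. -/
theorem inK_of_commute_invol {v w : G} (hv : orderOf v = 2) (hc : Commute w v) (hw : w ≠ 1) :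
    InK D w := by
  obtain ⟨y, hy⟩ := isConj_iff.1 (D.hone v D.t hv D.ht)
  rw [← inK_conj_iff D y]
  have hne : y * w * y⁻¹ ≠ 1 := fun h => hw (conj_eq_one_iff.1 h)
  have hc' : Commute (y * w * y⁻¹) D.t := hy ▸ hc.map (MulAut.conj y).toMonoidHom
  by_cases h : y * w * y⁻¹ ∈ D.K
  · exact inK_of_mem D h hne
  · exact inK_invol D (outside D hc' h).1

/-- The involutions. -/
theorem card_invols_mul [Fintype G] [DecidableEq G] :
    ((univ : Finset G).filter fun v => orderOf v = 2).card * (2 * k D) = Nat.card G := by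
  classical
  have h := H26.card_conj_mul_card_centralizer D.t
  rw [card_cent_t, Nat.card_eq_fintype_card (α := {g : G // IsConj D.t g}),
    Fintype.card_subtype] at h
  convert h using 3
  ext v
  simp only [Finset.mem_filter, Finset.mem_univ, true_and]
  exact ⟨fun h => D.hone _ _ D.ht h, fun h => (orderOf_of_isConj h).symm.trans D.ht⟩

open scoped Classical in
/-- The number of ways of writing `z` as a product of two involutions. -/
noncomputable def npair (z : G) : ℕ :=
  Nat.card {v : G // orderOf v = 2 ∧ orderOf (v * z) = 2}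

theorem npair_K {x : G} (hx : x ∈ D.K) (hx1 : x ≠ 1) : npair x = k D := by
  classical
  haveI := Fintype.ofFinite G
  rw [npair, Nat.card_eq_fintype_card, Fintype.card_subtype, ← card_outside D]
  congr 1
  ext v
  simp only [Finset.mem_filter, Finset.mem_univ, true_and]
  constructor
  · rintro ⟨hv, hvx⟩
    have h1 : v * x * v⁻¹ = x⁻¹ := by
      rw [H65.inv_eq_self hv]
      exact eq_inv_of_mul_eq_one_left (by rw [mul_assoc]; exact mul_self_eq_one hvx)
    have hvt := commute_t_of_conj_mem D hx hx1 (h1 ▸ D.K.inv_mem hx)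
    refine ⟨hvt, fun hvK => ?_⟩
    rcases eq_of_sq D hvK (mul_self_eq_one hv) with h | h
    · exact ne_one_of_orderOf hv h
    rcases eq_of_sq D (D.K.mul_mem hvK hx) (mul_self_eq_one hvx) with h' | h'
    · exact ne_one_of_orderOf hvx h'
    · subst h
      exact hx1 (mul_left_cancel (a := D.t) (by rw [h', mul_one]))
  · rintro ⟨hvt, hvK⟩
    exact ⟨(outside D hvt hvK).1, (outside D (hvt.mul_left (commute_t D hx))
      (fun h => hvK ((D.K.mul_mem_cancel_right hx).1 h))).1⟩

omit D in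
/-- The conjugates of the nontrivial elements of a TI subgroup. -/
theorem card_saturation (A N : Subgroup G) (hN : ∀ n ∈ N, ∀ a ∈ A, n * a * n⁻¹ ∈ A)
    (hTI : ∀ g : G, ∀ a ∈ A, a ≠ 1 → g * a * g⁻¹ ∈ A → g ∈ N) :
    Nat.card {z : G // ∃ a ∈ A, a ≠ 1 ∧ IsConj a z} * Nat.card ↥N =
      Nat.card G * (Nat.card ↥A - 1) := by
  classical
  haveI := Fintype.ofFinite G
  let T : Finset (G × G) := univ ×ˢ (univ.filter fun a => a ∈ A ∧ a ≠ 1)
  let f : G × G → G := fun p => p.1 * p.2 * p.1⁻¹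
  have hT : T.card = Nat.card G * (Nat.card ↥A - 1) := by
    rw [Finset.card_product, Finset.card_univ, Nat.card_eq_fintype_card (α := G),
      Nat.card_eq_fintype_card (α := ↥A), Fintype.card_subtype]
    congr 1
    rw [← Finset.card_erase_of_mem (show (1 : G) ∈ univ.filter (fun a => a ∈ A) by simp)]
    congr 1
    ext a; simp [and_comm]
  have hfib : ∀ z ∈ T.image f, (T.filter fun p => f p = z).card = Nat.card ↥N := by
    intro z hz
    obtain ⟨⟨y, a⟩, hp, rfl⟩ := Finset.mem_image.1 hz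
    simp only [T, Finset.mem_product, Finset.mem_filter, Finset.mem_univ, true_and] at hp
    rw [Nat.card_eq_fintype_card, ← Finset.card_univ]
    refine (Finset.card_bij (fun (n : ↥N) _ => ((y * (n : G)⁻¹, (n : G) * a * (n : G)⁻¹) : G × G))
      ?_ ?_ ?_).symm
    · intro n _
      simp only [T, f, Finset.mem_filter, Finset.mem_product, Finset.mem_univ, true_and]
      refine ⟨⟨hN n n.2 a hp.1, fun h => hp.2 (conj_eq_one_iff.1 h)⟩, ?_⟩
      group
    · intro n _ n' _ h
      exact Subtype.ext (inv_injective (mul_left_cancel (congrArg Prod.fst h)))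
    · intro q hq
      simp only [T, f, Finset.mem_filter, Finset.mem_product, Finset.mem_univ, true_and] at hq
      have h2 : q.2 = (q.1⁻¹ * y) * a * (q.1⁻¹ * y)⁻¹ := by
        rw [show q.2 = q.1⁻¹ * (q.1 * q.2 * q.1⁻¹) * q.1 by group, hq.2]; group
      refine ⟨⟨q.1⁻¹ * y, hTI _ a hp.1 hp.2 (h2 ▸ hq.1.1)⟩, mem_univ _, ?_⟩
      refine Prod.ext ?_ h2.symm
      show y * (q.1⁻¹ * y)⁻¹ = q.1
      group
  have himg : (T.image f).card = Nat.card {z : G // ∃ a ∈ A, a ≠ 1 ∧ IsConj a z} := by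
    rw [Nat.card_eq_fintype_card, Fintype.card_subtype]
    congr 1
    ext z
    simp only [Finset.mem_image, T, f, Finset.mem_product, Finset.mem_filter, Finset.mem_univ,
      true_and]
    constructor
    · rintro ⟨p, ⟨h1, h2⟩, rfl⟩; exact ⟨p.2, h1, h2, isConj_iff.2 ⟨p.1, rfl⟩⟩
    · rintro ⟨a, h1, h2, hc⟩
      obtain ⟨y, hy⟩ := isConj_iff.1 hc
      exact ⟨(y, a), ⟨h1, h2⟩, hy⟩
  rw [← hT, Finset.card_eq_sum_card_image f T, Finset.sum_const_nat hfib, himg]

theorem card_inK_mul :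
    Nat.card {z : G // InK D z} * (2 * k D) = Nat.card G * (k D - 1) := by
  have h := card_saturation D.K (Subgroup.centralizer ({D.t} : Set G))
    (fun n hn a ha => by
      rcases conj_eq D ha (Subgroup.mem_centralizer_singleton_iff.1 hn) with ⟨-, e⟩ | ⟨-, e⟩ <;>
        rw [e]
      · exact ha
      · exact D.K.inv_mem ha)
    (fun g a ha ha1 h => Subgroup.mem_centralizer_singleton_iff.2
      (commute_t_of_conj_mem D ha ha1 h))
  rw [card_cent_t] at h
  exact h

omit D in
/-- An `r`-element is conjugate into a subgroup of index prime to `r`. -/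
theorem exists_conj_mem {r : ℕ} [Fact r.Prime] (A : Subgroup G) (hA : ¬ r ∣ A.index)
    {w : G} (hw : ∃ j, orderOf w = r ^ j) : ∃ y : G, y * w * y⁻¹ ∈ A := by
  obtain ⟨j, hj⟩ := hw
  obtain ⟨P⟩ := (inferInstance : Nonempty (Sylow r ↥A))
  have hPi : ¬ r ∣ ((P : Subgroup ↥A).map A.subtype).index := by
    rw [Subgroup.index_map_subtype]
    intro h
    exact ((Fact.out : r.Prime).dvd_mul.1 h).elim P.not_dvd_index hA
  have hPp : IsPGroup r ↥((P : Subgroup ↥A).map A.subtype) := P.2.map _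
  let S : Sylow r G := hPp.toSylow hPi
  have hwp : IsPGroup r ↥(Subgroup.zpowers w) :=
    IsPGroup.of_card (n := j) (by rw [Nat.card_zpowers, hj])
  obtain ⟨T, hT⟩ := hwp.exists_le_sylow
  obtain ⟨y, hy⟩ := MulAction.exists_smul_eq G T S
  refine ⟨y, ?_⟩
  have : y * w * y⁻¹ ∈ (S : Subgroup G) := by
    rw [← hy, Sylow.coe_subgroup_smul]
    exact Subgroup.smul_mem_pointwise_smul w (MulAut.conj y) _ (hT (Subgroup.mem_zpowers w))
  exact Subgroup.map_subtype_le _ this

end Cfsg.Agent.H65.BSW
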